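import Cfsg.Agent.Lib.MinIndexSp.Two

/-!
The stabiliser of an elliptic quadratic form in `Sp(2m, 2)`.
-/

set_option autoImplicit false
set_option linter.unusedSectionVars false

namespace CfsgLib.MinIndexSp.Two

open Matrix Cfsg Module
open CfsgLib.Classical.SympTrans
open CfsgLib.RankOne (psi)

variable {F : Type*} [Field F] [Fintype F] [DecidableEq F] {m : ℕ}

local notation "V" => (Fin m ⊕ Fin m → F)
local notation "ω" => sympForm m F

/-- Quadratic forms polarising to `ω`. -/
def Polar (θ : V → F) : Prop := ∀ x y, θ (x + y) = θ x + θ y + ω x y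

/-- The Gauss sum. -/
noncomputable def gauss (θ : V → F) : ℂ := ∑ x, psi F (θ x)

theorem polar_zero (h2 : (2 : F) = 0) {θ : V → F} (hθ : Polar θ) : θ 0 = 0 := by
  have h := hθ 0 0
  rw [add_zero, f_self] at h
  linear_combination -h + θ 0 * h2 - θ 0 * h2

theorem gauss_sq (hq : Fintype.card F = 2) {θ : V → F} (hθ : Polar θ) : gauss θ * gauss θ = (2 : ℂ) ^ (2 * m) := by
  have h2 := two_eq_zero hq
  have hsq : ∀ x, psi F x * psi F x = 1 := fun x => by
    rcases zero_or_one hq x with rfl | rfl
    · rw [AddChar.map_zero_eq_one, mul_one]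
    · rw [psi_one hq]; ring
  rw [gauss, Finset.sum_mul_sum]
  have h1 : ∀ a, ∑ b, psi F (θ a) * psi F (θ b) = ∑ c, psi F (θ c) * psi F (ω a c) := fun a => by
    rw [← Equiv.sum_comp (Equiv.addLeft a) fun b => psi F (θ a) * psi F (θ b)]
    refine Finset.sum_congr rfl fun c _ => ?_
    show psi F (θ a) * psi F (θ (a + c)) = _
    rw [hθ, AddChar.map_add_eq_mul, AddChar.map_add_eq_mul, ← mul_assoc, ← mul_assoc, hsq, one_mul]
  rw [Finset.sum_congr rfl fun a _ => h1 a, Finset.sum_comm,
    Finset.sum_congr rfl fun c _ => (Finset.mul_sum _ _ _).symm, Finset.sum_eq_single (0 : V)]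
  · rw [polar_zero h2 hθ, AddChar.map_zero_eq_one, one_mul]
    simp [f_zero_right, hq, two_mul]
  · intro c _ hc
    obtain ⟨w, -, hw⟩ := exists_f_ne (mem_W_zero c) hc
    let η : AddChar V ℂ := (psi F).compAddMonoidHom (AddMonoidHom.mk' (fun a : V => ω a c) fun a a' => f_add_left a a' c)
    have hη : η ≠ 0 := fun h0 => by
      have : η w = 1 := by rw [h0, AddChar.zero_apply]
      simp only [η, AddChar.compAddMonoidHom_apply, AddMonoidHom.mk'_apply] at this
      refine hw ?_
      rw [f_swap, psi_cancel hq (this.trans (AddChar.map_zero_eq_one (psi F)).symm), neg_zero]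
    have hsum : ∑ a, psi F (ω a c) = ∑ a, η a := Finset.sum_congr rfl fun a _ => by
      simp only [η, AddChar.compAddMonoidHom_apply, AddMonoidHom.mk'_apply]
    rw [hsum, AddChar.sum_eq_zero_iff_ne_zero.2 hη, mul_zero]
  · simp

theorem gauss_shift (hq : Fintype.card F = 2) {θ : V → F} (hθ : Polar θ) (a : V) :
    gauss (fun x => θ x + ω x a) = psi F (θ a) * gauss θ := by
  have h2 := two_eq_zero hq
  rw [gauss, gauss, Finset.mul_sum, ← Equiv.sum_comp (Equiv.addRight a) fun x => psi F (θ x + ω x a)]
  refine Finset.sum_congr rfl fun x _ => ?_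
  show psi F (θ (x + a) + ω (x + a) a) = _
  rw [hθ, f_add_left, f_self, add_zero, add_assoc, show ω x a + ω x a = 0 by linear_combination ω x a * h2,
    add_zero, AddChar.map_add_eq_mul, mul_comm]

theorem exists_elliptic (hq : Fintype.card F = 2) (hm : 0 < m) :
    ∃ θ : V → F, Polar θ ∧ gauss θ = -(2 : ℂ) ^ m := by
  have h2 := two_eq_zero hq
  have hpol : Polar (fun x : V => β x x) := fun x y => by
    show β (x + y) (x + y) = β x x + β y y + ω x y
    rw [f_eq_β h2, β_add_left, β_add_right, β_add_right]; ring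
  have h := gauss_sq hq hpol
  rw [two_mul m, pow_add] at h
  rcases mul_self_eq_mul_self_iff.1 h with h | h
  swap
  · exact ⟨_, hpol, h⟩
  set a : V := Pi.single (.inl ⟨0, hm⟩) 1 + Pi.single (.inr ⟨0, hm⟩) 1 with ha
  have hβ : β a a = 1 := by
    rw [β, Finset.sum_eq_single ⟨0, hm⟩ (fun i _ hi => by simp [ha, hi]) (by simp)]
    simp [ha]
  refine ⟨fun x => β x x + ω x a, fun x y => ?_, ?_⟩
  · show β (x + y) (x + y) + ω (x + y) a = β x x + ω x a + (β y y + ω y a) + ω x y
    rw [f_add_left]; linear_combination hpol x y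
  · rw [gauss_shift hq hpol a, h, show β a a = 1 from hβ, psi_one hq]; ring

theorem center_eq_bot (hq : Fintype.card F = 2) : Subgroup.center (Matrix.symplecticGroup (Fin m) F) = ⊥ := by
  refine (Subgroup.eq_bot_iff_forall _).2 fun z hz => ext_app fun v => ?_
  rw [app_one]
  by_cases hv : v = 0
  · rw [hv]; exact mulVec_zero _
  obtain ⟨x, -, hx⟩ := exists_f_ne (mem_W_zero v) hv
  have hx1 : ω x v = 1 := (zero_or_one hq _).resolve_left fun h => hx (by rw [f_swap, h, neg_zero])
  have e : app (T (app z v) (1 : F)) x = app (T v 1) x := by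
    rw [← conj_T, (Subgroup.mem_center_iff.1 hz (T v 1)).symm, mul_inv_cancel_right]
  rw [app_T, app_T, hx1, one_mul, one_mul, one_smul, add_right_inj] at e
  rcases zero_or_one hq (ω x (app z v)) with h | h
  · rw [h, zero_smul] at e; exact absurd e.symm hv
  · rw [h, one_smul] at e; exact e

/-- A subgroup of index `2^(m-1) (2^m - 1)`. -/
theorem exists_index (hq : Fintype.card F = 2) (hm : 0 < m) :
    ∃ K : Subgroup (Matrix.symplecticGroup (Fin m) F), K.index = 2 ^ (m - 1) * (2 ^ m - 1) := by
  classical
  have h2 := two_eq_zero hq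
  obtain ⟨θ, hθ, hg⟩ := exists_elliptic (F := F) hq hm
  let K : Subgroup (Matrix.symplecticGroup (Fin m) F) :=
    { carrier := {g | ∀ x, θ (app g x) = θ x}
      one_mem' := fun x => by rw [app_one]
      mul_mem' := fun {a b} ha hb x => by rw [app_mul, ha, hb]
      inv_mem' := fun {a} ha x => by conv_rhs => rw [← app_inv' a x, ha] }
  refine ⟨K, ?_⟩
  let f : Matrix.symplecticGroup (Fin m) F → V → F := fun g x => θ (app g⁻¹ x)
  have hff : ∀ g g', f g = f g' ↔ g⁻¹ * g' ∈ K := by
    intro g g'
    constructor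
    · intro h x
      have := congrFun h (app g' x)
      simp only [f, app_inv] at this
      rw [app_mul]; exact this
    · intro h
      funext x
      have := h (app g'⁻¹ x)
      rw [app_mul, app_inv'] at this
      exact this
  let e : Matrix.symplecticGroup (Fin m) F ⧸ K ≃ Set.range f :=
    Equiv.ofBijective
      (fun c => ⟨Quotient.liftOn' c f fun a b hab => (hff a b).2 (QuotientGroup.leftRel_apply.1 hab),
        Quotient.inductionOn' c fun a => ⟨a, rfl⟩⟩)
      ⟨fun c c' => Quotient.inductionOn₂' c c' fun a b h =>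
          Quotient.sound' (QuotientGroup.leftRel_apply.2 ((hff a b).1 (congrArg Subtype.val h))),
        fun y => by obtain ⟨_, a, rfl⟩ := y; exact ⟨(a : _ ⧸ K), rfl⟩⟩
  rw [Subgroup.index, Nat.card_congr e]
  -- the range is the set of the shifts by singular vectors
  have hgauss : ∀ g, gauss (f g) = gauss θ := fun g =>
    Equiv.sum_comp ⟨app g⁻¹, app g, app_inv' g, app_inv g⟩ fun x => psi F (θ x)
  have hrange : Set.range f = (fun a x => θ x + ω x a) '' {a | θ a = 0} := by
    refine Set.Subset.antisymm ?_ ?_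
    · rintro _ ⟨g, rfl⟩
      let φ : V →ₗ[F] Module.Dual F V := LinearMap.mk₂ F (fun a x => ω x a)
        (fun a b x => f_add_right _ _ _) (fun c a x => f_smul_right c _ _)
        (fun a x y => f_add_left _ _ _) (fun c a x => f_smul_left c _ _)
      have hφ : Function.Injective φ := by
        rw [← LinearMap.ker_eq_bot, Submodule.eq_bot_iff]
        intro a ha
        refine eq_zero_of_f a fun v => ?_
        rw [f_swap, show ω v a = 0 from LinearMap.congr_fun ha v, neg_zero]
      have hadd : ∀ x y, f g (x + y) - θ (x + y) = (f g x - θ x) + (f g y - θ y) := fun x y => by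
        show θ (app g⁻¹ (x + y)) - θ (x + y) = (θ (app g⁻¹ x) - θ x) + (θ (app g⁻¹ y) - θ y)
        rw [app_add, hθ, hθ, f_app]; ring
      obtain ⟨a, ha⟩ := (LinearMap.injective_iff_surjective_of_finrank_eq_finrank
        Subspace.dual_finrank_eq.symm).1 hφ
          { toFun := fun x => f g x - θ x
            map_add' := hadd
            map_smul' := fun c x => by
              rcases zero_or_one hq c with rfl | rfl
              · simp only [zero_smul, RingHom.id_apply, f]
                rw [show app g⁻¹ (0 : V) = 0 from mulVec_zero _, sub_self]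
              · simp }
      have hfa : f g = fun x => θ x + ω x a := funext fun x => by
        have h : ω x a = f g x - θ x := LinearMap.congr_fun ha x
        rw [h]; ring
      refine ⟨a, ?_, hfa.symm⟩
      have h1 := hgauss g
      rw [hfa, gauss_shift hq hθ, hg] at h1
      refine psi_cancel hq ?_
      rw [AddChar.map_zero_eq_one]
      exact mul_right_cancel₀ (neg_ne_zero.2 (pow_ne_zero _ two_ne_zero)) (h1.trans (one_mul _).symm)
    · rintro _ ⟨a, ha : θ a = 0, rfl⟩
      refine ⟨T a 1, funext fun x => ?_⟩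
      show θ (app (T a 1)⁻¹ x) = θ x + ω x a
      rw [inv_eq_of_mul_eq_one_right (show T a (1 : F) * T a 1 = 1 by
        rw [T_mul, show (1 : F) + 1 = 0 by linear_combination h2, T_zero]), app_T, one_mul]
      rcases zero_or_one hq (ω x a) with h | h <;> rw [h]
      · rw [zero_smul, add_zero, add_zero]
      · rw [one_smul, hθ, ha, h, add_zero]
  rw [hrange, Nat.card_image_of_injective (fun a b e => ?_)]
  · -- the singular vectors
    set Z := Finset.univ.filter fun a : V => θ a = 0 with hZ
    rw [show Nat.card {a : V | θ a = 0} = Z.card by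
      rw [← Nat.card_eq_finsetCard]
      exact Nat.card_congr (Equiv.subtypeEquivRight fun a => by simp [hZ])]
    have h1 : ∑ a, (psi F (θ a) + 1) = 2 * (Z.card : ℂ) := by
      rw [Finset.sum_congr rfl (g := fun a => if θ a = 0 then (2 : ℂ) else 0) (fun a _ => by
        rcases zero_or_one hq (θ a) with h | h <;> rw [h]
        · rw [if_pos rfl, AddChar.map_zero_eq_one]; norm_num
        · rw [if_neg one_ne_zero, psi_one hq]; norm_num), ← Finset.sum_filter, Finset.sum_const, nsmul_eq_mul,
        mul_comm]
    rw [Finset.sum_add_distrib, Finset.sum_const, Finset.card_univ, nsmul_one, ← gauss, hg, Fintype.card_fun,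
      hq, Fintype.card_sum, Fintype.card_fin] at h1
    have h3 : 2 * Z.card + 2 ^ m = 2 ^ (m + m) := by
      have : ((2 * Z.card + 2 ^ m : ℕ) : ℂ) = ((2 ^ (m + m) : ℕ) : ℂ) := by push_cast at h1 ⊢; linear_combination -h1
      exact_mod_cast this
    have e : 2 * (2 ^ (m - 1) * (2 ^ m - 1)) + 2 ^ m = 2 ^ (m + m) := by
      have : 2 * 2 ^ (m - 1) = 2 ^ m := by rw [← pow_succ', show m - 1 + 1 = m by omega]
      rw [← mul_assoc, this, Nat.mul_sub, mul_one, ← pow_add]
      exact Nat.sub_add_cancel (Nat.pow_le_pow_right two_pos (by omega))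
    omega
  · refine sub_eq_zero.1 (eq_zero_of_f _ fun v => ?_)
    have := congrFun e v
    rw [f_swap, f_sub_right, show ω v a = ω v b from add_left_cancel this, sub_self, neg_zero]

end CfsgLib.MinIndexSp.Two
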