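import Mathlib

/-!
An abelian group acting on a finite set: the characters trivial on some point stabiliser are at
most as many as the points.
-/

set_option autoImplicit false
set_option linter.unusedSectionVars false

namespace CfsgLib.MinIndexSp

open scoped Pointwise

variable {A : Type*} [AddCommGroup A] {G : Type*} [Group G] {X : Type*} [MulAction G X] (u : AddChar A G)

theorem u_neg (a : A) : u (-a) = (u a)⁻¹ :=
  eq_inv_of_mul_eq_one_left (by rw [← AddChar.map_add_eq_mul, neg_add_cancel, AddChar.map_zero_eq_one])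

/-- The elements fixing a point. -/
def St (x : X) : AddSubgroup A where
  carrier := {a | u a • x = x}
  add_mem' {a b} ha hb := by
    show u (a + b) • x = x
    rw [AddChar.map_add_eq_mul, mul_smul, show u b • x = x from hb]; exact ha
  zero_mem' := by
    show u 0 • x = x
    rw [AddChar.map_zero_eq_one, one_smul]
  neg_mem' {a} ha := by
    show u (-a) • x = x
    rw [u_neg]
    conv_lhs => rw [← show u a • x = x from ha, inv_smul_smul]

/-- The character is trivial on the stabiliser of `x`. -/
def At (χ : AddChar A ℂ) (x : X) : Prop := ∀ a ∈ St u x, χ a = 1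

theorem At.mul {χ χ' : AddChar A ℂ} {x : X} (h : At u χ x) (h' : At u χ' x) : At u (χ * χ') x :=
  fun a ha => by rw [AddChar.mul_apply, h a ha, h' a ha, one_mul]

theorem At.one (x : X) : At u (1 : AddChar A ℂ) x := fun _ _ => rfl

theorem At.inv {χ : AddChar A ℂ} {x : X} (h : At u χ x) : At u χ⁻¹ x :=
  fun a ha => by rw [AddChar.inv_apply]; exact h _ ((St u x).neg_mem ha)

theorem St_smul (b : A) (x : X) : St u (u b • x) = St u x := by
  ext a
  show u a • u b • x = u b • x ↔ u a • x = x
  rw [← mul_smul, ← AddChar.map_add_eq_mul, add_comm, AddChar.map_add_eq_mul, mul_smul, smul_left_cancel_iff]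

theorem at_smul (χ : AddChar A ℂ) (b : A) (x : X) : At u χ (u b • x) ↔ At u χ x := by
  rw [At, At, St_smul]

/-- Transport by a normalising element. -/
theorem mem_St_conj {g : G} {a b : A} (h : g * u a * g⁻¹ = u b) (x : X) : b ∈ St u (g • x) ↔ a ∈ St u x := by
  show u b • g • x = g • x ↔ u a • x = x
  rw [← mul_smul, ← h, inv_mul_cancel_right, mul_smul, smul_left_cancel_iff]

section Finite

variable [Finite A]

/-- A character trivial on the stabiliser separates an element outside it. -/
theorem exists_at {a : A} {x : X} (ha : a ∉ St u x) : ∃ χ : AddChar A ℂ, At u χ x ∧ χ a ≠ 1 := by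
  obtain ⟨ψ, hψ⟩ := (AddChar.exists_apply_ne_zero (α := A ⧸ St u x) (a := (a : A ⧸ St u x))).2
    (by rwa [Ne, QuotientAddGroup.eq_zero_iff])
  refine ⟨ψ.compAddMonoidHom (QuotientAddGroup.mk' (St u x)), fun b hb => ?_, hψ⟩
  show ψ (b : A ⧸ St u x) = 1
  rw [(QuotientAddGroup.eq_zero_iff b).2 hb, AddChar.map_zero_eq_one]

/-- The orbit of `x`. -/
def orb (x : X) : Set X := Set.range fun a => u a • x

theorem card_at (x : X) : Nat.card {χ : AddChar A ℂ // At u χ x} = Nat.card (orb u x) := by
  have := Fintype.ofFinite (A ⧸ St u x)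
  have e1 : {χ : AddChar A ℂ // At u χ x} ≃ AddChar (A ⧸ St u x) ℂ :=
    { toFun := fun χ =>
        { toFun := fun c => Quotient.liftOn' c χ.1 fun a b hab => by
            have h := χ.2 _ (QuotientAddGroup.leftRel_apply.1 hab)
            rw [AddChar.map_add_eq_mul] at h
            calc χ.1 a = χ.1 a * (χ.1 (-a) * χ.1 b) := by rw [h, mul_one]
              _ = χ.1 b := by rw [← mul_assoc, ← AddChar.map_add_eq_mul, add_neg_cancel, AddChar.map_zero_eq_one, one_mul]
          map_zero_eq_one' := χ.1.map_zero_eq_one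
          map_add_eq_mul' := fun c c' => Quotient.inductionOn₂' c c' fun a b => χ.1.map_add_eq_mul a b }
      invFun := fun ψ => ⟨ψ.compAddMonoidHom (QuotientAddGroup.mk' (St u x)), fun b hb => by
        show ψ (b : A ⧸ St u x) = 1
        rw [(QuotientAddGroup.eq_zero_iff b).2 hb, AddChar.map_zero_eq_one]⟩
      left_inv := fun χ => Subtype.ext (DFunLike.ext _ _ fun a => rfl)
      right_inv := fun ψ => DFunLike.ext _ _ fun c => Quotient.inductionOn' c fun a => rfl }
  have e2 : A ⧸ St u x ≃ orb u x := by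
    have key : ∀ a b : A, u a • x = u b • x ↔ -a + b ∈ St u x := fun a b => by
      show _ ↔ u (-a + b) • x = x
      rw [AddChar.map_add_eq_mul, u_neg, mul_smul, inv_smul_eq_iff, eq_comm]
    refine Equiv.ofBijective
      (fun c => ⟨Quotient.liftOn' c (fun a => u a • x) fun a b hab => (key a b).2 (QuotientAddGroup.leftRel_apply.1 hab),
        Quotient.inductionOn' c fun a => ⟨a, rfl⟩⟩) ⟨?_, ?_⟩
    · intro c c'
      exact Quotient.inductionOn₂' c c' fun a b e =>
        Quotient.sound' (QuotientAddGroup.leftRel_apply.2 ((key a b).1 (congrArg Subtype.val e)))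
    · rintro ⟨_, a, rfl⟩
      exact ⟨(a : A ⧸ St u x), rfl⟩
  rw [Nat.card_congr e1, ← Nat.card_congr e2, Nat.card_eq_fintype_card, Nat.card_eq_fintype_card, AddChar.card_eq]

/-- Pairs of a point and a character, told apart by orbit and character, are at most as many as the points. -/
theorem card_le_of_pairs [Finite X] (S : Set X) (hS : ∀ a, ∀ x ∈ S, u a • x ∈ S) {ι : Type*} (pt : ι → X)
    (ch : ι → AddChar A ℂ) (hpt : ∀ i, pt i ∈ S) (hch : ∀ i, At u (ch i) (pt i))
    (hinj : ∀ i j, orb u (pt i) = orb u (pt j) → ch i = ch j → i = j) : Nat.card ι ≤ Nat.card S := by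
  classical
  let O : X → Set X := orb u
  have hmem : ∀ x, x ∈ O x := fun x => ⟨0, by simp [AddChar.map_zero_eq_one]⟩
  have hcoset : ∀ a x, O (u a • x) = O x := fun a x => by
    ext y
    constructor
    · rintro ⟨b, rfl⟩
      exact ⟨b + a, by simp [AddChar.map_add_eq_mul, mul_smul]⟩
    · rintro ⟨b, rfl⟩
      exact ⟨b - a, by simp only [← mul_smul, ← AddChar.map_add_eq_mul, sub_add_cancel]⟩
  let R : X → X := fun x => Exists.choose (⟨x, hmem x⟩ : (O x).Nonempty)
  have hr : ∀ x, R x ∈ O x := fun x => Exists.choose_spec (⟨x, hmem x⟩ : (O x).Nonempty)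
  have hgen : ∀ (o o' : Set X) (h : o.Nonempty) (h' : o'.Nonempty), o = o' → h.choose = h'.choose := by
    rintro o o' h h' rfl; rfl
  have hrr : ∀ x y, O x = O y → R x = R y := fun x y e => hgen _ _ _ _ e
  have hOr : ∀ x, O (R x) = O x := fun x => by
    obtain ⟨a, ha⟩ := hr x
    rw [← ha, hcoset]
  have he : ∀ x : X, Nonempty ({χ : AddChar A ℂ // At u χ x} ≃ orb u x) := fun x => by
    have : Finite (orb u x) := Subtype.finite
    have hA : Finite {χ : AddChar A ℂ // At u χ x} := Nat.finite_of_card_ne_zero (by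
      rw [card_at]
      have : Nonempty (orb u x) := ⟨⟨x, hmem x⟩⟩
      exact Nat.card_pos.ne')
    exact Finite.card_eq.1 (card_at u x)
  let e := fun x => (he x).some
  have hrep : ∀ i, At u (ch i) (R (pt i)) := fun i => by
    obtain ⟨a, ha⟩ := hr (pt i)
    rw [← ha, at_smul]
    exact hch i
  refine Nat.card_le_card_of_injective (fun i => ⟨(e (R (pt i)) ⟨ch i, hrep i⟩).1, ?_⟩) fun i j h => ?_
  · obtain ⟨a, ha⟩ := hr (pt i)
    obtain ⟨b, hb⟩ := (e (R (pt i)) ⟨ch i, hrep i⟩).2
    rw [← hb]
    refine hS b _ ?_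
    rw [← ha]
    exact hS a _ (hpt i)
  · have h' : ((e (R (pt i)) ⟨ch i, hrep i⟩).1 : X) = (e (R (pt j)) ⟨ch j, hrep j⟩).1 := congrArg Subtype.val h
    have key : ∀ k, O ((e (R (pt k)) ⟨ch k, hrep k⟩).1) = O (pt k) := fun k => by
      obtain ⟨b, hb⟩ := (e (R (pt k)) ⟨ch k, hrep k⟩).2
      rw [← hb, hcoset, hOr]
    have hO : O (pt i) = O (pt j) := by rw [← key i, ← key j, h']
    have gen : ∀ (x y : X) (hxy : x = y) (a : {χ : AddChar A ℂ // At u χ x}) (b : {χ : AddChar A ℂ // At u χ y}),
        ((e x a).1 : X) = (e y b).1 → a.1 = b.1 := fun x y hxy a b hab => by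
      subst hxy
      exact congrArg Subtype.val ((e x).injective (Subtype.ext hab))
    exact hinj i j hO (gen _ _ (hrr _ _ hO) _ _ h')

/-- The characters occurring in an invariant finite set are at most as many as its points. -/
theorem card_occ_le [Finite X] (S : Set X) (hS : ∀ a, ∀ x ∈ S, u a • x ∈ S) :
    Nat.card {χ : AddChar A ℂ // ∃ x ∈ S, At u χ x} ≤ Nat.card S :=
  card_le_of_pairs u S hS (fun χ => χ.2.choose) (fun χ => χ.1) (fun χ => χ.2.choose_spec.1)
    (fun χ => χ.2.choose_spec.2) fun _ _ _ h => Subtype.ext h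

end Finite

end CfsgLib.MinIndexSp
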