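import Cfsg.Agent.Lib.MinIndexSp.Iso

/-!
A proper subgroup containing a full transvection group preserves a totally isotropic subspace or a
family of orthogonal non-degenerate ones, and so has large index.
-/

set_option autoImplicit false
set_option linter.unusedSectionVars false

namespace CfsgLib.MinIndexSp

open Matrix Cfsg Module
open CfsgLib.Classical.SympTrans
open CfsgLib.Classical.SympStab (centres app_mem_centres smul_mem_centres eq_top_of_centres lin
  app_injective orth isCompl_orth stab_iff)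

variable {F : Type*} [Field F] [Fintype F] [DecidableEq F] {m : ℕ}

local notation "V" => (Fin m ⊕ Fin m → F)
local notation "ω" => sympForm m F

/-- Every non-zero vector has a partner in the subspace. -/
def Nondeg (U : Submodule F V) : Prop := ∀ e ∈ U, e ≠ 0 → ∃ z ∈ U, ω e z ≠ 0

theorem nondeg_top : Nondeg (⊤ : Submodule F V) := fun e _ he => by
  by_contra hc
  push Not at hc
  exact he (eq_zero_of_f e fun v => hc v Submodule.mem_top)

theorem Nondeg.isNondegenerateOn {U : Submodule F V} (hU : Nondeg U) : Cfsg.Geo.IsNondegenerateOn (ω) U := by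
  intro w hw hw0
  obtain ⟨z, hz, h⟩ := hU w hw hw0
  exact ⟨⟨z, hz, by rw [f_swap]; exact neg_ne_zero.2 h⟩, z, hz, h⟩

theorem Nondeg.orth {U : Submodule F V} (hU : Nondeg U) : Nondeg (orth U) := by
  intro b hb h0
  by_contra hc
  push Not at hc
  refine h0 (eq_zero_of_f b fun v => ?_)
  obtain ⟨a, ha, hva⟩ := CfsgLib.Classical.SympStab.exists_split hU.isNondegenerateOn v
  rw [← add_sub_cancel a v, f_add_right, hc _ hva, add_zero, f_swap, hb a ha, neg_zero]

theorem card_one_partner (U : Submodule F V) (hU : Nondeg U) {e : V} (he : e ∈ U) (he0 : e ≠ 0) :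
    Nat.card {f : U // ω e f = 1} = Fintype.card F ^ (finrank F U - 1) := by
  let g : U →ₗ[F] F :=
    { toFun := fun f => ω e f
      map_add' := fun a b => f_add_right _ _ _
      map_smul' := fun c a => f_smul_right c _ _ }
  obtain ⟨z, hz, hez⟩ := hU e he he0
  have hg : Function.Surjective g := LinearMap.surjective_of_ne_zero fun e0 =>
    hez (LinearMap.congr_fun e0 ⟨z, hz⟩)
  obtain ⟨f₀, hf₀⟩ := hg 1
  let τ : {f : U // ω e f = 1} ≃ LinearMap.ker g :=
    { toFun := fun f => ⟨f.1 - f₀, by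
        rw [LinearMap.mem_ker, map_sub, hf₀, show g f.1 = 1 from f.2, sub_self]⟩
      invFun := fun f => ⟨f.1 + f₀, by
        show g (f.1 + f₀) = 1
        rw [map_add, hf₀, LinearMap.mem_ker.1 f.2, zero_add]⟩
      left_inv := fun f => Subtype.ext (sub_add_cancel _ _)
      right_inv := fun f => Subtype.ext (add_sub_cancel_right _ _) }
  rw [Nat.card_congr τ, Module.natCard_eq_pow_finrank (K := F), Nat.card_eq_fintype_card]
  congr 1
  have h1 := g.finrank_range_add_finrank_ker
  rw [LinearMap.range_eq_top.2 hg, finrank_top, Module.finrank_self] at h1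
  omega

theorem card_pairs (U : Submodule F V) (hU : Nondeg U) :
    Nat.card {p : U × U // ω (p.1 : V) (p.2 : V) = 1} =
      (Fintype.card F ^ finrank F U - 1) * Fintype.card F ^ (finrank F U - 1) := by
  classical
  let τ : {p : U × U // ω (p.1 : V) (p.2 : V) = 1} ≃ Σ e : {e : U // e ≠ 0}, {f : U // ω (e.1 : V) (f : V) = 1} :=
    { toFun := fun p => ⟨⟨p.1.1, fun h => one_ne_zero (α := F) (by
        rw [← p.2, h, ZeroMemClass.coe_zero, f_zero_left])⟩, p.1.2, p.2⟩
      invFun := fun s => ⟨(s.1.1, s.2.1), s.2.2⟩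
      left_inv := fun _ => rfl
      right_inv := fun _ => rfl }
  have := Fintype.ofFinite U
  rw [Nat.card_congr τ, Nat.card_sigma,
    Finset.sum_congr rfl fun e _ => card_one_partner U hU e.1.2 (fun h => e.2 (Subtype.ext h)),
    Finset.sum_const, Finset.card_univ, smul_eq_mul, Fintype.card_subtype_compl, Fintype.card_subtype_eq,
    Module.card_eq_pow_finrank (K := F)]

theorem map_orth (g : Matrix.symplecticGroup (Fin m) F) (U : Submodule F V) :
    (orth U).map (lin g) = orth (U.map (lin g)) := by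
  ext x
  constructor
  · rintro ⟨u, hu, rfl⟩ _ ⟨w, hw, rfl⟩
    exact (f_app g w u).trans (hu w hw)
  · intro hx
    refine ⟨app g⁻¹ x, fun w hw => ?_, app_inv' g x⟩
    rw [← f_app g, app_inv']
    exact hx _ ⟨w, hw, rfl⟩

theorem map_lin_mul (g h : Matrix.symplecticGroup (Fin m) F) (U : Submodule F V) :
    U.map (lin (g * h)) = (U.map (lin h)).map (lin g) := by
  rw [← Submodule.map_comp]
  exact congrArg (fun f => U.map f) (LinearMap.ext fun x => app_mul g h x)

theorem map_lin_one (U : Submodule F V) : U.map (lin (1 : Matrix.symplecticGroup (Fin m) F)) = U := by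
  rw [show lin (1 : Matrix.symplecticGroup (Fin m) F) = LinearMap.id from LinearMap.ext fun x => app_one x,
    Submodule.map_id]

theorem finrank_map_lin (g : Matrix.symplecticGroup (Fin m) F) (U : Submodule F V) :
    finrank F (U.map (lin g)) = finrank F U :=
  (LinearEquiv.finrank_eq (Submodule.equivMapOfInjective (lin g) (app_injective g) U)).symm

theorem family_arith {q d k m : ℕ} (hq : 3 ≤ q) (hd : 1 ≤ d) (hkd : k * d ≤ 2 * m) (h1 : k = 1 → d ≤ m) :
    k * ((q ^ d - 1) * q ^ (d - 1)) ≤ (q - 1) * q ^ (2 * m - 1) := by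
  rcases Nat.eq_zero_or_pos k with rfl | hk
  · simp
  have hm : 1 ≤ m := by
    have := Nat.mul_le_mul hk hd
    omega
  have hkey : k * q ^ (2 * d) ≤ (q - 1) * q ^ (2 * m) := by
    rcases Nat.lt_or_ge k 3 with h | h
    · refine Nat.mul_le_mul (by omega) (Nat.pow_le_pow_right (by omega) ?_)
      rcases Nat.lt_or_ge k 2 with h' | h'
      · have := h1 (by omega); omega
      · rw [show k = 2 by omega] at hkd; omega
    · obtain ⟨r, rfl⟩ : ∃ r, k = r + 2 := ⟨k - 2, by omega⟩
      have hr : r + 2 ≤ 2 * q ^ (r * d) := by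
        refine le_trans ?_ (Nat.mul_le_mul_left 2 (Nat.pow_le_pow_right (by omega : 0 < q)
          (Nat.le_mul_of_pos_right r hd)))
        refine le_trans ?_ (Nat.mul_le_mul_left 2 (Nat.pow_le_pow_left (show 2 ≤ q by omega) r))
        have := Nat.lt_two_pow_self (n := r)
        omega
      calc (r + 2) * q ^ (2 * d) ≤ 2 * q ^ (r * d) * q ^ (2 * d) := Nat.mul_le_mul_right _ hr
        _ = 2 * q ^ ((r + 2) * d) := by rw [mul_assoc, ← pow_add, add_mul]
        _ ≤ _ := Nat.mul_le_mul (by omega) (Nat.pow_le_pow_right (by omega) hkd)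
  refine Nat.le_of_mul_le_mul_right (le_trans ?_ (le_trans hkey (le_of_eq ?_))) (show 0 < q by omega)
  · rw [mul_assoc, mul_assoc, ← pow_succ, show d - 1 + 1 = d by omega, two_mul, pow_add]
    exact Nat.mul_le_mul_left _ (Nat.mul_le_mul_right _ (Nat.sub_le _ _))
  · rw [mul_assoc, ← pow_succ, show 2 * m - 1 + 1 = 2 * m by omega]

variable (H : Subgroup (Matrix.symplecticGroup (Fin m) F))

/-- A subgroup permuting a small family of non-degenerate subspaces. -/
theorem index_of_family (hq : 3 ≤ Fintype.card F) (U : Submodule F V) (hU : Nondeg U) (hU0 : U ≠ ⊥)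
    (Fs : Finset (Submodule F V)) (hH : ∀ h ∈ H, U.map (lin h) ∈ Fs)
    (hk : Fs.card * finrank F U ≤ 2 * m) (h1 : Fs.card = 1 → finrank F U ≤ m) :
    Fintype.card F ^ (2 * m) - 1 ≤ (Fintype.card F - 1) * H.index := by
  classical
  set q := Fintype.card F
  set d := finrank F U
  have hd : 1 ≤ d := Submodule.one_le_finrank_iff.2 hU0
  have hm : 1 ≤ m := by
    have : 0 < Fs.card := Finset.card_pos.2 ⟨_, hH 1 H.one_mem⟩
    have := Nat.mul_le_mul this hd
    omega
  have := Fintype.ofFinite (Matrix.symplecticGroup (Fin m) F ⧸ H)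
  set O := (Finset.univ : Finset (Matrix.symplecticGroup (Fin m) F)).image (fun g => U.map (lin g)) with hO
  -- the orbit is small
  have hsmall : O.card ≤ H.index * Fs.card := by
    refine le_trans (Finset.card_le_card (t := (Finset.univ : Finset (Matrix.symplecticGroup (Fin m) F ⧸ H)).biUnion
      fun c => Fs.image (fun W => W.map (lin c.out))) fun W hW => ?_)
      (le_trans (Finset.card_biUnion_le_card_mul _ _ _ fun c _ => Finset.card_image_le) (le_of_eq ?_))
    · obtain ⟨g, -, rfl⟩ := Finset.mem_image.1 hW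
      obtain ⟨h, hh⟩ := QuotientGroup.mk_out_eq_mul H g
      refine Finset.mem_biUnion.2 ⟨(g : _ ⧸ H), Finset.mem_univ _, Finset.mem_image.2
        ⟨U.map (lin (h : Matrix.symplecticGroup (Fin m) F)⁻¹), hH _ (H.inv_mem h.2), ?_⟩⟩
      rw [← map_lin_mul, hh, mul_inv_cancel_right]
    · rw [Finset.card_univ, ← Nat.card_eq_fintype_card]
      rfl
  -- every pair lies in a member of the orbit
  obtain ⟨e₀, he₀, he₀0⟩ := Submodule.exists_mem_ne_zero_of_ne_bot hU0
  obtain ⟨f₀, hf₀, hef₀⟩ : ∃ f ∈ U, ω e₀ f = 1 := by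
    obtain ⟨z, hz, hne⟩ := hU e₀ he₀ he₀0
    exact ⟨(ω e₀ z)⁻¹ • z, U.smul_mem _ hz, by rw [f_smul_right, inv_mul_cancel₀ hne]⟩
  have hbig : Nat.card {p : (⊤ : Submodule F V) × (⊤ : Submodule F V) // ω (p.1 : V) (p.2 : V) = 1} ≤
      O.card * ((q ^ d - 1) * q ^ (d - 1)) := by
    have hpair : ∀ W ∈ O, Nat.card {p : W × W // ω (p.1 : V) (p.2 : V) = 1} = (q ^ d - 1) * q ^ (d - 1) := by
      intro W hW
      obtain ⟨g, -, rfl⟩ := Finset.mem_image.1 hW
      have hn : Nondeg (U.map (lin g)) := by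
        rintro _ ⟨e, he, rfl⟩ h0
        obtain ⟨z, hz, hne⟩ := hU e he fun h => h0 (by rw [h, map_zero])
        exact ⟨lin g z, ⟨z, hz, rfl⟩, by show ω (app g e) (app g z) ≠ 0; rwa [f_app]⟩
      rw [card_pairs _ hn, finrank_map_lin]
    have hmove : ∀ p : {p : (⊤ : Submodule F V) × (⊤ : Submodule F V) // ω (p.1 : V) (p.2 : V) = 1},
        ∃ W : O, (p.1.1 : V) ∈ W.1 ∧ (p.1.2 : V) ∈ W.1 := fun p => by
      obtain ⟨g, -, hg1, hg2⟩ := exists_move_pair (k := 0) (mem_W_zero e₀) (mem_W_zero f₀)
        (mem_W_zero (p.1.1 : V)) (mem_W_zero (p.1.2 : V)) hef₀ p.2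
      exact ⟨⟨_, Finset.mem_image.2 ⟨g, Finset.mem_univ _, rfl⟩⟩, ⟨e₀, he₀, hg1⟩, ⟨f₀, hf₀, hg2⟩⟩
    choose W hW1 hW2 using hmove
    refine le_trans (Nat.card_le_card_of_injective
      (β := Σ W : O, {p : W.1 × W.1 // ω (p.1 : V) (p.2 : V) = 1})
      (fun p => ⟨W p, (⟨_, hW1 p⟩, ⟨_, hW2 p⟩), p.2⟩) ?_) (le_of_eq ?_)
    · intro p p' e
      have e1 := congrArg (fun s : Σ W : O, {p : W.1 × W.1 // ω (p.1 : V) (p.2 : V) = 1} =>
        ((s.2.1.1 : V), (s.2.1.2 : V))) e
      exact Subtype.ext (Prod.ext (Subtype.ext (congrArg Prod.fst e1)) (Subtype.ext (congrArg Prod.snd e1)))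
    · rw [Nat.card_sigma, Finset.sum_congr rfl fun W _ => hpair W.1 W.2, Finset.sum_const, Finset.card_univ,
        Fintype.card_coe, smul_eq_mul]
  rw [card_pairs _ nondeg_top, finrank_top, Module.finrank_pi, Fintype.card_sum, Fintype.card_fin,
    ← two_mul] at hbig
  have harith := family_arith hq hd hk h1
  have hpos : 0 < q ^ (2 * m - 1) := pow_pos (by omega) _
  refine Nat.le_of_mul_le_mul_right ?_ hpos
  calc (q ^ (2 * m) - 1) * q ^ (2 * m - 1) ≤ O.card * ((q ^ d - 1) * q ^ (d - 1)) := hbig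
    _ ≤ H.index * (Fs.card * ((q ^ d - 1) * q ^ (d - 1))) := by
        rw [← mul_assoc H.index]; exact Nat.mul_le_mul_right _ hsmall
    _ ≤ H.index * ((q - 1) * q ^ (2 * m - 1)) := Nat.mul_le_mul_left _ harith
    _ = _ := by ring

theorem mem_span_pair {s t : V} (hs : s ∈ centres H) (ht : t ∈ centres H) (hst : ω s t ≠ 0) (a b : F) :
    a • s + b • t ∈ centres H := by
  by_cases hb : b = 0
  · rw [hb, zero_smul, add_zero]; exact smul_mem_centres a hs
  have hts : ω t s ≠ 0 := by rw [f_swap]; exact neg_ne_zero.2 hst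
  have h := smul_mem_centres b (app_mem_centres (hs (a / b / ω t s)) ht)
  rw [app_T, smul_add, smul_smul, add_comm] at h
  rwa [div_mul_cancel₀ _ hts, mul_div_cancel₀ _ hb] at h

theorem exists_avoid (hq : 3 ≤ Fintype.card F) {U R K₁ K₂ : Submodule F V}
    (hR : finrank F R + 2 ≤ finrank F U) (h₁ : finrank F K₁ + 1 ≤ finrank F U)
    (h₂ : finrank F K₂ + 1 ≤ finrank F U) (w : V) :
    ∃ u ∈ U, u ∉ R ∧ w - u ∉ R ∧ u ∉ K₁ ∧ w - u ∉ K₂ := by
  classical
  by_contra hc
  push Not at hc
  set q := Fintype.card F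
  set n := finrank F U with hn
  have e1 : ∀ W : Submodule F V, (W : Set V).toFinset.card = q ^ finrank F W := fun W => by
    rw [Set.toFinset_card, ← Nat.card_eq_fintype_card]
    exact (Module.natCard_eq_pow_finrank (K := F) : Nat.card W = _).trans (by rw [Nat.card_eq_fintype_card])
  have hsub : (U : Set V).toFinset ⊆ ((R : Set V).toFinset ∪ (R : Set V).toFinset.image (fun r => w - r)) ∪
      ((K₁ : Set V).toFinset ∪ (K₂ : Set V).toFinset.image (fun r => w - r)) := by
    intro u hu
    rw [Set.mem_toFinset] at hu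
    simp only [Finset.mem_union, Finset.mem_image, Set.mem_toFinset, SetLike.mem_coe]
    by_cases a1 : u ∈ R
    · exact Or.inl (Or.inl a1)
    by_cases a2 : w - u ∈ R
    · exact Or.inl (Or.inr ⟨_, a2, sub_sub_cancel w u⟩)
    by_cases a3 : u ∈ K₁
    · exact Or.inr (Or.inl a3)
    exact Or.inr (Or.inr ⟨_, hc u hu a1 a2 a3, sub_sub_cancel w u⟩)
  have h3 := (Finset.card_le_card hsub).trans ((Finset.card_union_le _ _).trans (Nat.add_le_add
    ((Finset.card_union_le _ _).trans (Nat.add_le_add_left Finset.card_image_le _))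
    ((Finset.card_union_le _ _).trans (Nat.add_le_add_left Finset.card_image_le _))))
  rw [e1, e1, e1, e1, ← hn] at h3
  have b1 : q ^ finrank F R ≤ q ^ (n - 2) := Nat.pow_le_pow_right (by omega) (by omega)
  have b2 : q ^ finrank F K₁ ≤ q ^ (n - 1) := Nat.pow_le_pow_right (by omega) (by omega)
  have b3 : q ^ finrank F K₂ ≤ q ^ (n - 1) := Nat.pow_le_pow_right (by omega) (by omega)
  have b4 : 3 * q ^ (n - 1) ≤ q ^ n := by
    conv_rhs => rw [show n = n - 1 + 1 by omega, pow_succ']
    exact Nat.mul_le_mul_right _ hq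
  have b5 : 3 * q ^ (n - 2) ≤ q ^ (n - 1) := by
    conv_rhs => rw [show n - 1 = n - 2 + 1 by omega, pow_succ']
    exact Nat.mul_le_mul_right _ hq
  have := pow_pos (show 0 < q by omega) (n - 2)
  omega

/-- Good subspaces: non-isotropic, and all centres outside the radical. -/
def Good (U : Submodule F V) : Prop :=
  (∃ a ∈ U, ∃ b ∈ U, ω a b ≠ 0) ∧ ∀ x ∈ U, (∃ y ∈ U, ω x y ≠ 0) → x ∈ centres H

theorem good_sup (hq : 3 ≤ Fintype.card F) {U : Submodule F V} (hU : Good H U) {s : V} (hs : s ∈ centres H)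
    {u₀ : V} (hu₀ : u₀ ∈ U) (hsu : ω u₀ s ≠ 0) : Good H (U ⊔ Submodule.span F {s}) := by
  classical
  obtain ⟨⟨a, ha, b, hb, hab⟩, hgood⟩ := hU
  refine ⟨⟨a, le_sup_left (α := Submodule F V) ha, b, le_sup_left (α := Submodule F V) hb, hab⟩, ?_⟩
  intro x hx hx'
  obtain ⟨w, hw, z, hz, rfl⟩ := Submodule.mem_sup.1 hx
  obtain ⟨c, rfl⟩ := Submodule.mem_span_singleton.1 hz
  let R : Submodule F V := U ⊓ orth U
  let K : V → Submodule F V := fun p => U ⊓ orth (Submodule.span F {p})
  have hK : ∀ p u, u ∈ K p ↔ u ∈ U ∧ ω p u = 0 := fun p u => by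
    refine and_congr_right fun _ => ⟨fun h => h p (Submodule.mem_span_singleton_self p), fun h v hv => ?_⟩
    obtain ⟨t, rfl⟩ := Submodule.mem_span_singleton.1 hv
    rw [f_smul_left, h, mul_zero]
  have hR : finrank F R + 2 ≤ finrank F U := by
    have h1 : R < K a := lt_of_le_of_ne (fun u hu => (hK a u).2 ⟨hu.1, hu.2 a ha⟩) fun e => by
      have : a ∈ R := e ▸ (hK a a).2 ⟨ha, f_self a⟩
      exact hab (by rw [f_swap, this.2 b hb, neg_zero])
    have h2 : K a < U := lt_of_le_of_ne inf_le_left fun e => hab ((hK a b).1 (e.symm ▸ hb)).2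
    have := Submodule.finrank_lt_finrank_of_lt h1
    have := Submodule.finrank_lt_finrank_of_lt h2
    omega
  have hKn : ∀ p, (∃ u ∈ U, ω p u ≠ 0) → finrank F (K p) + 1 ≤ finrank F U := fun p ⟨u, hu, hne⟩ =>
    Submodule.finrank_lt_finrank_of_lt (lt_of_le_of_ne inf_le_left fun e => hne ((hK p u).1 (e.symm ▸ hu)).2)
  have hout : ∀ u ∈ U, u ∉ R → u ∈ centres H := fun u hu hR' => by
    refine hgood u hu ?_
    by_contra hc
    push Not at hc
    exact hR' ⟨hu, fun v hv => by rw [f_swap, hc v hv, neg_zero]⟩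
  have hKs := hKn s ⟨u₀, hu₀, by rw [f_swap]; exact neg_ne_zero.2 hsu⟩
  have hline : ∀ u ∈ U, u ∉ R → ∀ t : F, (t = 0 ∨ u ∉ K s) → u + t • s ∈ centres H := by
    intro u hu hR' t ht
    rcases ht with rfl | ht
    · rw [zero_smul, add_zero]; exact hout u hu hR'
    have h := mem_span_pair H (hout u hu hR') hs (fun h => ht ((hK s u).2 ⟨hu, by rw [f_swap, h, neg_zero]⟩)) 1 t
    rwa [one_smul] at h
  have hfin : ∀ y z, y ∈ centres H → z ∈ centres H → y + z = w + c • s → ω y (w + c • s) ≠ 0 →
      w + c • s ∈ centres H := fun y z hy hz e hne => by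
    rw [← e] at hne ⊢
    rw [f_add_right, f_self, zero_add] at hne
    simpa using mem_span_pair H hy hz hne 1 1
  by_cases hA : ∃ v ∈ U, ω (w + c • s) v ≠ 0
  · obtain ⟨u, hu, u1, u2, u3, u4⟩ := exists_avoid hq hR (hKn _ hA) hKs w
    refine hfin u ((w - u) + c • s) (hout u hu u1) (hline _ (U.sub_mem hw hu) u2 c (Or.inr u4)) (by abel) fun h => ?_
    exact u3 ((hK _ u).2 ⟨hu, by rw [f_swap, h, neg_zero]⟩)
  · push Not at hA
    have hxs : ω s (w + c • s) ≠ 0 := by
      obtain ⟨y, hy, hne⟩ := hx'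
      obtain ⟨y₁, hy₁, z, hz, rfl⟩ := Submodule.mem_sup.1 hy
      obtain ⟨d, rfl⟩ := Submodule.mem_span_singleton.1 hz
      rw [f_add_right, hA y₁ hy₁, zero_add, f_smul_right] at hne
      rw [f_swap]
      exact neg_ne_zero.2 (right_ne_zero_of_mul hne)
    obtain ⟨u, hu, u1, u2, u3, u4⟩ := exists_avoid hq hR hKs hKs w
    refine hfin (u + (1 : F) • s) ((w - u) + (c - 1) • s) (hline u hu u1 1 (Or.inr u3))
      (hline _ (U.sub_mem hw hu) u2 _ (Or.inr u4)) (by rw [sub_smul]; abel) ?_
    rw [one_smul, f_add_left, show ω u (w + c • s) = 0 by rw [f_swap, hA u hu, neg_zero], zero_add]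
    exact hxs

/-- A proper subgroup with a full transvection group has large index. -/
theorem index_of_centre (hq : 3 ≤ Fintype.card F) (hH : H ≠ ⊤) {v : V} (hv : v ≠ 0) (hvS : v ∈ centres H) :
    Fintype.card F ^ (2 * m) - 1 ≤ (Fintype.card F - 1) * H.index := by
  classical
  set W := Submodule.span F (centres H) with hW
  by_cases hWtop : W = ⊤
  swap
  · have hmap : ∀ h ∈ H, ∀ x ∈ W, app h x ∈ W := fun h hh x hx => by
      have : W.map (lin h) ≤ W := by
        rw [hW, Submodule.map_span, Submodule.span_le]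
        rintro _ ⟨y, hy, rfl⟩
        exact Submodule.subset_span (app_mem_centres hh hy)
      exact this ⟨x, hx, rfl⟩
    by_cases hR : W ⊓ orth W = ⊥
    · have hn : Nondeg W := fun e he he0 => by
        by_contra hc
        push Not at hc
        exact he0 ((Submodule.eq_bot_iff _).1 hR e ⟨he, fun u hu => by rw [f_swap, hc u hu, neg_zero]⟩)
      have hW0 : W ≠ ⊥ := fun e => hv (by
        have : v ∈ W := Submodule.subset_span hvS
        rwa [e, Submodule.mem_bot] at this)
      have hmapeq : ∀ h ∈ H, W.map (lin h) = W := fun h hh =>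
        Submodule.eq_of_le_of_finrank_eq (by rintro _ ⟨x, hx, rfl⟩; exact hmap h hh x hx) (finrank_map_lin h W)
      have hsum := Submodule.finrank_add_eq_of_isCompl (isCompl_orth hn.isNondegenerateOn)
      rw [Module.finrank_pi, Fintype.card_sum, Fintype.card_fin] at hsum
      rcases Nat.lt_or_ge m (finrank F W) with hbig | hsmall
      · refine index_of_family H hq (orth W) hn.orth (fun e => hWtop ?_) {orth W} (fun h hh => ?_)
          (by rw [Finset.card_singleton]; omega) (fun _ => by omega)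
        · have := (isCompl_orth hn.isNondegenerateOn).sup_eq_top
          rwa [e, sup_bot_eq] at this
        · rw [Finset.mem_singleton, map_orth, hmapeq h hh]
      · exact index_of_family H hq W hn hW0 {W} (fun h hh => Finset.mem_singleton.2 (hmapeq h hh))
          (by rw [Finset.card_singleton]; omega) (fun _ => hsmall)
    · refine index_of_isotropic H _ hR (fun x hx y hy => hy.2 x hx.1) fun g hg x hx => ⟨hmap g hg x hx.1, ?_⟩
      intro y hy
      obtain ⟨⟨y', hy'⟩, he⟩ := ((lin g).restrict (hmap g hg)).surjective_of_injective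
        (fun a b e => Subtype.ext (app_injective g (congrArg Subtype.val e))) ⟨y, hy⟩
      have he' : app g y' = y := congrArg Subtype.val he
      rw [← he', f_app]
      exact hx.2 y' hy'
  -- a maximal good subspace
  have hperp : ∀ x : V, (∀ s ∈ centres H, ω s x = 0) → x = 0 := fun x hx => eq_zero_of_f x fun y => by
    have hy : y ∈ W := hWtop ▸ Submodule.mem_top
    rw [f_swap, neg_eq_zero]
    induction hy using Submodule.span_induction with
    | mem y hy => exact hx y hy
    | zero => exact f_zero_left x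
    | add a b _ _ ha hb => rw [f_add_left, ha, hb, add_zero]
    | smul c a _ ha => rw [f_smul_left, ha, mul_zero]
  obtain ⟨s, hs, hsv⟩ : ∃ s ∈ centres H, ω s v ≠ 0 := by
    by_contra hc
    push Not at hc
    exact hv (hperp v hc)
  have hstart : Good H (Submodule.span F {s, v}) := by
    refine ⟨⟨s, Submodule.subset_span (by simp), v, Submodule.subset_span (by simp), hsv⟩, fun x hx _ => ?_⟩
    obtain ⟨a, b, rfl⟩ := Submodule.mem_span_pair.1 hx
    exact mem_span_pair H hs hvS hsv a b
  obtain ⟨U, hUg, hUmax⟩ := (Set.toFinite {U : Submodule F V | Good H U}).exists_maximal ⟨_, hstart⟩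
  have hUg : Good H U := hUg
  by_cases hUtop : U = ⊤
  · refine absurd (eq_top_of_centres fun x => ?_) hH
    by_cases hx : x = 0
    · subst hx; exact fun c => by rw [T_zero']; exact H.one_mem
    obtain ⟨z, -, hz⟩ := nondeg_top x Submodule.mem_top hx
    exact hUg.2 x (hUtop ▸ Submodule.mem_top) ⟨z, hUtop ▸ Submodule.mem_top, hz⟩
  have hsplit : ∀ t ∈ centres H, t ∈ U ∨ t ∈ orth U := by
    intro t ht
    by_contra hc
    push Not at hc
    obtain ⟨htU, htO⟩ := hc
    obtain ⟨u₀, hu₀, hne⟩ : ∃ u ∈ U, ω u t ≠ 0 := by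
      by_contra hc
      push Not at hc
      exact htO hc
    have hle := hUmax (y := U ⊔ Submodule.span F {t}) (good_sup H hq hUg ht hu₀ hne) le_sup_left
    exact htU (hle (le_sup_right (α := Submodule F V) (Submodule.mem_span_singleton_self t)))
  have hn : Nondeg U := fun e he he0 => by
    by_contra hc
    push Not at hc
    refine he0 (hperp e fun t ht => ?_)
    rcases hsplit t ht with h | h
    · rw [f_swap, hc t h, neg_zero]
    · rw [f_swap, h e he, neg_zero]
  have hUS : ∀ u ∈ U, u ≠ 0 → u ∈ centres H := fun u hu h0 => hUg.2 u hu (hn u hu h0)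
  have hU0 : U ≠ ⊥ := fun e => by
    obtain ⟨a, ha, b, -, hab⟩ := hUg.1
    rw [e, Submodule.mem_bot] at ha
    exact hab (by rw [ha, f_zero_left])
  have hdich : ∀ h ∈ H, U.map (lin h) = U ∨ U.map (lin h) ≤ orth U := by
    intro h hh
    have hmem : ∀ x ∈ U.map (lin h), x ∈ U ∨ x ∈ orth U := by
      rintro _ ⟨u, hu, rfl⟩
      by_cases h0 : u = 0
      · subst h0; exact Or.inl (by rw [map_zero]; exact U.zero_mem)
      exact hsplit _ (app_mem_centres hh (hUS u hu h0))
    by_cases hin : U.map (lin h) ≤ U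
    · exact Or.inl (Submodule.eq_of_le_of_finrank_eq hin (finrank_map_lin h U))
    refine Or.inr fun x hx => ?_
    obtain ⟨y, hy, hyU⟩ := SetLike.not_le_iff_exists.1 hin
    have hyO : y ∈ orth U := (hmem y hy).resolve_left hyU
    rcases hmem x hx with h1 | h1
    · rcases hmem (x + y) (Submodule.add_mem _ hx hy) with h2 | h2
      · exact absurd ((U.add_mem_iff_right h1).1 h2) hyU
      · exact ((orth U).add_mem_iff_left hyO).1 h2
    · exact h1
  set Fs := (Finset.univ.filter fun g : Matrix.symplecticGroup (Fin m) F => g ∈ H).image fun g => U.map (lin g) with hFs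
  have hFsmem : ∀ h ∈ H, U.map (lin h) ∈ Fs := fun h hh =>
    Finset.mem_image.2 ⟨h, Finset.mem_filter.2 ⟨Finset.mem_univ _, hh⟩, rfl⟩
  have hpair : ∀ A ∈ Fs, ∀ B ∈ Fs, A ≠ B → ∀ a ∈ A, ∀ b ∈ B, ω a b = 0 := by
    intro A hA B hB hne a ha b hb
    obtain ⟨g, hg, rfl⟩ := Finset.mem_image.1 hA
    obtain ⟨g', hg', rfl⟩ := Finset.mem_image.1 hB
    rw [Finset.mem_filter] at hg hg'
    obtain ⟨a₀, ha₀, rfl⟩ := ha
    obtain ⟨b₀, hb₀, rfl⟩ := hb
    rcases hdich _ (H.mul_mem (H.inv_mem hg.2) hg'.2) with h | h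
    · refine absurd ?_ hne
      conv_lhs => rw [← h]
      rw [← map_lin_mul, mul_inv_cancel_left]
    · show ω (app g a₀) (app g' b₀) = 0
      have := h ⟨b₀, hb₀, rfl⟩ a₀ ha₀
      rw [show lin (g⁻¹ * g') b₀ = app g⁻¹ (app g' b₀) from app_mul g⁻¹ g' b₀, ← f_app g, app_inv'] at this
      exact this
  have hcard : ∀ s : Finset (Submodule F V), s ⊆ Fs → s.card * finrank F U ≤ finrank F ↥(s.sup id) := by
    intro s
    induction s using Finset.induction_on with
    | empty => intro _; simp
    | insert A s hA ih =>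
      intro hsub
      rw [Finset.insert_subset_iff] at hsub
      have hdisj : A ⊓ s.sup id = ⊥ := by
        rw [Submodule.eq_bot_iff]
        intro x hx
        by_contra hx0
        obtain ⟨g, -, hgA⟩ := Finset.mem_image.1 hsub.1
        obtain ⟨y, hy, hne⟩ : ∃ y ∈ A, ω x y ≠ 0 := by
          have hxA := hx.1
          rw [← hgA] at hxA ⊢
          obtain ⟨x₀, hx₀, rfl⟩ := hxA
          obtain ⟨z, hz, hne⟩ := hn x₀ hx₀ fun h => hx0 (by rw [h, map_zero])
          exact ⟨lin g z, ⟨z, hz, rfl⟩, by show ω (app g x₀) (app g z) ≠ 0; rwa [f_app]⟩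
        have hle : s.sup id ≤ orth A := Finset.sup_le fun B hB b hb a ha =>
          hpair A hsub.1 B (hsub.2 hB) (fun e => hA (e ▸ hB)) a ha b hb
        exact hne (by rw [f_swap, hle hx.2 y hy, neg_zero])
      have e := Submodule.finrank_sup_add_finrank_inf_eq A (s.sup id)
      rw [hdisj, finrank_bot, add_zero] at e
      obtain ⟨g, -, hgA⟩ := Finset.mem_image.1 hsub.1
      rw [Finset.sup_insert, Finset.card_insert_of_notMem hA, id_eq, e, add_mul, one_mul,
        show finrank F A = finrank F U by rw [← hgA]; exact finrank_map_lin g U]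
      have := ih hsub.2
      omega
  have hk := (hcard Fs le_rfl).trans (Submodule.finrank_le _)
  rw [Module.finrank_pi, Fintype.card_sum, Fintype.card_fin, ← two_mul] at hk
  rcases Nat.lt_or_ge m (finrank F U) with hbig | hsmall
  · by_cases hone : Fs.card = 1
    · have hsum := Submodule.finrank_add_eq_of_isCompl (isCompl_orth hn.isNondegenerateOn)
      rw [Module.finrank_pi, Fintype.card_sum, Fintype.card_fin] at hsum
      obtain ⟨A, hA⟩ := Finset.card_eq_one.1 hone
      have h1 := hFsmem 1 H.one_mem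
      rw [map_lin_one, hA, Finset.mem_singleton] at h1
      refine index_of_family H hq (orth U) hn.orth (fun e => hUtop ?_) {orth U} (fun h hh => ?_)
        (by rw [Finset.card_singleton]; omega) (fun _ => by omega)
      · have := (isCompl_orth hn.isNondegenerateOn).sup_eq_top
        rwa [e, sup_bot_eq] at this
      · have h2 := hFsmem h hh
        rw [hA, Finset.mem_singleton, ← h1] at h2
        rw [Finset.mem_singleton, map_orth, h2]
    · exact index_of_family H hq U hn hU0 Fs hFsmem hk fun h => absurd h hone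
  · exact index_of_family H hq U hn hU0 Fs hFsmem hk fun _ => hsmall

end CfsgLib.MinIndexSp
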