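import Cfsg.Agent.Lib.MinIndexSp.Star

/-!
Counting the images of an additive set of forms `a M² + M l + b l²`.
-/

set_option autoImplicit false
set_option linter.unusedSectionVars false

namespace CfsgLib.MinIndexSp

open Module

variable {F : Type*} [Field F] [Fintype F] [DecidableEq F] {m : ℕ}

local notation "V" => (Fin m → F)

/-- The image of a set of forms under substitution. -/
noncomputable def sub (U : Finset (V → F)) (g : V ≃ₗ[F] V) : Finset (V → F) := by
  classical exact U.image fun ψ x => ψ (g x)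

theorem mem_sub {U : Finset (V → F)} {g : V ≃ₗ[F] V} {φ : V → F} :
    φ ∈ sub U g ↔ ∃ ψ ∈ U, (fun x => ψ (g x)) = φ := by
  classical simp [sub]

theorem form_sub {U : Finset (V → F)} {a₀ : F} {l : V →ₗ[F] F} (hf : Form U a₀ l) (g : V ≃ₗ[F] V) :
    Form (sub U g) a₀ (l ∘ₗ g.toLinearMap) := by
  intro φ hφ
  obtain ⟨ψ, hψ, rfl⟩ := mem_sub.1 hφ
  obtain ⟨M, b, hM⟩ := hf ψ hψ
  exact ⟨M ∘ₗ g.toLinearMap, b, fun x => hM (g x)⟩

theorem zero_sub {U : Finset (V → F)} (hzero : ∀ v : V, v ≠ 0 → ∃ ψ ∈ U, ψ v ≠ 0) (g : V ≃ₗ[F] V) :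
    ∀ v : V, v ≠ 0 → ∃ ψ ∈ sub U g, ψ v ≠ 0 := by
  intro v hv
  obtain ⟨ψ, hψ, h⟩ := hzero (g v) (fun e => hv (g.map_eq_zero_iff.1 e))
  exact ⟨_, mem_sub.2 ⟨ψ, hψ, rfl⟩, h⟩

/-- A linear automorphism moving one non-zero functional to another. -/
theorem exists_dual_move {l l' : V →ₗ[F] F} (hl : l ≠ 0) (hl' : l' ≠ 0) :
    ∃ g : V ≃ₗ[F] V, l ∘ₗ g.toLinearMap = l' := by
  obtain ⟨z, hz⟩ := LinearMap.surjective_of_ne_zero hl 1
  obtain ⟨z', hz'⟩ := LinearMap.surjective_of_ne_zero hl' 1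
  have hk : ∀ f : V →ₗ[F] F, f ≠ 0 → finrank F (LinearMap.ker f) = m - 1 := fun f hf => by
    have h1 := f.finrank_range_add_finrank_ker
    rw [LinearMap.range_eq_top.2 (LinearMap.surjective_of_ne_zero hf), finrank_top, Module.finrank_self,
      Module.finrank_fin_fun] at h1
    omega
  obtain ⟨e⟩ : Nonempty (LinearMap.ker l' ≃ₗ[F] LinearMap.ker l) :=
    FiniteDimensional.nonempty_linearEquiv_of_finrank_eq ((hk l' hl').trans (hk l hl).symm)
  let π : V →ₗ[F] LinearMap.ker l' := (LinearMap.id - l'.smulRight z').codRestrict _ fun x => by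
    simp [LinearMap.mem_ker, hz']
  let T : V →ₗ[F] V := (LinearMap.ker l).subtype ∘ₗ e.toLinearMap ∘ₗ π + l'.smulRight z
  have hlT : ∀ x, l (T x) = l' x := fun x => by
    show l ((e (π x) : V) + l' x • z) = l' x
    rw [map_add, map_smul, hz, show l (e (π x) : V) = 0 from (e (π x)).2]
    simp
  have hinj : Function.Injective T := by
    rw [← LinearMap.ker_eq_bot, LinearMap.ker_eq_bot']
    intro x hx
    have h0 : l' x = 0 := by rw [← hlT, hx, map_zero]
    have h1 : e (π x) = 0 := Subtype.ext (by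
      have : ((e (π x) : V) + l' x • z) = 0 := hx
      rwa [h0, zero_smul, add_zero] at this)
    have h3 := congrArg Subtype.val (e.map_eq_zero_iff.1 h1)
    have : x - l' x • z' = 0 := h3
    rwa [h0, zero_smul, sub_zero] at this
  exact ⟨LinearEquiv.ofInjectiveEndo T hinj, LinearMap.ext hlT⟩

theorem form_arith {q m U P : ℕ} (hm : 3 ≤ m) (hq : 4 ≤ q) (hP : q ^ m - 1 ≤ P)
    (hfib : (q ^ m - 1) * ((q - 1) * q ^ (m - 1)) ^ (m - 1) ≤ P * (2 * U) ^ (m - 1)) :
    q ^ (2 * m) - 1 ≤ (q - 1) * (U * P) := by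
  have hsplit : q ^ (2 * m) - 1 = (q ^ m + 1) * (q ^ m - 1) := by
    rw [← Nat.sq_sub_sq, one_pow, ← pow_mul, mul_comm m 2]
  rw [hsplit]
  by_cases hU : q ^ m + 1 ≤ (q - 1) * U
  · rw [← mul_assoc]; exact Nat.mul_le_mul hU hP
  obtain ⟨j, rfl⟩ : ∃ j, m = j + 2 := ⟨m - 2, by omega⟩
  simp only [show j + 2 - 1 = j + 1 by omega] at hfib
  have key : ∀ i, 2 ^ (i + 1) * (q ^ (i + 2) + 1) ≤ ((q - 1) * (q - 1)) ^ (i + 1) * q := by
    have hsq : 2 * q + 1 ≤ (q - 1) * (q - 1) := by
      obtain ⟨r, rfl⟩ : ∃ r, q = r + 4 := ⟨q - 4, by omega⟩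
      rw [show r + 4 - 1 = r + 3 by omega]; nlinarith
    intro i
    induction i with
    | zero => simp only [pow_one, zero_add]; nlinarith
    | succ i ih =>
      have h1 : 2 * (q ^ (i + 3) + 1) ≤ (2 * q + 1) * (q ^ (i + 2) + 1) := by
        rw [pow_succ]; generalize q ^ (i + 2) = x; nlinarith
      calc 2 ^ (i + 1 + 1) * (q ^ (i + 1 + 2) + 1) = 2 ^ (i + 1) * (2 * (q ^ (i + 3) + 1)) := by ring
        _ ≤ 2 ^ (i + 1) * ((2 * q + 1) * (q ^ (i + 2) + 1)) := Nat.mul_le_mul_left _ h1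
        _ = (2 * q + 1) * (2 ^ (i + 1) * (q ^ (i + 2) + 1)) := by ring
        _ ≤ ((q - 1) * (q - 1)) * (((q - 1) * (q - 1)) ^ (i + 1) * q) := Nat.mul_le_mul hsq ih
        _ = _ := by ring
  have hpos : 0 < 2 ^ (j + 1) * (q ^ (j + 2)) ^ j :=
    Nat.mul_pos (pow_pos two_pos _) (pow_pos (pow_pos (by omega) _) _)
  refine Nat.le_of_mul_le_mul_right ?_ hpos
  calc (q ^ (j + 2) + 1) * (q ^ (j + 2) - 1) * (2 ^ (j + 1) * (q ^ (j + 2)) ^ j)
      = (q ^ (j + 2) - 1) * (q ^ (j + 2)) ^ j * (2 ^ (j + 1) * (q ^ (j + 2) + 1)) := by ring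
    _ ≤ (q ^ (j + 2) - 1) * (q ^ (j + 2)) ^ j * (((q - 1) * (q - 1)) ^ (j + 1) * q) := Nat.mul_le_mul_left _ (key j)
    _ = (q - 1) ^ (j + 1) * ((q ^ (j + 2) - 1) * ((q - 1) * q ^ (j + 1)) ^ (j + 1)) := by
        simp only [mul_pow, ← pow_mul]; ring
    _ ≤ (q - 1) ^ (j + 1) * (P * (2 * U) ^ (j + 1)) := Nat.mul_le_mul_left _ hfib
    _ = (q - 1) * (U * P) * (2 ^ (j + 1) * ((q - 1) * U) ^ j) := by rw [mul_pow, mul_pow]; ring
    _ ≤ _ := Nat.mul_le_mul_left _ (Nat.mul_le_mul_left _ (Nat.pow_le_pow_left (by omega) _))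

theorem form_bound (hm : 3 ≤ m) (h2 : (2 : F) = 0) {U : Finset (V → F)} {a₀ : F} (ha₀ : a₀ ≠ 0)
    (hadd : ∀ φ ∈ U, ∀ ψ ∈ U, (fun x => φ x + ψ x) ∈ U)
    (hzero : ∀ v : V, v ≠ 0 → ∃ ψ ∈ U, ψ v ≠ 0) {l : V →ₗ[F] F} (hl : l ≠ 0) (hf : Form U a₀ l)
    (P : Finset (Finset (V → F))) (hP : ∀ g : V ≃ₗ[F] V, sub U g ∈ P) :
    (3 ≤ Fintype.card F → Fintype.card F ^ (2 * m) - 1 ≤ (Fintype.card F - 1) * (U.card * P.card)) ∧
      (Fintype.card F = 2 → 2 ^ (m - 1) * (2 ^ m - 1) ≤ U.card * P.card) := by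
  classical
  set q := Fintype.card F with hq
  -- the images
  have himg : q ^ m - 1 ≤ P.card := by
    have : Finite (V →ₗ[F] F) := Module.finite_of_finite F
    have : Fintype (V →ₗ[F] F) := Fintype.ofFinite _
    choose g hg using fun l' : {x : V →ₗ[F] F // x ≠ 0} => exists_dual_move hl l'.2
    refine le_trans (le_of_eq ?_) (Finset.card_le_card_of_injOn (s := (Finset.univ : Finset {x : V →ₗ[F] F // x ≠ 0}))
      (fun l' => sub U (g l')) (fun l' _ => hP _) ?_)
    · rw [Finset.card_univ, Fintype.card_subtype_compl, Fintype.card_subtype_eq,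
        Module.card_eq_pow_finrank (K := F), Subspace.dual_finrank_eq, Module.finrank_fin_fun]
    · intro l₁ _ l₂ _ e
      refine Subtype.ext ?_
      have e' : sub U (g l₁) = sub U (g l₂) := e
      rw [← hg l₁, ← hg l₂]
      exact form_unique hm h2 ha₀ (zero_sub hzero _)
        (fun e0 => l₂.2 ((hg l₂).symm.trans e0)) (form_sub hf (g l₂)) (e' ▸ form_sub hf (g l₁))
  -- members spanning on the kernel
  choose M b hM using hf
  let K := LinearMap.ker l
  have hK : finrank F K = m - 1 := by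
    have h1 := l.finrank_range_add_finrank_ker
    rw [LinearMap.range_eq_top.2 (LinearMap.surjective_of_ne_zero hl), finrank_top, Module.finrank_self,
      Module.finrank_fin_fun] at h1
    show finrank F (LinearMap.ker l) = m - 1
    omega
  let S : Set (Module.Dual F K) := Set.range fun ψ : U => (M ψ.1 ψ.2).comp K.subtype
  have hS : Submodule.span F S = ⊤ := by
    by_contra hne
    obtain ⟨f, hf0, hfS⟩ := Submodule.exists_dual_map_eq_bot_of_lt_top (lt_top_iff_ne_top.2 hne) inferInstance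
    obtain ⟨v, rfl⟩ := (Module.evalEquiv F K).surjective f
    have hv : (v : V) ≠ 0 := fun e => hf0 (by rw [show v = 0 from Subtype.ext e, map_zero])
    obtain ⟨ψ, hψ, hne'⟩ := hzero v hv
    refine hne' ?_
    have h0 : M ψ hψ v = 0 := by
      have : Module.evalEquiv F K v ((M ψ hψ).comp K.subtype) ∈ (Submodule.span F S).map (Module.evalEquiv F K v) :=
        Submodule.mem_map_of_mem (Submodule.subset_span ⟨⟨ψ, hψ⟩, rfl⟩)
      rw [hfS, Submodule.mem_bot] at this
      exact this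
    rw [hM ψ hψ, h0, show l (v : V) = 0 from v.2]
    ring
  obtain ⟨s, hsS, hspan, hind⟩ := exists_linearIndependent F S
  have : Finite (Module.Dual F K) := Module.finite_of_finite F
  obtain ⟨hbas, hbas'⟩ : ∃ B : Basis s F (Module.Dual F K), ∀ j, B j = (j : Module.Dual F K) :=
    ⟨Basis.mk hind (by rw [Subtype.range_coe, hspan, hS]), fun j => Basis.mk_apply _ _ j⟩
  have hfin : Fintype s := Fintype.ofFinite _
  have hcards : Fintype.card s = m - 1 := by
    rw [← Module.finrank_eq_card_basis hbas, Subspace.dual_finrank_eq, hK]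
  choose ψi hψi using fun i : s => hsS i.2
  -- at least `2^(m-1)` members
  have hU : 2 ^ (m - 1) ≤ U.card := by
    have hz : (0 : V → F) ∈ U := by
      obtain ⟨ψ, hψ, -⟩ := hzero (Pi.single ⟨0, by omega⟩ 1) (by simp)
      have := hadd ψ hψ ψ hψ
      rwa [show (fun x => ψ x + ψ x) = (0 : V → F) from funext fun x => by
        rw [Pi.zero_apply]; linear_combination ψ x * h2] at this
    have hsum : ∀ t : Finset s, (∑ i ∈ t, (ψi i).1) ∈ U := fun t => by
      induction t using Finset.induction_on with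
      | empty => simpa using hz
      | insert a t ha ih => rw [Finset.sum_insert ha]; exact hadd _ (ψi a).2 _ ih
    have hval : ∀ (t : Finset s) (v : K), (∑ i ∈ t, (ψi i).1) v =
        a₀ * ((∑ i ∈ t, (i : Module.Dual F K)) v * (∑ i ∈ t, (i : Module.Dual F K)) v) := by
      intro t v
      induction t using Finset.induction_on with
      | empty => simp
      | insert a t ha ih =>
        rw [Finset.sum_insert ha, Finset.sum_insert ha, Pi.add_apply, ih, LinearMap.add_apply, hM _ (ψi a).2,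
          show l (v : V) = 0 from v.2, ← hψi a]
        show _ = a₀ * ((M _ _ (v : V) + _) * (M _ _ (v : V) + _))
        linear_combination (-a₀ * M _ (ψi a).2 (v : V) * (∑ i ∈ t, (i : Module.Dual F K)) v) * h2
    rw [← hcards, ← Fintype.card_finset, ← Finset.card_univ]
    refine Finset.card_le_card_of_injOn (fun t => ∑ i ∈ t, (ψi i).1) (fun t _ => hsum t) fun t _ t' _ e => ?_
    have e1 : ∑ i ∈ t, (i : Module.Dual F K) = ∑ i ∈ t', (i : Module.Dual F K) := by
      refine LinearMap.ext fun v => ?_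
      have := congrFun (show (∑ i ∈ t, (ψi i).1) = ∑ i ∈ t', (ψi i).1 from e) (v : V)
      rw [hval, hval] at this
      refine sub_eq_zero.1 (mul_self_eq_zero.1 ?_)
      linear_combination (mul_left_cancel₀ ha₀ this)
        + ((∑ i ∈ t', (i : Module.Dual F K)) v * (∑ i ∈ t', (i : Module.Dual F K)) v
          - (∑ i ∈ t, (i : Module.Dual F K)) v * (∑ i ∈ t', (i : Module.Dual F K)) v) * h2
    ext i
    have h3 : ∀ t : Finset s, hbas.repr (∑ j ∈ t, (j : Module.Dual F K)) i = if i ∈ t then 1 else 0 := fun t => by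
      rw [map_sum, Finsupp.coe_finset_sum, Finset.sum_apply,
        ← Finset.sum_ite_eq' t i fun _ => (1 : F)]
      refine Finset.sum_congr rfl fun j _ => ?_
      rw [show (j : Module.Dual F K) = hbas j from (hbas' j).symm, hbas.repr_self,
        Finsupp.single_apply]
    have h4 := (h3 t).symm.trans (e1 ▸ h3 t')
    by_cases a : i ∈ t <;> by_cases b : i ∈ t' <;> simp [a, b] at h4 ⊢
  refine ⟨fun h3 => ?_, fun hq2 => ?_⟩
  swap
  · rw [hq2] at himg
    exact Nat.mul_le_mul hU himg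
  -- the stabiliser
  have hstab : ∀ g₀ : V ≃ₗ[F] V, Nat.card {g : V ≃ₗ[F] V // sub U g = sub U g₀} ≤ (2 * U.card) ^ (m - 1) := by
    intro g₀
    let cand : s → Finset (V →ₗ[F] F) := fun i =>
      U.attach.biUnion fun ψ =>
        if h : ∃ N : V →ₗ[F] F, ∀ x, ψ.1 x = a₀ * (N x * N x) + N x * l x + b _ (ψi i).2 * (l x * l x) then
          {h.choose, h.choose + a₀⁻¹ • l} else ∅
    have hcand : ∀ i, (cand i).card ≤ 2 * U.card := fun i => by
      refine le_trans (Finset.card_biUnion_le_card_mul _ _ 2 fun ψ _ => ?_) (by rw [Finset.card_attach, mul_comm])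
      split_ifs
      · exact Finset.card_le_two
      · simp
    have hfix : ∀ g : {g : V ≃ₗ[F] V // sub U g = sub U g₀}, l ∘ₗ (g₀.symm.trans g.1).toLinearMap = l ∧
        ∀ i, (M _ (ψi i).2) ∘ₗ (g₀.symm.trans g.1).toLinearMap ∈ cand i := by
      intro g
      set k := g₀.symm.trans g.1 with hk
      have hkU : sub U k = U := by
        ext φ
        constructor
        · intro hφ
          obtain ⟨ψ, hψ, rfl⟩ := mem_sub.1 hφ
          have : (fun x => ψ (g.1 x)) ∈ sub U g.1 := mem_sub.2 ⟨ψ, hψ, rfl⟩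
          rw [g.2, mem_sub] at this
          obtain ⟨ψ', hψ', e⟩ := this
          convert hψ' using 1
          funext x
          have := congrFun e (g₀.symm x)
          simp only [LinearEquiv.apply_symm_apply] at this
          exact this.symm
        · intro hφ
          have : (fun x => φ (g₀ x)) ∈ sub U g₀ := mem_sub.2 ⟨φ, hφ, rfl⟩
          rw [← g.2, mem_sub] at this
          obtain ⟨ψ', hψ', e⟩ := this
          refine mem_sub.2 ⟨ψ', hψ', funext fun x => ?_⟩
          have := congrFun e (g₀.symm x)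
          simpa [hk] using this
      have hf : Form U a₀ l := fun ψ hψ => ⟨M ψ hψ, b ψ hψ, hM ψ hψ⟩
      have hlk : l ∘ₗ k.toLinearMap = l := form_unique hm h2 ha₀ hzero hl hf (by have := form_sub hf k; rwa [hkU] at this)
      refine ⟨hlk, fun i => ?_⟩
      have hmem : (fun x => (ψi i).1 (k x)) ∈ U := by
        have : (fun x => (ψi i).1 (k x)) ∈ sub U k := mem_sub.2 ⟨_, (ψi i).2, rfl⟩
        rwa [hkU] at this
      refine Finset.mem_biUnion.2 ⟨⟨_, hmem⟩, Finset.mem_attach _ _, ?_⟩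
      set N := M _ (ψi i).2 ∘ₗ k.toLinearMap
      have hN : ∀ x, (ψi i).1 (k x) = a₀ * (N x * N x) + N x * l x + b _ (ψi i).2 * (l x * l x) := fun x => by
        rw [hM _ (ψi i).2, show l (k x) = l x from LinearMap.congr_fun hlk x]
        rfl
      have hex : ∃ N : V →ₗ[F] F, ∀ x, (ψi i).1 (k x) = a₀ * (N x * N x) + N x * l x + b _ (ψi i).2 * (l x * l x) :=
        ⟨N, hN⟩
      rw [dif_pos hex]
      set N₀ := hex.choose
      have hN₀ := hex.choose_spec
      have hD : ∀ x, (N x + N₀ x) * (a₀ * (N x + N₀ x) + l x) = 0 := fun x => by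
        linear_combination (hN x).symm.trans (hN₀ x)
          + (a₀ * N₀ x * N₀ x + a₀ * N x * N₀ x + N₀ x * l x) * h2
      have hsplit : (∀ x, N x + N₀ x = 0) ∨ ∀ x, a₀ * (N x + N₀ x) + l x = 0 := by
        by_contra hc
        push Not at hc
        obtain ⟨⟨x, hx⟩, ⟨y, hy⟩⟩ := hc
        have hx' := (mul_eq_zero.1 (hD x)).resolve_left hx
        have hy' := (mul_eq_zero.1 (hD y)).resolve_right hy
        have hxy := hD (x + y)
        simp only [map_add] at hxy
        refine hy ?_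
        refine (mul_eq_zero.1 (show (N x + N₀ x) * (a₀ * (N y + N₀ y) + l y) = 0 from ?_)).resolve_left hx
        linear_combination hxy - (N x + N₀ x) * hx' - hy' * (a₀ * (N x + N₀ x) + a₀ * (N y + N₀ y) + l x + l y)
      rcases hsplit with h | h
      · refine Finset.mem_insert.2 (Or.inl (LinearMap.ext fun x => ?_))
        linear_combination h x - N₀ x * h2
      · refine Finset.mem_insert.2 (Or.inr (Finset.mem_singleton.2 (LinearMap.ext fun x => ?_)))
        rw [LinearMap.add_apply, LinearMap.smul_apply, smul_eq_mul]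
        field_simp
        linear_combination h x - (a₀ * N₀ x + l x) * h2
    have hinj : Function.Injective fun g : {g : V ≃ₗ[F] V // sub U g = sub U g₀} =>
        fun i : s => (⟨_, (hfix g).2 i⟩ : cand i) := by
      intro g g' e
      refine Subtype.ext (LinearEquiv.ext fun x => sub_eq_zero.1 ?_)
      by_contra hne
      have hy := fun (f : V →ₗ[F] F) (he : f ∘ₗ (g₀.symm.trans g.1).toLinearMap = f ∘ₗ (g₀.symm.trans g'.1).toLinearMap) =>
        (show f (g.1 x - g'.1 x) = 0 by
          have := LinearMap.congr_fun he (g₀ x)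
          simp only [LinearMap.comp_apply, LinearEquiv.coe_coe, LinearEquiv.trans_apply,
            LinearEquiv.symm_apply_apply] at this
          rw [map_sub, this, sub_self])
      have hly : l (g.1 x - g'.1 x) = 0 := hy l ((hfix g).1.trans (hfix g').1.symm)
      have hall : Module.evalEquiv F K ⟨_, hly⟩ = 0 := hbas.ext fun i => by
        rw [hbas', ← hψi i]
        exact hy _ (congrArg Subtype.val (congrFun e i))
      exact hne (congrArg Subtype.val ((Module.evalEquiv F K).map_eq_zero_iff.1 hall))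
    refine (Nat.card_le_card_of_injective _ hinj).trans ?_
    rw [Nat.card_eq_fintype_card, Fintype.card_pi]
    calc (∏ i : s, Fintype.card (cand i)) ≤ ∏ _i : s, 2 * U.card :=
          Finset.prod_le_prod' fun i _ => by rw [Fintype.card_coe]; exact hcand i
      _ = (2 * U.card) ^ (m - 1) := by rw [Finset.prod_const, Finset.card_univ, hcards]
  -- the count
  have hGL : (q ^ m - 1) * ((q - 1) * q ^ (m - 1)) ^ (m - 1) ≤ Nat.card (V ≃ₗ[F] V) := by
    rw [← Nat.card_congr (Matrix.GeneralLinearGroup.toLin.trans (LinearMap.GeneralLinearGroup.generalLinearEquiv F V)).toEquiv,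
      Matrix.card_GL_field, ← hq]
    obtain ⟨k, rfl⟩ : ∃ k, m = k + 1 := ⟨m - 1, by omega⟩
    rw [Fin.prod_univ_succ, Fin.val_zero, pow_zero]
    refine Nat.mul_le_mul_left _ (le_trans (le_of_eq ?_)
      (Finset.prod_le_prod' (f := fun _ : Fin k => (q - 1) * q ^ k) fun i _ => ?_))
    · rw [Finset.prod_const, Finset.card_univ, Fintype.card_fin]; simp
    · have h4 : q ^ ((i.succ : Fin (k + 1)) : ℕ) ≤ q ^ k :=
        Nat.pow_le_pow_right (by omega) (by rw [Fin.val_succ]; omega)
      rw [Nat.sub_mul, one_mul, ← pow_succ']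
      omega
  have : Finite (V ≃ₗ[F] V) := DFunLike.finite _
  have := Fintype.ofFinite (V ≃ₗ[F] V)
  have hfib : Nat.card (V ≃ₗ[F] V) ≤ P.card * (2 * U.card) ^ (m - 1) := by
    rw [Nat.card_eq_fintype_card, ← Finset.card_univ, mul_comm]
    refine le_trans (Finset.card_le_mul_card_image _ _ fun a ha => ?_)
      (Nat.mul_le_mul_left _ (Finset.card_le_card (t := P) (s := Finset.univ.image (sub U)) fun a ha => by
        obtain ⟨g, -, rfl⟩ := Finset.mem_image.1 ha
        exact hP g))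
    obtain ⟨g₀, -, rfl⟩ := Finset.mem_image.1 ha
    rw [← Fintype.card_subtype, ← Nat.card_eq_fintype_card]
    exact hstab g₀
  refine form_arith hm ?_ himg (hGL.trans hfib)
  have hne : ringChar F = 2 := ((CharP.ringChar_of_prime_eq_zero Nat.prime_two) (by exact_mod_cast h2))
  have := Nat.even_iff.2 (FiniteField.even_card_of_char_two hne)
  rcases this with ⟨r, hr⟩
  omega

end CfsgLib.MinIndexSp
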