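import Cfsg.Agent.Lib.MinIndexSp.Ternary

/-!
A set of forms closed under substitution with a member of rank at least three is large.
-/

set_option autoImplicit false
set_option linter.unusedSectionVars false

namespace CfsgLib.MinIndexSp

open Module

variable {F : Type*} [Field F] [Fintype F] [DecidableEq F]

/-- Closed under negation when there are three scalars. -/
def NegClosed {V : Type*} (Ω : Finset (V → F)) : Prop :=
  Fintype.card F = 3 → ∀ Q ∈ Ω, (fun x => -Q x) ∈ Ω

theorem negClosed_restr {n : ℕ} {Ω : Finset ((Fin (n + 1) → F) → F)} (hΩ : NegClosed Ω) :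
    NegClosed (Ω.image restr) := by
  intro h3 ψ hψ
  obtain ⟨Q, hQ, rfl⟩ := Finset.mem_image.1 hψ
  exact Finset.mem_image.2 ⟨_, hΩ h3 Q hQ, rfl⟩

/-- The exceptional hyperplane in dimension four over two elements. -/
theorem exists_small (h2 : Fintype.card F = 2) {Q : (Fin 4 → F) → F} (h : QF Q) (hB : radB h = ⊥) :
    ∃ (A : (Fin 4 → F) ≃ₗ[F] (Fin 4 → F)) (hψ : QF (restr fun x => Q (A x))) (n : Fin 3 → F),
      n ≠ 0 ∧ n ∈ rad hψ ∧ radB hψ = Submodule.span F {n} := by
  have h01 : ∀ x : F, x = 0 ∨ x = 1 := by
    intro x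
    by_contra hc
    push Not at hc
    have : ({0, 1, x} : Finset F).card ≤ 2 := h2 ▸ Finset.card_le_univ _
    rw [Finset.card_insert_of_notMem (by simp [hc.1.symm]), Finset.card_insert_of_notMem (by simp [hc.2.symm]),
      Finset.card_singleton] at this
    omega
  have htwo : (2 : F) = 0 := by
    have := h01 (1 + 1)
    rcases this with e | e
    · linear_combination e
    · exact absurd (add_eq_left.1 e) one_ne_zero
  -- a singular vector
  obtain ⟨v, hv0, hv⟩ : ∃ v, v ≠ 0 ∧ Q v = 0 := by
    by_contra hc
    push Not at hc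
    have h1 : ∀ v, v ≠ 0 → Q v = 1 := fun v hv => (h01 _).resolve_left (hc v hv)
    have h11 : ∀ u w : Fin 4 → F, u ≠ 0 → w ≠ 0 → u + w ≠ 0 → pB Q u w = 1 := fun u w hu hw huw => by
      rw [pB, h1 _ hu, h1 _ hw, h1 _ huw]; linear_combination (-1 : F) * htwo
    have e := h.add_right (Pi.single 1 1) (Pi.single 2 1) (Pi.single 0 (1 : F))
    rw [h11 _ _ (by simp) (fun e => by simpa using congrFun e 1) (fun e => by simpa using congrFun e 0),
      h11 _ _ (by simp) (by simp) (fun e => by simpa using congrFun e 0),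
      h11 _ _ (by simp) (by simp) (fun e => by simpa using congrFun e 0)] at e
    exact one_ne_zero (α := F) (by linear_combination -e)
  obtain ⟨e, he⟩ : ∃ e, pB Q v e ≠ 0 := by
    by_contra hc
    push Not at hc
    have : v ∈ radB h := hc
    rw [hB, Submodule.mem_bot] at this
    exact hv0 this
  let f : (Fin 4 → F) →ₗ[F] F :=
    { toFun := pB Q v, map_add' := fun a b => h.add_right a b v, map_smul' := fun c a => h.smul_right c a v }
  have hW : finrank F (LinearMap.ker f) = 3 := by
    have h1 := f.finrank_range_add_finrank_ker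
    have h2 : LinearMap.range f = ⊤ := LinearMap.range_eq_top.2 (LinearMap.surjective_of_ne_zero fun e0 =>
      he (LinearMap.congr_fun e0 e))
    rw [h2, finrank_top, Module.finrank_self, Module.finrank_fin_fun] at h1
    omega
  obtain ⟨A, hAe, hAW⟩ := exists_frame (Module.finrank_fin_fun F) (LinearMap.ker f) hW
    (e := e) (fun hk => he hk)
  have hψ : QF (restr fun x => Q (A x)) := (h.comp A.toLinearMap).restr
  have hp : ∀ x y, pB (restr fun x => Q (A x)) x y = pB Q (A (Fin.cons 0 x)) (A (Fin.cons 0 y)) := fun x y =>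
    pB_comp (Q := Q) (A.toLinearMap ∘ₗ tailEmb F 3) x y
  have hdec : ∀ w, ∃ a x, w = a • e + A (Fin.cons 0 x) := fun w => by
    refine ⟨A.symm w 0, fun i => A.symm w i.succ, ?_⟩
    rw [← hAe, ← map_smul, ← map_add]
    refine A.symm.injective ?_
    rw [A.symm_apply_apply]
    funext i; cases i using Fin.cases <;> simp
  obtain ⟨a, n, hn⟩ := hdec v
  have hvv : pB Q v v = 0 := by rw [h.self, hv, mul_zero]
  have ha : a = 0 := by
    have := hvv
    nth_rw 2 [hn] at this
    rw [h.add_right, h.smul_right, show pB Q v (A (Fin.cons 0 n)) = 0 from hAW n, add_zero, mul_eq_zero] at this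
    exact this.resolve_right he
  rw [ha, zero_smul, zero_add] at hn
  have hn0 : n ≠ 0 := fun e0 => hv0 (by
    rw [hn, e0, show (Fin.cons 0 0 : Fin 4 → F) = 0 from funext fun i => by cases i using Fin.cases <;> simp, map_zero])
  have hnr : n ∈ rad hψ := ⟨by show Q (A (Fin.cons 0 n)) = 0; rw [← hn, hv], fun y => by
    rw [hp, ← hn]; exact hAW y⟩
  refine ⟨A, hψ, n, hn0, hnr, le_antisymm (fun x hx => ?_) ((Submodule.span_singleton_le_iff_mem _ _).2 hnr.2)⟩
  set d := A (Fin.cons 0 x) with hd
  refine Submodule.mem_span_singleton.2 ⟨pB Q d e / pB Q v e, ?_⟩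
  have hzero : d - (pB Q d e / pB Q v e) • v = 0 := by
    have : d - (pB Q d e / pB Q v e) • v ∈ radB h := fun w => by
      obtain ⟨b, y, rfl⟩ := hdec w
      rw [h.sub_left, h.smul_left, h.add_right, h.add_right, h.smul_right, h.smul_right,
        show pB Q v (A (Fin.cons 0 y)) = 0 from hAW y, show pB Q d (A (Fin.cons 0 y)) = 0 by rw [hd, ← hp]; exact hx y]
      field_simp
      ring
    rwa [hB, Submodule.mem_bot] at this
  have e2 : A (Fin.cons 0 x) = A (Fin.cons 0 ((pB Q d e / pB Q v e) • n)) := by
    rw [← tailEmb_apply ((pB Q d e / pB Q v e) • n), map_smul, map_smul, tailEmb_apply, ← hn]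
    exact sub_eq_zero.1 hzero
  exact (Fin.cons_right_injective _ (A.injective e2)).symm

/-- The bound in dimension at least three. -/
theorem card_big : ∀ n, 3 ≤ n → ∀ Ω : Finset ((Fin n → F) → F), Closed Ω → NegClosed Ω → (∀ T ∈ Ω, QF T) →
    ∀ Q ∈ Ω, ∀ h : QF Q, Big h →
      (3 ≤ Fintype.card F → Fintype.card F ^ (2 * n) - 1 ≤ (Fintype.card F - 1) * Ω.card) ∧
      (Fintype.card F = 2 → 2 ^ (n - 1) * (2 ^ n - 1) ≤ Ω.card) := by
  intro n hn
  induction n, hn using Nat.le_induction with
  | base =>
    intro Ω hΩ hneg hΩq Q hQ h hb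
    have hr : rad h = ⊥ := Submodule.finrank_eq_zero.1 (by
      unfold Big at hb; rw [Module.finrank_fin_fun] at hb; omega)
    have h1 := card_ternary hΩ hQ h hr
    constructor
    · intro hq
      by_cases h3 : Fintype.card F = 3
      · -- two orbits
        set O : ((Fin 3 → F) → F) → Finset ((Fin 3 → F) → F) := fun P =>
          (Set.toFinite (Set.range fun A : (Fin 3 → F) ≃ₗ[F] (Fin 3 → F) => fun x => P (A x))).toFinset
        have hO : ∀ P, Closed (O P) ∧ P ∈ O P := fun P => by
          refine ⟨fun R hR A => ?_, ?_⟩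
          · simp only [O, Set.Finite.mem_toFinset, Set.mem_range] at hR ⊢
            obtain ⟨B, rfl⟩ := hR
            exact ⟨A.trans B, rfl⟩
          · simp only [O, Set.Finite.mem_toFinset, Set.mem_range]
            exact ⟨LinearEquiv.refl F _, rfl⟩
        have hsub : ∀ P ∈ Ω, O P ⊆ Ω := fun P hP R hR => by
          simp only [O, Set.Finite.mem_toFinset, Set.mem_range] at hR
          obtain ⟨A, rfl⟩ := hR
          exact hΩ P hP A
        have hrn : rad h.neg = ⊥ := (Submodule.eq_bot_iff _).2 fun x hx => by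
          have hx' : x ∈ rad h := ⟨neg_eq_zero.1 hx.1, fun y => by
            have h' : pB (fun x => -Q x) x y = 0 := hx.2 y
            simp [pB] at h' ⊢; linear_combination -h'⟩
          rwa [hr, Submodule.mem_bot] at hx'
        have hdisj : Disjoint (O Q) (O fun x => -Q x) := Finset.disjoint_left.2 fun R hR hR' => by
          simp only [O, Set.Finite.mem_toFinset, Set.mem_range] at hR hR'
          obtain ⟨A, rfl⟩ := hR
          obtain ⟨B, hB⟩ := hR'
          refine neg_not_mem h3 h hr (B.symm.trans A) (funext fun x => ?_)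
          have := congrFun hB (B.symm x)
          simpa using this.symm
        have h2 := card_ternary (hO Q).1 (hO Q).2 h hr
        have h2' := card_ternary (hO fun x => -Q x).1 (hO fun x => -Q x).2 h.neg hrn
        have hg : gsq F ≤ 2 := by unfold gsq; split <;> omega
        have h4 := Finset.card_le_card (Finset.union_subset (hsub Q hQ) (hsub _ (hneg h3 Q hQ)))
        rw [Finset.card_union_of_disjoint hdisj] at h4
        rw [h3] at h2 h2' ⊢
        norm_num at h2 h2' ⊢
        have := h2.trans (Nat.mul_le_mul_right _ hg)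
        have := h2'.trans (Nat.mul_le_mul_right _ hg)
        omega
      · have hq4 : 4 ≤ Fintype.card F := by omega
        have hg : gsq F ≤ 2 := by unfold gsq; split <;> omega
        have h2 := h1.trans (Nat.mul_le_mul_right _ hg)
        generalize Fintype.card F = q at *
        obtain ⟨r, rfl⟩ : ∃ r, q = r + 4 := ⟨q - 4, by omega⟩
        have e1 : (r + 4) ^ (2 * 3) - 1 = ((r + 4) ^ 3 - 1) * ((r + 4) ^ 3 + 1) := by
          have : 1 ≤ (r + 4) ^ 3 := Nat.one_le_pow _ _ (by omega)
          obtain ⟨s, hs⟩ := Nat.exists_eq_add_of_le this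
          rw [show (r + 4) ^ (2 * 3) = (r + 4) ^ 3 * (r + 4) ^ 3 by ring, hs, Nat.add_sub_cancel_left]
          rw [show (1 + s) * (1 + s) = 1 + s * (1 + s + 1) by ring, Nat.add_sub_cancel_left]
        rw [e1]
        refine Nat.le_of_mul_le_mul_left (c := 2) ?_ two_pos
        have e2 : r + 4 - 1 = r + 3 := by omega
        rw [e2] at h2 ⊢
        calc 2 * (((r + 4) ^ 3 - 1) * ((r + 4) ^ 3 + 1))
            = (2 * ((r + 4) ^ 3 + 1)) * ((r + 4) ^ 3 - 1) := by ring
          _ ≤ ((r + 4) ^ 2 * (r + 3) * (r + 3)) * ((r + 4) ^ 3 - 1) := Nat.mul_le_mul_right _ (by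
              nlinarith [Nat.mul_le_mul_left ((r + 4) ^ 2) (show 2 * (r + 4) + 1 ≤ (r + 3) * (r + 3) by nlinarith),
                Nat.one_le_pow 2 (r + 4) (by omega), show 16 ≤ (r + 4) ^ 2 by nlinarith])
          _ = (r + 3) * ((r + 4) ^ 2 * (r + 3) * ((r + 4) ^ 3 - 1)) := by ring
          _ ≤ (r + 3) * (2 * Ω.card) := Nat.mul_le_mul_left _ h2
          _ = _ := by ring
    · intro h2
      have hg : gsq F = 1 := by
        unfold gsq
        rw [if_pos]
        by_contra h20
        have : ({0, 1, 2} : Finset F).card ≤ 2 := h2 ▸ Finset.card_le_univ _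
        rw [Finset.card_insert_of_notMem, Finset.card_insert_of_notMem, Finset.card_singleton] at this
        · omega
        · rw [Finset.mem_singleton]
          intro e
          exact one_ne_zero (α := F) (by linear_combination -e)
        · simp [Ne.symm h20]
      rw [hg, h2] at h1
      norm_num at h1 ⊢
      omega
  | succ n hn ih =>
    intro Ω hΩ hneg hΩq Q hQ h hb
    set q := Fintype.card F with hqdef
    obtain ⟨A, hψ, hψb, hcase⟩ := exists_step (Module.finrank_fin_fun F) hn h hb
    set P := fun x => Q (A x) with hPdef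
    have hP : P ∈ Ω := hΩ Q hQ A
    have hPq : QF P := h.comp A.toLinearMap
    set ψ₀ := restr P with hψ₀
    set k := (Ω.filter fun R => restr R = ψ₀).card with hk
    set R := (Set.toFinite (Set.range fun M : (Fin n → F) ≃ₗ[F] (Fin n → F) => fun y => ψ₀ (M y))).toFinset
    have hRmem : ∀ φ, φ ∈ R ↔ ∃ M : (Fin n → F) ≃ₗ[F] (Fin n → F), (fun y => ψ₀ (M y)) = φ := fun φ => by
      simp [R]
    have hRk : ∀ φ ∈ R, k ≤ (Ω.filter fun T => restr T = φ).card := fun φ hφ => by
      obtain ⟨M, rfl⟩ := (hRmem φ).1 hφ
      exact fibre_congr hΩ ψ₀ M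
    have hψb' : Big hPq.restr := hψb
    have hbigd : finrank F (rad hPq.restr) + 3 ≤ n := by
      have := hψb'; unfold Big at this; rwa [Module.finrank_fin_fun] at this
    -- the restrictions of the images
    have hsub : Ω.image restr ⊇ R := fun φ hφ => by
      obtain ⟨M, rfl⟩ := (hRmem φ).1 hφ
      exact restr_closed hΩ ψ₀ (Finset.mem_image_of_mem _ hP) M
    have hRclosed : Closed R := fun φ hφ M => by
      obtain ⟨N, rfl⟩ := (hRmem φ).1 hφ
      exact (hRmem _).2 ⟨M.trans N, rfl⟩
    have hψmem : ψ₀ ∈ R := (hRmem _).2 ⟨LinearEquiv.refl F _, rfl⟩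
    constructor
    · intro hq
      -- every big restriction has at least `q^3/2` extensions
      classical
      set R' := (Ω.image restr).filter fun φ => ∃ hφ : QF φ, Big hφ
      have hR'c : Closed R' := fun φ hφ M => by
        obtain ⟨h1, h2, h3⟩ := (Finset.mem_filter.1 hφ)
        refine Finset.mem_filter.2 ⟨restr_closed hΩ φ h1 M, h2.comp M.toLinearMap, ?_⟩
        unfold Big at h3 ⊢
        have hle : (rad (h2.comp M.toLinearMap)).map (M : (Fin n → F) →ₗ[F] (Fin n → F)) ≤ rad h2 := by
          rintro _ ⟨x, hx, rfl⟩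
          refine ⟨hx.1, fun y => ?_⟩
          obtain ⟨y, rfl⟩ := M.surjective y
          have := hx.2 y
          rwa [pB_comp] at this
        have := Submodule.finrank_mono hle
        rw [M.finrank_map_eq] at this
        omega
      have hR'n : NegClosed R' := fun h3 φ hφ => by
        obtain ⟨h1, h2, hb2⟩ := (Finset.mem_filter.1 hφ)
        refine Finset.mem_filter.2 ⟨negClosed_restr hneg h3 φ h1, h2.neg, ?_⟩
        unfold Big at hb2 ⊢
        have hle : rad h2.neg ≤ rad h2 := fun x hx => ⟨neg_eq_zero.1 hx.1, fun y => by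
          have h' : pB (fun x => -φ x) x y = 0 := hx.2 y
          simp [pB] at h' ⊢; linear_combination -h'⟩
        have := Submodule.finrank_mono hle
        omega
      have hR'k : ∀ φ ∈ R', q ^ 3 ≤ 2 * (Ω.filter fun T => restr T = φ).card := fun φ hφ => by
        obtain ⟨h1, h2, hb2⟩ := (Finset.mem_filter.1 hφ)
        obtain ⟨T, hT, rfl⟩ := Finset.mem_image.1 h1
        have hTq : QF T := hΩq T hT
        have h4 := shifts_ge_two hΩ hT hTq
        unfold Big at hb2
        rw [Module.finrank_fin_fun] at hb2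
        refine Nat.le_of_mul_le_mul_left (c := q ^ (n - 3)) ?_ (Nat.pow_pos (by omega))
        calc q ^ (n - 3) * q ^ 3 = q ^ n := by rw [← pow_add]; congr 1; omega
          _ ≤ _ := h4
          _ ≤ 2 * q ^ (n - 3) * (Ω.filter fun T' => restr T' = restr T).card :=
              Nat.mul_le_mul_right _ (Nat.mul_le_mul_left _ (Nat.pow_le_pow_right (by omega) (by omega)))
          _ = _ := by ring
      obtain ⟨hI, -⟩ := ih R' hR'c hR'n (fun φ hφ => (Finset.mem_filter.1 hφ).2.1) ψ₀ (Finset.mem_filter.2 ⟨hsub hψmem, hPq.restr, hψb'⟩) hPq.restr hψb'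
      have hsum : R'.card * q ^ 3 ≤ 2 * Ω.card := by
        calc R'.card * q ^ 3 = ∑ _φ ∈ R', q ^ 3 := by simp
          _ ≤ ∑ φ ∈ R', 2 * (Ω.filter fun T => restr T = φ).card := Finset.sum_le_sum hR'k
          _ = 2 * ∑ φ ∈ R', (Ω.filter fun T => restr T = φ).card := by rw [Finset.mul_sum]
          _ ≤ 2 * Ω.card := by
              refine Nat.mul_le_mul_left _ ?_
              rw [Finset.card_eq_sum_card_fiberwise (f := restr) (s := Ω) (t := Finset.univ)
                (fun _ _ => Finset.mem_univ _)]
              exact Finset.sum_le_sum_of_subset (Finset.subset_univ _)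
      have h5 := hI hq
      refine Nat.le_of_mul_le_mul_left (c := 2) ?_ two_pos
      calc 2 * (q ^ (2 * (n + 1)) - 1) ≤ (q ^ (2 * n) - 1) * q ^ 3 := by
            have e : q ^ (2 * (n + 1)) = q ^ (2 * n) * q ^ 2 := by rw [← pow_add]; congr 1
            have e3 : q ^ 3 = q ^ 2 * q := by ring
            have hbig : q ≤ q ^ (2 * n) := Nat.le_self_pow (by omega) _
            obtain ⟨a, ha⟩ : ∃ a, q ^ (2 * n) = a + 1 := ⟨q ^ (2 * n) - 1, by omega⟩
            rw [e, e3, ha, Nat.add_sub_cancel]
            have : 2 * ((a + 1) * q ^ 2) ≤ a * (q ^ 2 * q) := by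
              have h1 : 2 * (a + 1) ≤ a * q := by
                have := Nat.mul_le_mul_left a hq
                omega
              calc 2 * ((a + 1) * q ^ 2) = 2 * (a + 1) * q ^ 2 := by ring
                _ ≤ a * q * q ^ 2 := Nat.mul_le_mul_right _ h1
                _ = _ := by ring
            omega
        _ ≤ (q - 1) * R'.card * q ^ 3 := Nat.mul_le_mul_right _ h5
        _ = (q - 1) * (R'.card * q ^ 3) := by ring
        _ ≤ (q - 1) * (2 * Ω.card) := Nat.mul_le_mul_left _ hsum
        _ = _ := by ring
    · intro h2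
      have hih := (ih R hRclosed (fun h3 => absurd (h2.symm.trans h3) (by norm_num)) (fun φ hφ => by
        obtain ⟨M, rfl⟩ := (hRmem φ).1 hφ
        exact hPq.restr.comp M.toLinearMap) ψ₀ hψmem hPq.restr hψb').2 h2
      have hRsum := card_ge Ω R k hRk
      have hpow : 2 ^ (n + 1 - 1) * (2 ^ (n + 1) - 1) ≤ 8 * (2 ^ (n - 1) * (2 ^ n - 1)) := by
        obtain ⟨a, ha⟩ := Nat.exists_eq_add_of_le (Nat.one_le_pow n 2 two_pos)
        rw [show n + 1 - 1 = n - 1 + 1 by omega, pow_succ, pow_succ, ha,
          show (1 + a) * 2 - 1 = 2 * a + 1 by omega, Nat.add_sub_cancel_left]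
        have : 1 ≤ a := by
          have : 2 ^ 1 ≤ 2 ^ n := Nat.pow_le_pow_right two_pos (by omega)
          omega
        nlinarith [Nat.one_le_pow (n - 1) 2 two_pos]
      have big8 : 8 ≤ k → 2 ^ (n + 1 - 1) * (2 ^ (n + 1) - 1) ≤ Ω.card := fun h8 => hpow.trans (by
        calc 8 * (2 ^ (n - 1) * (2 ^ n - 1)) ≤ k * R.card := Nat.mul_le_mul h8 hih
          _ = R.card * k := mul_comm _ _
          _ ≤ _ := hRsum)
      rcases hcase with he | ⟨h3, hB⟩ | hB
      · have heP : (Pi.single 0 1 : Fin (n + 1) → F) ∈ rad hPq := ⟨he.1, fun y => by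
          show pB (fun x => Q (A.toLinearMap x)) _ y = 0
          rw [pB_comp]; exact he.2 _⟩
        have h4 := shifts_ge_rad hΩ hP hPq heP
        refine big8 ?_
        rw [show Fintype.card F = 2 from h2] at h4
        refine Nat.le_of_mul_le_mul_left (c := 2 ^ (n - 3)) ?_ (Nat.pow_pos two_pos)
        calc 2 ^ (n - 3) * 8 = 2 ^ n := by
              rw [show (8 : ℕ) = 2 ^ 3 from rfl, ← pow_add]; congr 1; omega
          _ ≤ _ := h4
          _ ≤ _ := Nat.mul_le_mul_right _ (Nat.pow_le_pow_right two_pos (by omega))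
      · subst h3
        obtain ⟨A', hψ', z, hz0, hz, hspan⟩ := exists_small h2 h hB
        set P' := fun x => Q (A' x)
        have hP' : P' ∈ Ω := hΩ Q hQ A'
        have h4 := shifts_ge_radB hΩ hP' (h.comp A'.toLinearMap)
        rw [show radB (h.comp A'.toLinearMap).restr = Submodule.span F {z} from hspan, finrank_span_singleton hz0,
          show Fintype.card F = 2 from h2] at h4
        -- a second image of the small restriction
        obtain ⟨w, hw⟩ : ∃ w, w ∉ Submodule.span F ({z} : Set (Fin 3 → F)) := by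
          by_contra hc
          push Not at hc
          have := finrank_span_singleton (K := F) hz0
          rw [(eq_top_iff.2 fun v _ => hc v : Submodule.span F ({z} : Set (Fin 3 → F)) = ⊤), finrank_top,
            Module.finrank_fin_fun] at this
          omega
        have hw0 : w ≠ 0 := fun e => hw (e ▸ Submodule.zero_mem _)
        obtain ⟨M, hM⟩ : ∃ M : (Fin 3 → F) ≃ₗ[F] (Fin 3 → F), M w = z := by
          let bz := LinearEquiv.ofFinrankEq (R := F) (Fin 3 → F) (Fin 3 → F) rfl
          obtain ⟨fz, hfz⟩ := Projective.exists_dual_ne_zero F hz0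
          obtain ⟨fw, hfw⟩ := Projective.exists_dual_ne_zero F hw0
          have hker : ∀ f : (Fin 3 → F) →ₗ[F] F, f ≠ 0 → finrank F (LinearMap.ker f) = 2 := fun f hf => by
            have h1 := f.finrank_range_add_finrank_ker
            rw [LinearMap.range_eq_top.2 (LinearMap.surjective_of_ne_zero hf), finrank_top, Module.finrank_self,
              Module.finrank_fin_fun] at h1
            omega
          obtain ⟨B1, hB1, -⟩ := exists_frame (Module.finrank_fin_fun F) (LinearMap.ker fz)
            (hker fz fun e => hfz (by rw [e]; rfl)) (e := z) hfz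
          obtain ⟨B2, hB2, -⟩ := exists_frame (Module.finrank_fin_fun F) (LinearMap.ker fw)
            (hker fw fun e => hfw (by rw [e]; rfl)) (e := w) hfw
          exact ⟨B2.symm.trans B1, by rw [LinearEquiv.trans_apply, ← hB2, B2.symm_apply_apply, hB1]⟩
        set φ1 := restr P'
        set φ2 := fun y => φ1 (M y)
        have hne : φ2 ≠ φ1 := fun e => hw (hspan ▸ (fun y => by
          have hq1 : QF φ1 := hψ'
          have e2 : pB φ2 w y = pB φ1 (M w) (M y) := pB_comp (Q := φ1) M.toLinearMap w y
          show pB φ1 w y = 0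
          rw [← e, e2, hM]
          exact hz.2 _ : w ∈ radB hψ'))
        have hnot : ∀ φ ∈ ({φ1, φ2} : Finset _), φ ∉ R := by
          intro φ hφ hR
          obtain ⟨N, hN⟩ := (hRmem φ).1 hR
          have hbot : rad hPq.restr = ⊥ := Submodule.finrank_eq_zero.1 (by omega)
          obtain ⟨v, hv0, hvr⟩ : ∃ v, v ≠ 0 ∧ φ v = 0 ∧ ∀ y, pB φ v y = 0 := by
            simp only [Finset.mem_insert, Finset.mem_singleton] at hφ
            rcases hφ with rfl | rfl
            · exact ⟨z, hz0, hz.1, hz.2⟩
            · exact ⟨w, hw0, by show φ1 (M w) = 0; rw [hM]; exact hz.1, fun y => by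
                show pB (fun y => φ1 (M.toLinearMap y)) w y = 0
                rw [pB_comp]
                show pB φ1 (M w) _ = 0
                rw [hM]; exact hz.2 _⟩
          have hmem : N v ∈ rad hPq.restr := ⟨(congrFun hN v).trans hvr.1, fun y => by
            have := hvr.2 (N.symm y)
            rw [← hN] at this
            simpa [pB] using this⟩
          rw [hbot, Submodule.mem_bot] at hmem
          exact hv0 (N.map_eq_zero_iff.1 hmem)
        have hk4 : 4 ≤ k := by
          have h5 := shifts_ge_radB hΩ hP hPq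
          rw [show Fintype.card F = 2 from h2] at h5
          have h6 := finrank_radB_le hPq.restr
          refine Nat.le_of_mul_le_mul_left (c := 2) ?_ two_pos
          refine le_trans (le_of_eq (by norm_num)) (h5.trans (Nat.mul_le_mul_right _ ?_))
          exact (Nat.pow_le_pow_right two_pos (by omega : finrank F (radB hPq.restr) ≤ 1))
        have hk1 : ∀ φ ∈ ({φ1, φ2} : Finset _), 4 ≤ (Ω.filter fun T => restr T = φ).card := by
          intro φ hφ
          simp only [Finset.mem_insert, Finset.mem_singleton] at hφ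
          have h7 : 4 ≤ (Ω.filter fun T => restr T = φ1).card := by
            norm_num at h4; omega
          rcases hφ with rfl | rfl
          · exact h7
          · exact h7.trans (fibre_congr hΩ φ1 M)
        have hdisj : Disjoint R ({φ1, φ2} : Finset _) := Finset.disjoint_right.2 hnot
        have h8 := card_ge Ω (R ∪ {φ1, φ2}) 4 fun φ hφ => by
          rcases Finset.mem_union.1 hφ with hφ | hφ
          · exact hk4.trans (hRk φ hφ)
          · exact hk1 φ hφ
        rw [Finset.card_union_of_disjoint hdisj, Finset.card_pair hne.symm] at h8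
        norm_num at hih ⊢
        omega
      · refine big8 ?_
        have h4 := shifts_ge_radB hΩ hP hPq
        rw [show Fintype.card F = 2 from h2] at h4
        refine Nat.le_of_mul_le_mul_left (c := 2 ^ (n - 3)) ?_ (Nat.pow_pos two_pos)
        calc 2 ^ (n - 3) * 8 = 2 ^ n := by
              rw [show (8 : ℕ) = 2 ^ 3 from rfl, ← pow_add]; congr 1; omega
          _ ≤ _ := h4
          _ ≤ _ := Nat.mul_le_mul_right _ (Nat.pow_le_pow_right two_pos (by
              have : finrank F (radB hψ) = finrank F (radB hPq.restr) := rfl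
              omega))

end CfsgLib.MinIndexSp
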