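import Cfsg.Agent.Lib.MinIndexSp.Chars
import Cfsg.Agent.Lib.MinIndexSp.Orbit
import Cfsg.Agent.Lib.MinIndexSp.Count
import Cfsg.Agent.Lib.SpEvenMinDegree.Main
import Cfsg.Agent.Lib.Classical.SympStab

/-!
A subgroup of small index of `Sp(2m, q)`, `m ≥ 3`, contains a full transvection group.
-/

set_option autoImplicit false
set_option linter.unusedSectionVars false

namespace CfsgLib.MinIndexSp

open Matrix Cfsg Module
open CfsgLib.SpMinDegree (unip leviS symCongr leviS_conj)
open CfsgLib.SpEvenMinDegree (line duo exists_psi psi_inj line_add line_smul duo_add duo_smul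
  line_add_scalar duo_add_scalar symCongr_line unip_notMem_center congrChar)
open CfsgLib.Classical.SympTrans (T app ext_app app_T conj_T f_apply)
open CfsgLib.Classical.SympStab (centres)

variable {F : Type*} [Field F] [Fintype F] [DecidableEq F] {m : ℕ}

local notation "G" => Matrix.symplecticGroup (Fin m) F
local notation "V" => (Fin m → F)

/-- The small index hypothesis. -/
def Small (F : Type*) [Field F] [Fintype F] (m d : ℕ) : Prop :=
  (3 ≤ Fintype.card F → (Fintype.card F - 1) * d < Fintype.card F ^ (2 * m) - 1) ∧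
    (Fintype.card F = 2 → d < 2 ^ (m - 1) * (2 ^ m - 1))

theorem unip_line (c : F) (x : V) : (unip (line c x) : G) = T (Sum.elim x 0) c := by
  refine ext_app fun y => ?_
  rw [app_T]
  have hω : sympForm m F y (Sum.elim x 0) = (fun i => y (.inr i)) ⬝ᵥ x := by
    rw [f_apply, dotProduct]
    simp
  rw [hω]
  show Matrix.fromBlocks 1 (c • vecMulVec x x) 0 1 *ᵥ y = _
  rw [fromBlocks_mulVec]
  funext i
  rcases i with i | i
  · simp [smul_mulVec, vecMulVec_mulVec, dotProduct_comm x, Function.comp_def]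
    ring
  · simp

/-- The quadratic function of a character of the radical. -/
noncomputable def qf (χ : AddChar (SpMinDegree.Sym F m) ℂ) (x : V) : F :=
  (exists_psi (χ.compAddMonoidHom (AddMonoidHom.mk' (fun c => line c x) fun c d => line_add_scalar c d x))).choose

theorem qf_spec (χ : AddChar (SpMinDegree.Sym F m) ℂ) (x : V) (c : F) : χ (line c x) = RankOne.psi F (qf χ x * c) :=
  (exists_psi (χ.compAddMonoidHom (AddMonoidHom.mk' (fun c => line c x) fun c d => line_add_scalar c d x))).choose_spec c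

theorem qf_eq {χ : AddChar (SpMinDegree.Sym F m) ℂ} {x : V} {a : F} (h : ∀ c, χ (line c x) = RankOne.psi F (a * c)) :
    qf χ x = a := psi_inj fun c => by rw [← qf_spec, h]

theorem duo_spec (χ : AddChar (SpMinDegree.Sym F m) ℂ) (x y : V) (c : F) :
    χ (duo c x y) = RankOne.psi F (pB (qf χ) x y * c) := by
  have h := qf_spec χ (x + y) c
  rw [line_add, AddChar.map_add_eq_mul, AddChar.map_add_eq_mul, qf_spec, qf_spec,
    q_add (qf χ), add_mul, add_mul, AddChar.map_add_eq_mul, AddChar.map_add_eq_mul] at h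
  exact mul_left_cancel₀ (mul_ne_zero (AddChar.val_isUnit _ _).ne_zero (AddChar.val_isUnit _ _).ne_zero) h

theorem qf_quad (χ : AddChar (SpMinDegree.Sym F m) ℂ) : QF (qf χ) where
  smul a v := qf_eq fun c => by rw [line_smul, qf_spec]; congr 1; ring
  add_left u v w := psi_inj fun c => by
    rw [← duo_spec, duo_add, AddChar.map_add_eq_mul, duo_spec, duo_spec, add_mul, AddChar.map_add_eq_mul]
  smul_left a v w := psi_inj fun c => by
    rw [← duo_spec, duo_smul, duo_spec]; congr 1; ring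

theorem qf_mul (χ χ' : AddChar (SpMinDegree.Sym F m) ℂ) : qf (χ * χ') = fun x => qf χ x + qf χ' x :=
  funext fun x => qf_eq fun c => by
    rw [AddChar.mul_apply, qf_spec, qf_spec, add_mul, AddChar.map_add_eq_mul]

theorem qf_inv (χ : AddChar (SpMinDegree.Sym F m) ℂ) : qf χ⁻¹ = fun x => -qf χ x :=
  funext fun x => qf_eq fun c => by
    rw [AddChar.inv_apply, show -line c x = line (-c) x from Subtype.ext (by simp [line]), qf_spec]
    congr 1; ring

theorem qf_one : qf (1 : AddChar (SpMinDegree.Sym F m) ℂ) = fun _ => 0 :=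
  funext fun x => qf_eq fun c => by rw [AddChar.one_apply, zero_mul, AddChar.map_zero_eq_one]

theorem sym_decomp (S : SpMinDegree.Sym F m) : S = ∑ i, line (S.1 i i) (Pi.single i 1) +
    ∑ i, ∑ j ∈ Finset.univ.filter (i < ·), duo (S.1 i j) (Pi.single i 1) (Pi.single j 1) := by
  refine Subtype.ext (Matrix.ext fun a b => ?_)
  have hab : S.1 b a = S.1 a b := congrFun (congrFun (show (S.1)ᵀ = S.1 from S.2) a) b
  simp only [line, duo, AddSubgroup.coe_add, AddSubmonoidClass.coe_finset_sum, Matrix.add_apply,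
    Matrix.sum_apply, Matrix.smul_apply, Matrix.add_apply, vecMulVec_apply, Pi.single_apply, smul_eq_mul]
  simp only [mul_ite, ite_mul, mul_one, mul_zero, zero_mul, mul_add, ite_add_zero, Finset.sum_add_distrib]
  simp [Finset.sum_ite_eq, Finset.sum_ite_eq', Finset.sum_filter]
  rw [Finset.sum_eq_single a (fun x _ hx => by simp [Ne.symm hx]) (by simp)]
  rcases lt_trichotomy a b with h | rfl | h
  · simp [h, h.ne, h.not_gt]
  · simp
  · simp [h, h.ne', h.not_gt, hab]

theorem qf_injective : Function.Injective (qf : AddChar (SpMinDegree.Sym F m) ℂ → V → F) := by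
  intro χ χ' h
  refine DFunLike.ext _ _ fun S => ?_
  have h1 : ∀ c x, χ (line c x) = χ' (line c x) := fun c x => by rw [qf_spec, qf_spec, h]
  have h2 : ∀ c x y, χ (duo c x y) = χ' (duo c x y) := fun c x y => by rw [duo_spec, duo_spec, h]
  have hsum : ∀ (f : AddChar (SpMinDegree.Sym F m) ℂ) (s : Finset (Fin m)) (a : Fin m → SpMinDegree.Sym F m),
      f (∑ i ∈ s, a i) = ∏ i ∈ s, f (a i) := fun f s a =>
    map_prod f.toMonoidHom (fun i => Multiplicative.ofAdd (a i)) s
  rw [sym_decomp S]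
  simp only [AddChar.map_add_eq_mul, hsum, h1, h2]

/-- The matrix of a linear automorphism. -/
noncomputable def matOf (A : V ≃ₗ[F] V) : GL (Fin m) F :=
  Matrix.GeneralLinearGroup.toLin.symm (LinearMap.GeneralLinearGroup.ofLinearEquiv A)

theorem matOf_mulVec (A : V ≃ₗ[F] V) (v : V) : (matOf A : Matrix (Fin m) (Fin m) F) *ᵥ v = A v := by
  show LinearMap.toMatrix' A.toLinearMap *ᵥ v = A v
  rw [LinearMap.toMatrix'_mulVec]
  rfl

theorem qf_congr (χ : AddChar (SpMinDegree.Sym F m) ℂ) (g : GL (Fin m) F) :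
    qf (congrChar χ g) = fun x => qf χ ((g : Matrix (Fin m) (Fin m) F) *ᵥ x) :=
  funext fun x => qf_eq fun c => by
    show χ (symCongr g (line c x)) = _
    rw [symCongr_line, qf_spec]

variable (H : Subgroup (Matrix.symplecticGroup (Fin m) F))

/-- The functions of the characters attached to a coset. -/
noncomputable def forms (p : G ⧸ H) : Finset (V → F) := by
  classical
  exact Finset.univ.filter fun φ => ∃ χ : AddChar (SpMinDegree.Sym F m) ℂ, At (A := ↥(SpMinDegree.Sym F m)) unip χ p ∧ qf χ = φ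

theorem mem_forms {p : G ⧸ H} {φ : V → F} :
    φ ∈ forms H p ↔ ∃ χ : AddChar (SpMinDegree.Sym F m) ℂ, At (A := ↥(SpMinDegree.Sym F m)) unip χ p ∧ qf χ = φ := by
  classical simp [forms]

theorem card_forms (p : G ⧸ H) : (forms H p).card = Nat.card (orb (A := ↥(SpMinDegree.Sym F m)) unip p) := by
  rw [← card_at (A := ↥(SpMinDegree.Sym F m)), ← Nat.card_eq_finsetCard]
  refine (Nat.card_congr (Equiv.ofBijective
    (fun χ : {χ : AddChar (SpMinDegree.Sym F m) ℂ // At (A := ↥(SpMinDegree.Sym F m)) unip χ p} =>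
      (⟨qf χ.1, (mem_forms H).2 ⟨χ.1, χ.2, rfl⟩⟩ : forms H p)) ⟨?_, ?_⟩)).symm
  · exact fun χ χ' h => Subtype.ext (qf_injective (congrArg Subtype.val h))
  · rintro ⟨φ, hφ⟩
    obtain ⟨χ, hχ, rfl⟩ := (mem_forms H).1 hφ
    exact ⟨⟨χ, hχ⟩, rfl⟩

theorem forms_levi (p : G ⧸ H) (A : V ≃ₗ[F] V) :
    forms H ((leviS (matOf A))⁻¹ • p) = sub (forms H p) A := by
  set g := matOf A
  have key : ∀ a, a ∈ St (A := ↥(SpMinDegree.Sym F m)) unip ((leviS g)⁻¹ • p) ↔ symCongr g a ∈ St (A := ↥(SpMinDegree.Sym F m)) unip p := fun a => by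
    have := mem_St_conj (A := ↥(SpMinDegree.Sym F m)) unip (leviS_conj g a) ((leviS g)⁻¹ • p)
    rw [smul_inv_smul] at this
    exact this.symm
  have hg : ∀ v, ((g⁻¹ : GL (Fin m) F) : Matrix (Fin m) (Fin m) F) *ᵥ A v = v := fun v => by
    rw [← matOf_mulVec, mulVec_mulVec, ← Units.val_mul, inv_mul_cancel, Units.val_one, one_mulVec]
  ext φ
  rw [mem_forms, mem_sub]
  constructor
  · rintro ⟨χ, hχ, rfl⟩
    refine ⟨qf (congrChar χ g⁻¹), (mem_forms H).2 ⟨_, fun b hb => ?_, rfl⟩, funext fun x => ?_⟩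
    · show χ (symCongr g⁻¹ b) = 1
      refine hχ _ ((key _).2 ?_)
      rwa [show symCongr g (symCongr g⁻¹ b) = b from (symCongr g).apply_symm_apply b]
    · rw [qf_congr]
      exact congrArg (qf χ) (hg x)
  · rintro ⟨ψ, hψ, rfl⟩
    obtain ⟨χ, hχ, rfl⟩ := (mem_forms H).1 hψ
    refine ⟨congrChar χ g, fun a ha => hχ _ ((key a).1 ha), ?_⟩
    rw [qf_congr]
    exact funext fun x => congrArg (qf χ) (matOf_mulVec A x)

theorem exists_line_move (hfree : ∀ v : Fin m ⊕ Fin m → F, v ≠ 0 → v ∉ centres H) (p : G ⧸ H) {x : V}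
    (hx : x ≠ 0) : ∃ φ ∈ forms H p, φ x ≠ 0 := by
  obtain ⟨g, rfl⟩ := QuotientGroup.mk_surjective p
  have hv : (Sum.elim x 0 : Fin m ⊕ Fin m → F) ≠ 0 := fun e => hx (funext fun i => congrFun e (.inl i))
  have := hfree (app g⁻¹ (Sum.elim x 0)) (Classical.SympTrans.app_ne_zero g⁻¹ hv)
  obtain ⟨c, hc⟩ : ∃ c, T (app g⁻¹ (Sum.elim x 0)) c ∉ H := not_forall.1 this
  have hns : line c x ∉ St (A := ↥(SpMinDegree.Sym F m)) unip (g : G ⧸ H) := by
    intro h
    have h' : unip (line c x) • (g : G ⧸ H) = (g : G ⧸ H) := h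
    rw [unip_line, MulAction.Quotient.smul_coe, smul_eq_mul, eq_comm, QuotientGroup.eq, ← mul_assoc] at h'
    refine hc ?_
    have := conj_T g⁻¹ (Sum.elim x 0) c
    rw [inv_inv] at this
    rwa [this] at h'
  obtain ⟨χ, hχ, hne⟩ := exists_at (A := ↥(SpMinDegree.Sym F m)) unip hns
  refine ⟨qf χ, (mem_forms H).2 ⟨χ, hχ, rfl⟩, fun h0 => hne ?_⟩
  rw [qf_spec, h0, zero_mul, AddChar.map_zero_eq_one]

/-- A subgroup of small index contains a full transvection group. -/
theorem exists_centre (hm : 3 ≤ m) (hH : H ≠ ⊤) (hd : Small F m H.index) :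
    ∃ v : Fin m ⊕ Fin m → F, v ≠ 0 ∧ v ∈ centres H := by
  classical
  by_contra hc
  push Not at hc
  have hfree : ∀ v : Fin m ⊕ Fin m → F, v ≠ 0 → v ∉ centres H := hc
  have hq : 2 ≤ Fintype.card F := Fintype.one_lt_card
  have hidx : Nat.card (G ⧸ H) = H.index := rfl
  -- a coset with a form that is not additive
  obtain ⟨p, hpol⟩ : ∃ p : G ⧸ H, (2 : F) = 0 → ∃ φ ∈ forms H p, ∃ x y, pB φ x y ≠ 0 := by
    by_contra hall
    push Not at hall
    set x : V := Pi.single ⟨0, by omega⟩ 1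
    set y : V := Pi.single ⟨1, by omega⟩ 1
    have hS : duo 1 x y ≠ 0 := fun h => by
      have := congrFun (congrFun (congrArg Subtype.val h) ⟨0, by omega⟩) ⟨1, by omega⟩
      simp [duo, x, y, vecMulVec_apply] at this
    have hfix : ∀ p : G ⧸ H, duo 1 x y ∈ St (A := ↥(SpMinDegree.Sym F m)) unip p := fun p => by
      by_contra hn
      obtain ⟨χ, hχ, hne⟩ := exists_at (A := ↥(SpMinDegree.Sym F m)) unip hn
      refine hne ?_
      rw [duo_spec, (hall p).2 _ ((mem_forms H).2 ⟨χ, hχ, rfl⟩) x y, zero_mul, AddChar.map_zero_eq_one]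
    have hcore : (unip (duo 1 x y) : G) ∈ H.normalCore := fun b => by
      have h : unip (duo 1 x y) • ((b⁻¹ : G) : G ⧸ H) = ((b⁻¹ : G) : G ⧸ H) := hfix _
      rw [MulAction.Quotient.smul_coe, smul_eq_mul, eq_comm, QuotientGroup.eq, inv_inv, ← mul_assoc] at h
      exact h
    rcases Classical.SympTrans.commutator_le_or_le_center H.normalCore with h | h
    · exact unip_notMem_center hS (h hcore)
    · refine hH (top_le_iff.1 ?_)
      rw [← Classical.SympTrans.commutator_of_card (F := F) (m := m) (Or.inl hm)]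
      exact h.trans H.normalCore_le
  set U := forms H p with hU
  have hadd : ∀ φ ∈ U, ∀ ψ ∈ U, (fun x => φ x + ψ x) ∈ U := by
    intro φ hφ ψ hψ
    obtain ⟨χ, hχ, rfl⟩ := (mem_forms H).1 hφ
    obtain ⟨χ', hχ', rfl⟩ := (mem_forms H).1 hψ
    exact (mem_forms H).2 ⟨χ * χ', hχ.mul (A := ↥(SpMinDegree.Sym F m)) unip hχ', qf_mul χ χ'⟩
  have hQF : ∀ φ ∈ U, QF φ := fun φ hφ => by
    obtain ⟨χ, -, rfl⟩ := (mem_forms H).1 hφ
    exact qf_quad χ
  rcases big_or_form hm U hadd hQF (fun v hv => exists_line_move H hfree p hv) hpol with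
    ⟨ψ, hψ, h, hbig⟩ | ⟨h2, a₀, l, ha₀, hl, hf⟩
  · -- all occurring forms
    set Ω := (Finset.univ : Finset (G ⧸ H)).biUnion (forms H) with hΩ
    have hmem : ∀ φ, φ ∈ Ω ↔ ∃ p, φ ∈ forms H p := fun φ => by simp [hΩ]
    have hclosed : Closed Ω := fun Q hQ A => by
      obtain ⟨p, hp⟩ := (hmem Q).1 hQ
      exact (hmem _).2 ⟨(leviS (matOf A))⁻¹ • p, by rw [forms_levi]; exact mem_sub.2 ⟨Q, hp, rfl⟩⟩
    have hneg : NegClosed Ω := fun _ Q hQ => by
      obtain ⟨p, hp⟩ := (hmem Q).1 hQ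
      obtain ⟨χ, hχ, rfl⟩ := (mem_forms H).1 hp
      exact (hmem _).2 ⟨p, (mem_forms H).2 ⟨χ⁻¹, hχ.inv (A := ↥(SpMinDegree.Sym F m)) unip, qf_inv χ⟩⟩
    have hΩq : ∀ φ ∈ Ω, QF φ := fun φ hφ => by
      obtain ⟨p, hp⟩ := (hmem φ).1 hφ
      obtain ⟨χ, -, rfl⟩ := (mem_forms H).1 hp
      exact qf_quad χ
    have hle : Ω.card ≤ H.index := by
      rw [← hidx, ← Nat.card_univ (α := G ⧸ H)]
      refine le_trans ?_ (card_occ_le (A := ↥(SpMinDegree.Sym F m)) unip (Set.univ : Set (G ⧸ H)) fun _ _ _ => trivial)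
      rw [← Nat.card_eq_finsetCard]
      refine Nat.card_le_card_of_surjective
        (fun χ : {χ : AddChar (SpMinDegree.Sym F m) ℂ // ∃ x ∈ (Set.univ : Set (G ⧸ H)), At (A := ↥(SpMinDegree.Sym F m)) unip χ x} =>
          (⟨qf χ.1, (hmem _).2 ⟨χ.2.choose, (mem_forms H).2 ⟨χ.1, χ.2.choose_spec.2, rfl⟩⟩⟩ : Ω)) ?_
      rintro ⟨φ, hφ⟩
      obtain ⟨p, hp⟩ := (hmem φ).1 hφ
      obtain ⟨χ, hχ, rfl⟩ := (mem_forms H).1 hp
      exact ⟨⟨χ, p, trivial, hχ⟩, rfl⟩
    obtain ⟨h3, h2⟩ := card_big m hm Ω hclosed hneg hΩq ψ ((hmem _).2 ⟨p, hψ⟩) h hbig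
    rcases Nat.lt_or_ge (Fintype.card F) 3 with hlt | hge
    · have := h2 (by omega); have := hd.2 (by omega); omega
    · have := (h3 hge).trans (Nat.mul_le_mul_left _ hle); have := hd.1 hge; omega
  · -- one family for each functional
    have : Finite (V ≃ₗ[F] V) := DFunLike.finite _
    have := Fintype.ofFinite (V ≃ₗ[F] V)
    set P := Finset.univ.image (sub U) with hP
    obtain ⟨h3, h2'⟩ := form_bound hm h2 ha₀ hadd (fun v hv => exists_line_move H hfree p hv) hl hf P
      fun g => Finset.mem_image.2 ⟨g, Finset.mem_univ _, rfl⟩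
    have hpt : ∀ W ∈ P, ∃ y : G ⧸ H, forms H y = W := fun W hW => by
      obtain ⟨g, -, rfl⟩ := Finset.mem_image.1 hW
      exact ⟨_, forms_levi H p g⟩
    choose y hy using hpt
    have horb : ∀ W : P, Nat.card (orb (A := ↥(SpMinDegree.Sym F m)) unip (y W.1 W.2)) = U.card := fun W => by
      obtain ⟨g, -, hg⟩ := Finset.mem_image.1 W.2
      rw [← card_forms, hy, ← hg, sub]
      refine Finset.card_image_of_injective _ fun a b e => funext fun x => ?_
      simpa using congrFun e (g.symm x)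
    have hle : U.card * P.card ≤ H.index := by
      rw [← hidx]
      refine le_trans (le_of_eq ?_) (Nat.card_le_card_of_injective
        (fun z : Σ W : P, orb (A := ↥(SpMinDegree.Sym F m)) unip (y W.1 W.2) => z.2.1) ?_)
      · rw [Nat.card_sigma, Finset.sum_congr rfl fun W _ => horb W, Finset.sum_const, Finset.card_univ,
          Fintype.card_coe, smul_eq_mul, mul_comm]
      · rintro ⟨W, z, a, rfl⟩ ⟨W', z', a', rfl⟩ (e : unip a • y W.1 W.2 = unip a' • y W'.1 W'.2)
        obtain rfl : W = W' := Subtype.ext (by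
          rw [← hy W.1 W.2, ← hy W'.1 W'.2]
          ext φ
          simp only [mem_forms]
          refine exists_congr fun χ => and_congr_left fun _ => ?_
          rw [← at_smul (A := ↥(SpMinDegree.Sym F m)) unip χ a, e, at_smul])
        exact congrArg _ (Subtype.ext e)
    rcases Nat.lt_or_ge (Fintype.card F) 3 with hlt | hge
    · have := h2' (by omega); have := hd.2 (by omega); omega
    · have := (h3 hge).trans (Nat.mul_le_mul_left _ hle); have := hd.1 hge; omega

end CfsgLib.MinIndexSp
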