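import Cfsg.Agent.Lib.MinIndexSp.Quad

/-!
Extensions of a quadratic function from a hyperplane, for counting forms.
-/

set_option autoImplicit false
set_option linter.unusedSectionVars false

namespace CfsgLib.MinIndexSp

open Module

variable {F : Type*} [Field F] {n : ℕ}

/-- Closed under linear substitutions. -/
def Closed {V : Type*} [AddCommGroup V] [Module F V] (Ω : Finset (V → F)) : Prop :=
  ∀ Q ∈ Ω, ∀ A : V ≃ₗ[F] V, (fun x => Q (A x)) ∈ Ω

variable (F n) in
/-- The first coordinate hyperplane. -/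
def tailEmb : (Fin n → F) →ₗ[F] (Fin (n + 1) → F) where
  toFun y := Fin.cons 0 y
  map_add' x y := funext fun i => by cases i using Fin.cases <;> simp
  map_smul' c x := funext fun i => by cases i using Fin.cases <;> simp

theorem tailEmb_apply (y : Fin n → F) : tailEmb F n y = Fin.cons 0 y := rfl

/-- The restriction to the first coordinate hyperplane. -/
def restr (Q : (Fin (n + 1) → F) → F) (y : Fin n → F) : F := Q (Fin.cons 0 y)

theorem QF.restr {Q : (Fin (n + 1) → F) → F} (h : QF Q) : QF (restr Q) := h.comp (tailEmb F n)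

theorem cons_eq (a : F) (y : Fin n → F) :
    (Fin.cons a y : Fin (n + 1) → F) = a • (Pi.single 0 1 : Fin (n + 1) → F) + Fin.cons 0 y :=
  funext fun i => by cases i using Fin.cases <;> simp

/-- A form is determined by its data at the first axis and hyperplane. -/
theorem expand {Q : (Fin (n + 1) → F) → F} (h : QF Q) (a : F) (y : Fin n → F) :
    Q (Fin.cons a y) = a * a * Q (Pi.single 0 1) + restr Q y + a * pB Q (Pi.single 0 1) (Fin.cons 0 y) := by
  rw [cons_eq, q_add Q, h.smul, h.smul_left]
  rfl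

/-- `x ↦ (s x₀, M(x') + x₀ w)`. -/
def lift (s : Fˣ) (w : Fin n → F) (M : (Fin n → F) ≃ₗ[F] (Fin n → F)) :
    (Fin (n + 1) → F) ≃ₗ[F] (Fin (n + 1) → F) where
  toFun x := Fin.cons ((s : F) * x 0) (M (Fin.tail x) + x 0 • w)
  map_add' x y := funext fun i => by
    cases i using Fin.cases with
    | zero => simp [mul_add]
    | succ i =>
      have : Fin.tail (x + y) = Fin.tail x + Fin.tail y := rfl
      simp [this, add_smul]; ring
  map_smul' c x := funext fun i => by
    cases i using Fin.cases with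
    | zero => simp; ring
    | succ i =>
      have : Fin.tail (c • x) = c • Fin.tail x := rfl
      simp [this]; ring
  invFun x := Fin.cons (((s⁻¹ : Fˣ) : F) * x 0) (M.symm (Fin.tail x - (((s⁻¹ : Fˣ) : F) * x 0) • w))
  left_inv x := by
    have h0 : ((s⁻¹ : Fˣ) : F) * ((s : F) * x 0) = x 0 := by rw [← mul_assoc, Units.inv_mul, one_mul]
    simp only [Fin.cons_zero, Fin.tail_cons, h0, add_sub_cancel_right, LinearEquiv.symm_apply_apply, Fin.cons_self_tail]
  right_inv x := by
    simp only [Fin.cons_zero, Fin.tail_cons, LinearEquiv.apply_symm_apply, sub_add_cancel]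
    rw [← mul_assoc, Units.mul_inv, one_mul, Fin.cons_self_tail]

theorem lift_cons (s : Fˣ) (w : Fin n → F) (M : (Fin n → F) ≃ₗ[F] (Fin n → F)) (a : F) (y : Fin n → F) :
    lift s w M (Fin.cons a y) = Fin.cons ((s : F) * a) (M y + a • w) := by
  refine (rfl : _ = (Fin.cons ((s : F) * (Fin.cons a y : Fin (n + 1) → F) 0)
    (M (Fin.tail (Fin.cons a y : Fin (n + 1) → F)) + (Fin.cons a y : Fin (n + 1) → F) 0 • w) : Fin (n + 1) → F)).trans ?_
  rw [Fin.cons_zero, Fin.tail_cons]

theorem lift_cons_zero (s : Fˣ) (w : Fin n → F) (M : (Fin n → F) ≃ₗ[F] (Fin n → F)) (y : Fin n → F) :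
    lift s w M (Fin.cons 0 y) = Fin.cons 0 (M y) := by
  rw [lift_cons]; simp

theorem lift_single (s : Fˣ) (w : Fin n → F) (M : (Fin n → F) ≃ₗ[F] (Fin n → F)) :
    lift s w M (Pi.single 0 1) = Fin.cons (s : F) w := by
  have e : (Pi.single 0 1 : Fin (n + 1) → F) = Fin.cons 1 0 := funext fun i => by
    cases i using Fin.cases <;> simp
  rw [e, lift_cons]; simp

/-- Translating the first axis by `w`. -/
def shift (Q : (Fin (n + 1) → F) → F) (w : Fin n → F) : (Fin (n + 1) → F) → F :=
  fun x => Q (lift 1 w (LinearEquiv.refl F _) x)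

theorem restr_shift (Q : (Fin (n + 1) → F) → F) (w : Fin n → F) : restr (shift Q w) = restr Q := by
  funext y
  simp [restr, shift, lift_cons_zero]

/-- Two translates agree only if they differ in the polar radical, at a zero of an affine form. -/
theorem shift_eq {Q : (Fin (n + 1) → F) → F} (h : QF Q) {w w' : Fin n → F} (e : shift Q w = shift Q w') :
    (w - w') ∈ radB h.restr ∧
      restr Q (w - w') + pB Q (Fin.cons 1 w') (Fin.cons 0 (w - w')) = 0 := by
  have hS : ∀ v, shift Q v (Pi.single 0 1) = Q (Fin.cons 1 v) := fun v => by simp [shift, lift_single]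
  have hB : ∀ v y, pB (shift Q v) (Pi.single 0 1) (Fin.cons 0 y) = pB Q (Fin.cons 1 v) (Fin.cons 0 y) := fun v y => by
    show pB (fun x => Q ((lift 1 v (LinearEquiv.refl F _)).toLinearMap x)) _ _ = _
    rw [pB_comp]
    simp [lift_single, lift_cons_zero]
  have hcons : ∀ v : Fin n → F, (Fin.cons 1 v : Fin (n + 1) → F) = Fin.cons 1 w' + Fin.cons 0 (v - w') := fun v =>
    funext fun i => by cases i using Fin.cases <;> simp
  refine ⟨fun y => ?_, ?_⟩
  · show pB (fun y => Q (tailEmb F n y)) _ _ = 0
    rw [pB_comp]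
    have h1 := (hB w y).symm.trans ((congrArg (fun f => pB f _ _) e).trans (hB w' y))
    rw [hcons w, h.add_left] at h1
    exact add_eq_left.1 h1
  · have h1 := (hS w).symm.trans ((congrFun e _).trans (hS w'))
    rw [hcons w, q_add Q] at h1
    show Q (Fin.cons 0 (w - w')) + _ = 0
    linear_combination h1

section Count

variable [Fintype F] [DecidableEq F]

theorem card_tail : Fintype.card (Fin n → F) = Fintype.card F ^ n := by simp

/-- If each restriction has `k` extensions. -/
theorem card_ge (Ω : Finset ((Fin (n + 1) → F) → F)) (R : Finset ((Fin n → F) → F)) (k : ℕ)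
    (hk : ∀ ψ ∈ R, k ≤ (Ω.filter fun Q => restr Q = ψ).card) : R.card * k ≤ Ω.card := by
  calc R.card * k = ∑ _ψ ∈ R, k := by simp
    _ ≤ ∑ ψ ∈ R, (Ω.filter fun Q => restr Q = ψ).card := Finset.sum_le_sum hk
    _ = (Ω.filter fun Q => restr Q ∈ R).card := by
        refine Eq.trans ?_ (Finset.card_eq_sum_card_fiberwise (f := restr) (t := R) (fun Q hQ => (Finset.mem_filter.1 hQ).2)).symm
        refine Finset.sum_congr rfl fun ψ hψ => ?_
        congr 1
        ext Q
        simp only [Finset.mem_filter, and_assoc]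
        exact ⟨fun ⟨a, b⟩ => ⟨a, b ▸ hψ, b⟩, fun ⟨a, _, b⟩ => ⟨a, b⟩⟩
    _ ≤ Ω.card := Finset.card_filter_le _ _

variable {Ω : Finset ((Fin (n + 1) → F) → F)}

theorem restr_closed (hΩ : Closed Ω) : Closed (Ω.image restr) := by
  intro ψ hψ M
  obtain ⟨Q, hQ, rfl⟩ := Finset.mem_image.1 hψ
  exact Finset.mem_image.2 ⟨_, hΩ Q hQ (lift 1 0 M), funext fun y => by simp [restr, lift_cons_zero]⟩

/-- The translates give at least `q^n / b` extensions. -/
theorem shifts_ge (hΩ : Closed Ω) {Q : (Fin (n + 1) → F) → F} (hQ : Q ∈ Ω) (b : ℕ)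
    (hb : ∀ w', (Finset.univ.filter fun w => shift Q w = shift Q w').card ≤ b) :
    Fintype.card F ^ n ≤ b * (Ω.filter fun R => restr R = restr Q).card := by
  rw [← card_tail]
  have h1 := Finset.card_le_mul_card_image_of_maps_to (f := shift Q) (s := (Finset.univ : Finset (Fin n → F)))
    (t := Ω.filter fun R => restr R = restr Q)
    (fun w _ => Finset.mem_filter.2 ⟨hΩ Q hQ _, restr_shift Q w⟩) b (fun R _ => ?_)
  · rwa [Finset.card_univ] at h1
  · by_cases hR : ∃ w', shift Q w' = R
    · obtain ⟨w', rfl⟩ := hR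
      exact hb w'
    · rw [Finset.filter_false_of_mem fun w _ e => hR ⟨w, e⟩]
      simp

theorem shifts_ge_radB (hΩ : Closed Ω) {Q : (Fin (n + 1) → F) → F} (hQ : Q ∈ Ω) (h : QF Q) :
    Fintype.card F ^ n ≤ Fintype.card F ^ finrank F (radB h.restr) * (Ω.filter fun R => restr R = restr Q).card := by
  classical
  refine shifts_ge hΩ hQ _ fun w' => ?_
  rw [← Module.card_eq_pow_finrank (K := F) (V := radB h.restr), ← Finset.card_univ]
  refine Finset.card_le_card_of_injOn (fun w => if hw : shift Q w = shift Q w' then ⟨w - w', (shift_eq h hw).1⟩ else 0)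
    (fun _ _ => Finset.mem_univ _) fun a ha c hc e => ?_
  simp only [Finset.coe_filter, Finset.mem_univ, true_and, Set.mem_setOf_eq] at ha hc
  simp only [dif_pos ha, dif_pos hc] at e
  simpa using congrArg Subtype.val e

theorem shifts_ge_rad (hΩ : Closed Ω) {Q : (Fin (n + 1) → F) → F} (hQ : Q ∈ Ω) (h : QF Q)
    (he : (Pi.single 0 1 : Fin (n + 1) → F) ∈ rad h) :
    Fintype.card F ^ n ≤ Fintype.card F ^ finrank F (rad h.restr) * (Ω.filter fun R => restr R = restr Q).card := by
  classical
  refine shifts_ge hΩ hQ _ fun w' => ?_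
  rw [← Module.card_eq_pow_finrank (K := F) (V := rad h.restr), ← Finset.card_univ]
  have key : ∀ w, shift Q w = shift Q w' → w - w' ∈ rad h.restr := fun w hw => by
    obtain ⟨h1, h2⟩ := shift_eq h hw
    refine ⟨?_, h1⟩
    rw [cons_eq, h.add_left, one_smul, he.2, zero_add] at h2
    have := h1 w'
    rw [pB_comm] at this
    have e : pB Q (Fin.cons 0 w') (Fin.cons 0 (w - w')) = pB (restr Q) w' (w - w') :=
      (pB_comp (Q := Q) (tailEmb F n) w' (w - w')).symm
    rwa [e, this, add_zero] at h2
  refine Finset.card_le_card_of_injOn (fun w => if hw : shift Q w = shift Q w' then ⟨w - w', key w hw⟩ else 0)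
    (fun _ _ => Finset.mem_univ _) fun a ha c hc e => ?_
  simp only [Finset.coe_filter, Finset.mem_univ, true_and, Set.mem_setOf_eq] at ha hc
  simp only [dif_pos ha, dif_pos hc] at e
  simpa using congrArg Subtype.val e

/-- In general there are at least `q^n / (2 |rad|)` translates. -/
theorem shifts_ge_two (hΩ : Closed Ω) {Q : (Fin (n + 1) → F) → F} (hQ : Q ∈ Ω) (h : QF Q) :
    Fintype.card F ^ n ≤
      2 * Fintype.card F ^ finrank F (rad h.restr) * (Ω.filter fun R => restr R = restr Q).card := by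
  classical
  refine shifts_ge hΩ hQ _ fun w' => ?_
  set ψ := h.restr
  rw [← Module.card_eq_pow_finrank (K := F) (V := rad ψ)]
  by_cases hle : radB ψ ≤ rad ψ
  · refine le_trans ?_ (Nat.le_mul_of_pos_left _ two_pos)
    rw [← Finset.card_univ]
    refine Finset.card_le_card_of_injOn
      (fun w => if hw : shift Q w = shift Q w' then ⟨w - w', hle (shift_eq h hw).1⟩ else 0)
      (fun _ _ => Finset.mem_univ _) fun a ha c hc e => ?_
    simp only [Finset.coe_filter, Finset.mem_univ, true_and, Set.mem_setOf_eq] at ha hc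
    simp only [dif_pos ha, dif_pos hc] at e
    simpa using congrArg Subtype.val e
  obtain ⟨y, hy, hyn⟩ := SetLike.not_le_iff_exists.1 hle
  have hy0 : restr Q y ≠ 0 := fun e => hyn ⟨e, hy⟩
  choose t ht using fun x (hx : x ∈ radB ψ) => radB_le ψ hy hy0 hx
  refine (Finset.card_le_mul_card_image_of_maps_to
    (f := fun w => if hw : shift Q w = shift Q w' then (⟨_, ht _ (shift_eq h hw).1⟩ : rad ψ) else 0)
    (t := Finset.univ) (fun _ _ => Finset.mem_univ _) 2 fun r _ => ?_).trans_eq (by rw [Finset.card_univ])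
  set c := pB Q (Fin.cons 1 w') (Fin.cons 0 y)
  set d := pB Q (Fin.cons 1 w') (Fin.cons 0 (r : Fin n → F))
  -- the differences are `r + s y` with `s` a root of a quadratic equation
  have hs : ∀ w, (hw : shift Q w = shift Q w') → ((⟨_, ht _ (shift_eq h hw).1⟩ : rad ψ) = r) →
      w - w' = (r : Fin n → F) + (-t _ (shift_eq h hw).1) • y ∧
      (-t _ (shift_eq h hw).1) * (-t _ (shift_eq h hw).1) * restr Q y + (-t _ (shift_eq h hw).1) * c + d = 0 := by
    intro w hw hr
    set s := -t _ (shift_eq h hw).1 with hsdef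
    have e : w - w' = (r : Fin n → F) + s • y := by
      rw [← congrArg Subtype.val hr, hsdef, neg_smul]
      exact (add_neg_cancel_right _ _).symm
    refine ⟨e, ?_⟩
    have h2 := (shift_eq h hw).2
    rw [e] at h2
    have e1 : restr Q ((r : Fin n → F) + s • y) = s * s * restr Q y := by
      rw [q_add (restr Q), ψ.smul, r.2.1, r.2.2, zero_add, add_zero]
    have e2 : (Fin.cons 0 ((r : Fin n → F) + s • y) : Fin (n + 1) → F) = Fin.cons 0 (r : Fin n → F) + s • Fin.cons 0 y :=
      ((tailEmb F n).map_add _ _).trans (congrArg _ ((tailEmb F n).map_smul _ _))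
    rw [e1, e2, h.add_right, h.smul_right] at h2
    linear_combination h2
  rw [← not_lt, Finset.two_lt_card]
  rintro ⟨a, ha, b, hb, e, he, hab, hae, hbe⟩
  simp only [Finset.mem_filter, Finset.mem_univ, true_and] at ha hb he
  rw [dif_pos ha.1] at ha
  rw [dif_pos hb.1] at hb
  rw [dif_pos he.1] at he
  obtain ⟨a1, a2⟩ := hs a ha.1 ha.2
  obtain ⟨b1, b2⟩ := hs b hb.1 hb.2
  obtain ⟨e1, e2⟩ := hs e he.1 he.2
  set sa := -t _ (shift_eq h ha.1).1
  set sb := -t _ (shift_eq h hb.1).1
  set se := -t _ (shift_eq h he.1).1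
  have hne : sa ≠ sb := fun e' => hab (sub_left_injective (a1.trans (e' ▸ b1.symm)))
  have hne' : sa ≠ se := fun e' => hae (sub_left_injective (a1.trans (e' ▸ e1.symm)))
  have r1 : (sa + sb) * restr Q y + c = 0 :=
    (mul_eq_zero.1 (show (sa - sb) * ((sa + sb) * restr Q y + c) = 0 by linear_combination a2 - b2)).resolve_left
      (sub_ne_zero.2 hne)
  have r2 : (sa + se) * restr Q y + c = 0 :=
    (mul_eq_zero.1 (show (sa - se) * ((sa + se) * restr Q y + c) = 0 by linear_combination a2 - e2)).resolve_left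
      (sub_ne_zero.2 hne')
  have : sb = se := mul_right_cancel₀ hy0 (by linear_combination r1 - r2)
  exact hbe (sub_left_injective (b1.trans (this ▸ e1.symm)))

end Count

end CfsgLib.MinIndexSp
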