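import Cfsg.Agent.Lib.MinIndexSp.Closure

/-!
`Sp(4, q)`: the stabiliser of the first basis vector and the trace of a subgroup on it.
-/

set_option autoImplicit false
set_option linter.unusedSectionVars false

namespace CfsgLib.MinIndexSp.Four

open Matrix Cfsg Module
open CfsgLib.Classical.SympTrans
open CfsgLib.Classical.SympStab (centres E app_E)

variable {F : Type*} [Field F] [Fintype F] [DecidableEq F]

local notation "V" => (Fin 2 ⊕ Fin 2 → F)
local notation "G" => Matrix.symplecticGroup (Fin 2) F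
local notation "ω" => sympForm 2 F

variable (F) in
/-- The first vector. -/
def ve : V := Pi.single (.inl 0) 1

variable (F) in
/-- The partner of the first vector. -/
def vf : V := Pi.single (.inr 0) 1

variable (F) in
/-- The second vector. -/
def va : V := Pi.single (.inl 1) 1

variable (F) in
/-- The partner of the second vector. -/
def vb : V := Pi.single (.inr 1) 1

theorem f_ve (x : V) : ω x (ve F) = x (.inr 0) := f_inl _ _
theorem f_vf (x : V) : ω x (vf F) = -x (.inl 0) := f_inr _ _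
theorem f_va (x : V) : ω x (va F) = x (.inr 1) := f_inl _ _
theorem f_vb (x : V) : ω x (vb F) = -x (.inl 1) := f_inr _ _

theorem mem_W {x : V} : x ∈ W (F := F) (m := 2) 1 ↔ x (.inl 0) = 0 ∧ x (.inr 0) = 0 := by
  refine ⟨fun h => h 0 Nat.zero_lt_one, fun h i hi => ?_⟩
  obtain rfl : i = 0 := Fin.ext (by simpa using hi)
  exact h

theorem f_W_ve {x : V} (hx : x ∈ W (F := F) (m := 2) 1) : ω x (ve F) = 0 ∧ ω (ve F) x = 0 := by
  have h : ω x (ve F) = 0 := by rw [f_ve]; exact (mem_W.1 hx).2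
  exact ⟨h, by rw [f_swap, h, neg_zero]⟩

theorem f_W_vf {x : V} (hx : x ∈ W (F := F) (m := 2) 1) : ω x (vf F) = 0 ∧ ω (vf F) x = 0 := by
  have h : ω x (vf F) = 0 := by rw [f_vf, (mem_W.1 hx).1, neg_zero]
  exact ⟨h, by rw [f_swap, h, neg_zero]⟩

theorem f_vf_ve : ω (vf F) (ve F) = 1 := by rw [f_ve]; simp [vf]

theorem decomp_W {x : V} (hx : x ∈ W (F := F) (m := 2) 1) : x = x (.inl 1) • va F + x (.inr 1) • vb F := by
  obtain ⟨h1, h2⟩ := mem_W.1 hx
  funext i
  rcases i with i | i <;> fin_cases i <;> simp [va, vb, h1, h2]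

/-- An element of the radical. -/
def el (x : V) (c : F) : G := E x (ve F) * T (ve F) c

theorem app_el {x : V} (hx : x ∈ W (F := F) (m := 2) 1) (c : F) (y : V) :
    app (el x c) y = y + (ω y x + c * ω y (ve F)) • ve F + ω y (ve F) • x := by
  obtain ⟨h1, h2⟩ := f_W_ve hx
  rw [el, app_mul, app_T, app_E h1, f_add_left, f_add_left, f_smul_left, f_smul_left, f_self, h2, mul_zero,
    add_zero, add_zero]
  module

theorem el_zero (c : F) : (el 0 c : G) = T (ve F) c := ext_app fun y => by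
  rw [app_el (zero_mem _), app_T, f_zero_right, zero_add, smul_zero, add_zero]

theorem el_mul {x x' : V} (hx : x ∈ W (F := F) (m := 2) 1) (hx' : x' ∈ W (F := F) (m := 2) 1) (c c' : F) :
    (el x c : G) * el x' c' = el (x + x') (c + c' + ω x' x) := ext_app fun y => by
  obtain ⟨h1, h2⟩ := f_W_ve hx
  obtain ⟨h1', -⟩ := f_W_ve hx'
  rw [app_mul, app_el hx', app_el hx, app_el (add_mem hx hx')]
  simp only [f_add_left, f_add_right, f_smul_left, h2, h1', f_self, mul_zero, add_zero]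
  module

theorem el_one : (el 0 0 : G) = 1 := by rw [el_zero, T_zero]

theorem el_inv {x : V} (hx : x ∈ W (F := F) (m := 2) 1) (c : F) : (el x c : G)⁻¹ = el (-x) (-c) := by
  refine inv_eq_of_mul_eq_one_right ?_
  rw [el_mul hx (neg_mem hx), add_neg_cancel, add_neg_cancel, ← neg_one_smul F x, f_smul_left, f_self, mul_zero,
    add_zero, el_one]

theorem el_vf {x : V} (hx : x ∈ W (F := F) (m := 2) 1) (c : F) : app (el x c : G) (vf F) = vf F + c • ve F + x := by
  rw [app_el hx, (f_W_vf hx).2, f_vf_ve, mul_one, zero_add, one_smul]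

theorem el_ve {x : V} (hx : x ∈ W (F := F) (m := 2) 1) (c : F) : app (el x c : G) (ve F) = ve F := by
  rw [app_el hx, (f_W_ve hx).2, f_self, mul_zero, add_zero, zero_smul, zero_smul, add_zero, add_zero]

variable (F) in
/-- The Levi factor: the elements fixing the first pair. -/
def Lv : Subgroup G where
  carrier := {h | app h (ve F) = ve F ∧ app h (vf F) = vf F}
  one_mem' := ⟨app_one _, app_one _⟩
  mul_mem' {a b} ha hb := ⟨by rw [app_mul, hb.1, ha.1], by rw [app_mul, hb.2, ha.2]⟩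
  inv_mem' {a} ha := ⟨by conv_lhs => rw [← ha.1, app_inv], by conv_lhs => rw [← ha.2, app_inv]⟩

theorem mem_Lv {h : G} : h ∈ Lv F ↔ app h (ve F) = ve F ∧ app h (vf F) = vf F := Iff.rfl

theorem Lv_W {h : G} (hh : h ∈ Lv F) {x : V} (hx : x ∈ W (F := F) (m := 2) 1) :
    app h x ∈ W (F := F) (m := 2) 1 := by
  refine mem_W.2 ⟨?_, ?_⟩
  · have := f_app h x (vf F)
    rw [hh.2, (f_W_vf hx).1, f_vf] at this
    exact neg_eq_zero.1 this
  · rw [← f_ve (app h x)]
    conv_lhs => rw [← hh.1, f_app]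
    exact (f_W_ve hx).1

theorem T_mem_Lv {x : V} (hx : x ∈ W (F := F) (m := 2) 1) (r : F) : T x r ∈ Lv F := by
  constructor <;> rw [app_T]
  · rw [(f_W_ve hx).2, mul_zero, zero_smul, add_zero]
  · rw [(f_W_vf hx).2, mul_zero, zero_smul, add_zero]

theorem exists_Lv_move {x y : V} (hx : x ∈ W (F := F) (m := 2) 1) (hy : y ∈ W (F := F) (m := 2) 1)
    (hx0 : x ≠ 0) (hy0 : y ≠ 0) : ∃ h ∈ Lv F, app h x = y := by
  obtain ⟨h, hh, he⟩ := exists_move hx hy hx0 hy0
  refine ⟨h, ⟨gen_fix (fun v hv => (f_W_ve hv).2) hh, gen_fix (fun v hv => (f_W_vf hv).2) hh⟩, he⟩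

theorem conj_el {h : G} (hh : h ∈ Lv F) {x : V} (hx : x ∈ W (F := F) (m := 2) 1) (c : F) :
    h * el x c * h⁻¹ = el (app h x) c := by
  rw [mul_inv_eq_iff_eq_mul]
  refine ext_app fun y => ?_
  rw [app_mul, app_mul, app_el hx, app_el (Lv_W hh hx), app_add, app_add, app_smul, app_smul, hh.1,
    f_app, show ω (app h y) (ve F) = ω y (ve F) by conv_lhs => rw [← hh.1, f_app]]

theorem el_Lv_inj {x x' : V} (hx : x ∈ W (F := F) (m := 2) 1) (hx' : x' ∈ W (F := F) (m := 2) 1) {c c' : F}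
    {h h' : G} (hh : h ∈ Lv F) (hh' : h' ∈ Lv F) (e : el x c * h = el x' c' * h') : x = x' ∧ c = c' ∧ h = h' := by
  have e1 := congrArg (fun g : G => app g (vf F)) e
  simp only [app_mul, hh.2, hh'.2, el_vf hx, el_vf hx'] at e1
  have hc : c = c' := by
    have := congrFun e1 (.inl 0)
    simpa [ve, vf, (mem_W.1 hx).1, (mem_W.1 hx').1] using this
  subst hc
  have hxx : x = x' := add_left_cancel e1
  subst hxx
  exact ⟨rfl, rfl, mul_left_cancel e⟩

variable (F) in
/-- The stabiliser of the first vector. -/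
def Ge : Subgroup G where
  carrier := {g | app g (ve F) = ve F}
  one_mem' := app_one _
  mul_mem' {a b} (ha : app a _ = _) (hb : app b _ = _) := by show app (a * b) _ = _; rw [app_mul, hb, ha]
  inv_mem' {a} (ha : app a _ = _) := by show app a⁻¹ _ = _; conv_lhs => rw [← ha, app_inv]

theorem exists_el_Lv {g : G} (hg : app g (ve F) = ve F) :
    ∃ x ∈ W (F := F) (m := 2) 1, ∃ c, ∃ h ∈ Lv F, g = el x c * h := by
  set w := app g (vf F) with hw
  have hr : w (.inr 0) = 1 := by
    rw [← f_ve w, hw]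
    conv_lhs => rw [← hg, f_app, f_vf_ve]
  have hx := cut_mem (F := F) (m := 2) 1 w
  refine ⟨cut 1 w, hx, w (.inl 0), (el (cut 1 w) (w (.inl 0)))⁻¹ * g, ⟨?_, ?_⟩, by rw [mul_inv_cancel_left]⟩
  · rw [app_mul, hg]
    conv_lhs => rw [← el_ve hx (w (.inl 0)), app_inv]
  · have e : app (el (cut 1 w) (w (.inl 0)) : G) (vf F) = w := by
      rw [el_vf hx]
      funext i
      rcases i with i | i <;> fin_cases i <;> simp [cut, ve, vf, hr]
    rw [app_mul, ← hw]
    have h3 := app_inv (el (cut 1 w) (w (.inl 0)) : G) (vf F)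
    rw [e] at h3
    exact h3

theorem card_Lv_le : Nat.card (Lv F) ≤ (Fintype.card F ^ 2 - 1) * Fintype.card F := by
  classical
  have hn : Nondeg (W 1 : Submodule F V) := fun e he h0 => exists_f_ne he h0
  have hfin : finrank F (W 1 : Submodule F V) = 2 := by
    let p : V →ₗ[F] (F × F) := (LinearMap.proj (.inl 0)).prod (LinearMap.proj (.inr 0))
    have hker : LinearMap.ker p = W 1 := by
      ext x
      rw [LinearMap.mem_ker, mem_W]
      exact Prod.ext_iff
    have hs : Function.Surjective p := fun z => ⟨z.1 • ve F + z.2 • vf F, by ext <;> simp [p, ve, vf]⟩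
    have h1 := p.finrank_range_add_finrank_ker
    rw [hker, LinearMap.range_eq_top.2 hs, finrank_top, Module.finrank_prod, Module.finrank_self,
      Module.finrank_pi, Fintype.card_sum, Fintype.card_fin] at h1
    omega
  have hab : ω (vb F) (va F) = 1 := by rw [f_va]; simp [vb]
  have ha : va F ∈ W (F := F) (m := 2) 1 := mem_W.2 (by simp [va])
  have hb : vb F ∈ W (F := F) (m := 2) 1 := mem_W.2 (by simp [vb])
  have h := card_pairs (W 1 : Submodule F V) hn
  rw [hfin, show 2 - 1 = 1 from rfl, pow_one] at h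
  rw [← h]
  refine Nat.card_le_card_of_injective
    (fun h : Lv F => (⟨(⟨app h.1 (vb F), Lv_W h.2 hb⟩, ⟨app h.1 (va F), Lv_W h.2 ha⟩), by
      show ω (app h.1 (vb F)) (app h.1 (va F)) = 1
      rw [f_app, hab]⟩ : {p : (W 1 : Submodule F V) × (W 1 : Submodule F V) // ω (p.1 : V) (p.2 : V) = 1}))
    fun h h' e => Subtype.ext (ext_app fun y => ?_)
  have e1 : app h.1 (vb F) = app h'.1 (vb F) := congrArg (fun p => (p.1.1 : V)) e
  have e2 : app h.1 (va F) = app h'.1 (va F) := congrArg (fun p => (p.1.2 : V)) e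
  have hy : y = y (.inl 0) • ve F + y (.inr 0) • vf F + y (.inl 1) • va F + y (.inr 1) • vb F := by
    funext i
    rcases i with i | i <;> fin_cases i <;> simp [ve, vf, va, vb]
  rw [hy]
  simp only [app_add, app_smul, h.2.1, h.2.2, h'.2.1, h'.2.2, e1, e2]

variable (K : Subgroup (Matrix.symplecticGroup (Fin 2) F))

/-- The scalars at the centre. -/
def Z₀ : AddSubgroup F where
  carrier := {c | T (ve F) c ∈ K}
  add_mem' {a b} ha hb := by
    show T (ve F) (a + b) ∈ K
    rw [← T_mul]; exact K.mul_mem ha hb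
  zero_mem' := by show T (ve F) 0 ∈ K; rw [T_zero]; exact K.one_mem
  neg_mem' {a} ha := by
    show T (ve F) (-a) ∈ K
    rw [show T (ve F) (-a) = (T (ve F) a)⁻¹ from (inv_eq_of_mul_eq_one_right (by
      rw [T_mul, add_neg_cancel, T_zero])).symm]
    exact K.inv_mem ha

/-- The image of the radical. -/
def Ab : AddSubgroup V where
  carrier := {x | x ∈ W (F := F) (m := 2) 1 ∧ ∃ c, el x c ∈ K}
  add_mem' {a b} := by
    rintro ⟨ha, c, hc⟩ ⟨hb, c', hc'⟩
    exact ⟨add_mem ha hb, c + c' + ω b a, by rw [← el_mul ha hb]; exact K.mul_mem hc hc'⟩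
  zero_mem' := ⟨zero_mem _, 0, by rw [el_one]; exact K.one_mem⟩
  neg_mem' {a} := by
    rintro ⟨ha, c, hc⟩
    exact ⟨neg_mem ha, -c, by rw [← el_inv ha]; exact K.inv_mem hc⟩

/-- The image in the Levi factor. -/
def L₁ : Subgroup (Matrix.symplecticGroup (Fin 2) F) where
  carrier := {h | h ∈ Lv F ∧ ∃ x ∈ W (F := F) (m := 2) 1, ∃ c, el x c * h ∈ K}
  one_mem' := ⟨one_mem _, 0, zero_mem _, 0, by rw [el_one, mul_one]; exact K.one_mem⟩
  mul_mem' {a b} := by
    rintro ⟨ha, x, hx, c, hc⟩ ⟨hb, x', hx', c', hc'⟩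
    refine ⟨mul_mem ha hb, x + app a x', add_mem hx (Lv_W ha hx'), c + c' + ω (app a x') x, ?_⟩
    rw [← el_mul hx (Lv_W ha hx'), ← conj_el ha hx']
    convert K.mul_mem hc hc' using 1
    group
  inv_mem' {a} := by
    rintro ⟨ha, x, hx, c, hc⟩
    refine ⟨inv_mem ha, app a⁻¹ (-x), Lv_W (inv_mem ha) (neg_mem hx), -c, ?_⟩
    rw [← conj_el (inv_mem ha) (neg_mem hx), ← el_inv hx]
    convert K.inv_mem hc using 1
    group

variable (F) in
/-- The stabiliser of the first point. -/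
def P₁ : Subgroup G := stabilizing (spToMat 2 F) ((Submodule.span F {ve F} : Submodule F V) : Set V)

theorem P₁_scalar {g : G} (hg : g ∈ P₁ F) : ∃ μ : Fˣ, app g (ve F) = (μ : F) • ve F := by
  have h : app g (ve F) ∈ Submodule.span F {ve F} := (hg (ve F)).1 (Submodule.mem_span_singleton_self _)
  obtain ⟨μ, hμ⟩ := Submodule.mem_span_singleton.1 h
  have hμ0 : μ ≠ 0 := fun e => app_ne_zero g (x := ve F) (by simp [ve]) (by rw [← hμ, e, zero_smul])
  exact ⟨Units.mk0 μ hμ0, hμ.symm⟩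

/-- The eigenvalue at the first vector. -/
noncomputable def eig : P₁ F →* Fˣ :=
  MonoidHom.mk' (fun g => (P₁_scalar g.2).choose) fun g g' => Units.ext (by
    have h1 := (P₁_scalar g.2).choose_spec
    have h2 := (P₁_scalar g'.2).choose_spec
    have h3 := (P₁_scalar (g * g').2).choose_spec
    generalize (P₁_scalar g.2).choose = μ at h1 ⊢
    generalize (P₁_scalar g'.2).choose = μ' at h2 ⊢
    generalize (P₁_scalar (g * g').2).choose = ν at h3 ⊢
    change app ((g : G) * (g' : G)) (ve F) = _ at h3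
    rw [app_mul, h2, app_smul, h1, smul_smul] at h3
    have := congrFun h3 (.inl 0)
    simp [ve] at this
    rw [Units.val_mul, ← this, mul_comm])

theorem eig_spec (g : P₁ F) : app (g : G) (ve F) = ((eig g : Fˣ) : F) • ve F := (P₁_scalar g.2).choose_spec

/-- The eigenvalues of `K`. -/
noncomputable def Γ : Subgroup Fˣ := (K.subgroupOf (P₁ F)).map eig

theorem Γ_scale {μ : Fˣ} (hμ : μ ∈ Γ K) {c : F} (hc : c ∈ Z₀ K) : (μ : F) * μ * c ∈ Z₀ K := by
  obtain ⟨g, hg, rfl⟩ := hμ
  show T (ve F) _ ∈ K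
  rw [← T_smul, ← eig_spec, ← conj_T]
  exact K.mul_mem (K.mul_mem hg hc) (K.inv_mem hg)

theorem card_kernel_le :
    Nat.card (eig.comp (K.subgroupOf (P₁ F)).subtype).ker ≤ Nat.card (L₁ K) * (Nat.card (Ab K) * Nat.card (Z₀ K)) := by
  classical
  set M := (eig.comp (K.subgroupOf (P₁ F)).subtype).ker
  have hfix : ∀ g : M, app ((g.1.1 : P₁ F) : G) (ve F) = ve F := fun g => by
    rw [eig_spec, show eig (g.1.1 : P₁ F) = 1 from g.2, Units.val_one, one_smul]
  choose x hx c h hh e using fun g : M => exists_el_Lv (hfix g)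
  have hK : ∀ g : M, ((g.1.1 : P₁ F) : G) ∈ K := fun g => g.1.2
  have hmem : ∀ g : M, h g ∈ L₁ K := fun g => ⟨hh g, x g, hx g, c g, by rw [← e g]; exact hK g⟩
  -- a fixed lift of every member
  choose hL x₀ hx₀ c₀ hk₀ using fun l : L₁ K => l.2
  let D : M → V × F := fun g =>
    (x g - x₀ ⟨h g, hmem g⟩, c g - c₀ ⟨h g, hmem g⟩ + ω (x g) (x₀ ⟨h g, hmem g⟩))
  have hD : ∀ g, el (D g).1 (D g).2 ∈ K := fun g => by
    have h1 := K.mul_mem (hK g) (K.inv_mem (hk₀ ⟨h g, hmem g⟩))
    rw [e g, _root_.mul_inv_rev, ← mul_assoc, mul_assoc _ (h g), mul_inv_cancel, mul_one, el_inv (hx₀ _),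
      el_mul (hx g) (neg_mem (hx₀ _)), ← sub_eq_add_neg, ← sub_eq_add_neg] at h1
    have e2 : (D g).2 = c g - c₀ ⟨h g, hmem g⟩ + ω (-x₀ ⟨h g, hmem g⟩) (x g) := by
      show c g - _ + _ = _
      rw [← neg_one_smul F (x₀ _), f_smul_left, f_swap (x g)]; ring
    rw [show el (D g).1 (D g).2 = el (x g - x₀ ⟨h g, hmem g⟩) (c g - c₀ ⟨h g, hmem g⟩ + ω (-x₀ ⟨h g, hmem g⟩) (x g))
      from by rw [← e2]]
    exact h1
  have hA : ∀ g, (D g).1 ∈ Ab K := fun g => ⟨sub_mem (hx g) (hx₀ _), _, hD g⟩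
  choose hAW cA hcA using fun a : Ab K => a.2
  have hZ : ∀ g, (D g).2 - cA ⟨_, hA g⟩ ∈ Z₀ K := fun g => by
    show T (ve F) _ ∈ K
    have h1 := K.mul_mem (hD g) (K.inv_mem (hcA ⟨_, hA g⟩))
    rw [el_inv (hAW ⟨_, hA g⟩)] at h1
    have e2 : (el (D g).1 (D g).2 : G) * el (-(D g).1) (-cA ⟨_, hA g⟩) = el 0 ((D g).2 - cA ⟨_, hA g⟩) := by
      rw [el_mul (hA g).1 (neg_mem (hA g).1), add_neg_cancel, ← neg_one_smul F (D g).1, f_smul_left, f_self, mul_zero,
        add_zero, ← sub_eq_add_neg]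
    rw [← el_zero, ← e2]
    exact h1
  rw [← Nat.card_prod, ← Nat.card_prod]
  refine Nat.card_le_card_of_injective (fun g => (⟨h g, hmem g⟩, ⟨_, hA g⟩, ⟨_, hZ g⟩)) fun g g' heq => ?_
  have a1 : h g = h g' := congrArg (fun t => ((t.1 : L₁ K) : G)) heq
  have a2 : (D g).1 = (D g').1 := congrArg (fun t => ((t.2.1 : Ab K) : V)) heq
  have a3 : (D g).2 - cA ⟨_, hA g⟩ = (D g').2 - cA ⟨_, hA g'⟩ := congrArg (fun t => ((t.2.2 : Z₀ K) : F)) heq
  have a4 : (⟨h g, hmem g⟩ : L₁ K) = ⟨h g', hmem g'⟩ := Subtype.ext a1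
  have a5 : (⟨(D g).1, hA g⟩ : Ab K) = ⟨(D g').1, hA g'⟩ := Subtype.ext a2
  rw [a5] at a3
  have a6 : x g = x g' := by
    have := a2
    simp only [D, a4] at this
    exact sub_left_inj.1 this
  have a7 : c g = c g' := by
    have := sub_left_inj.1 a3
    simp only [D, a4, a6] at this
    linear_combination this
  refine Subtype.ext (Subtype.ext (Subtype.ext ?_))
  rw [e g, e g', a1, a6, a7]

/-- The counting inequality. -/
theorem count : Fintype.card F ^ 4 * (Fintype.card F ^ 2 - 1) * (Fintype.card F - 1) ≤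
    K.index * (Nat.card (Γ K) * (Nat.card (L₁ K) * (Nat.card (Ab K) * Nat.card (Z₀ K)))) := by
  classical
  have hP : Nat.card (P₁ F) = Fintype.card F ^ 4 * (Fintype.card F ^ 2 - 1) * (Fintype.card F - 1) := by
    have h := CfsgLib.Classical.SympParabolic.card_stabilizer (F := F) (m := 2) (k := 1) (q := Fintype.card F) rfl
      (show 1 ≤ 2 by omega) (Submodule.span F {ve F})
      (finrank_span_singleton (show ve F ≠ 0 by simp [ve])) ?_
    rw [P₁]
    refine h.trans ?_
    · simp only [Finset.prod_range_succ, Finset.prod_range_zero, Fin.prod_univ_one, one_mul, Nat.reduceSub,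
        Nat.reduceMul, Nat.reduceAdd, Nat.reduceDiv, Fin.val_zero, pow_zero, pow_one]
      norm_num
      first | exact Or.inl trivial | (left; ring) | ring
    · intro u hu v hv
      obtain ⟨a, rfl⟩ := Submodule.mem_span_singleton.1 hu
      obtain ⟨b, rfl⟩ := Submodule.mem_span_singleton.1 hv
      rw [f_smul_left, f_smul_right, f_self, mul_zero, mul_zero]
  set f := eig.comp (K.subgroupOf (P₁ F)).subtype with hf
  have hK1 : Nat.card (K.subgroupOf (P₁ F)) = Nat.card f.range * Nat.card f.ker := by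
    rw [← f.ker.card_mul_index, Subgroup.index_ker, mul_comm]
  have hrange : f.range = Γ K := by
    rw [hf, MonoidHom.range_comp, Subgroup.range_subtype]
    rfl
  rw [← hP, ← (K.subgroupOf (P₁ F)).card_mul_index, hK1, hrange, mul_comm]
  refine Nat.mul_le_mul ?_ (Nat.mul_le_mul_left _ (card_kernel_le K))
  calc (K.subgroupOf (P₁ F)).index = K.relIndex (P₁ F) := rfl
    _ ≤ K.relIndex ⊤ := Subgroup.relIndex_le_of_le_right le_top (by
        rw [Subgroup.relIndex_top_right]; exact Subgroup.index_ne_zero_of_finite)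
    _ = K.index := Subgroup.relIndex_top_right K

end CfsgLib.MinIndexSp.Four
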