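import Mathlib

/-!
Quadratic functions on finite vector spaces: radicals and a hyperplane step.
-/

set_option autoImplicit false
set_option linter.unusedSectionVars false

namespace CfsgLib.MinIndexSp

open Module

variable {F : Type*} [Field F] {V U : Type*} [AddCommGroup V] [Module F V] [AddCommGroup U] [Module F U]

/-- The polar form. -/
def pB (Q : V → F) (v w : V) : F := Q (v + w) - Q v - Q w

/-- Quadratic functions. -/
structure QF (Q : V → F) : Prop where
  smul : ∀ (a : F) v, Q (a • v) = a * a * Q v
  add_left : ∀ u v w, pB Q (u + v) w = pB Q u w + pB Q v w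
  smul_left : ∀ (a : F) v w, pB Q (a • v) w = a * pB Q v w

theorem pB_comm (Q : V → F) (v w : V) : pB Q v w = pB Q w v := by
  rw [pB, pB, add_comm w v]; ring

theorem q_add (Q : V → F) (v w : V) : Q (v + w) = Q v + Q w + pB Q v w := by
  rw [pB]; ring

variable {Q : V → F}

theorem QF.add_right (h : QF Q) (u v w : V) : pB Q w (u + v) = pB Q w u + pB Q w v := by
  rw [pB_comm, h.add_left, pB_comm Q u, pB_comm Q v]

theorem QF.smul_right (h : QF Q) (a : F) (v w : V) : pB Q w (a • v) = a * pB Q w v := by
  rw [pB_comm, h.smul_left, pB_comm Q v]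

theorem QF.zero_left (h : QF Q) (w : V) : pB Q 0 w = 0 := by
  simpa using h.smul_left 0 (0 : V) w

theorem QF.zero_right (h : QF Q) (w : V) : pB Q w 0 = 0 := by rw [pB_comm]; exact h.zero_left w

theorem QF.q_zero (h : QF Q) : Q 0 = 0 := by simpa using h.smul 0 (0 : V)

theorem QF.q_neg (h : QF Q) (v : V) : Q (-v) = Q v := by
  rw [← neg_one_smul F v, h.smul]; ring

theorem QF.neg_left (h : QF Q) (v w : V) : pB Q (-v) w = -pB Q v w := by
  rw [← neg_one_smul F v, h.smul_left, neg_one_mul]

theorem QF.sub_left (h : QF Q) (u v w : V) : pB Q (u - v) w = pB Q u w - pB Q v w := by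
  rw [sub_eq_add_neg, h.add_left, h.neg_left, ← sub_eq_add_neg]

theorem QF.self (h : QF Q) (v : V) : pB Q v v = 2 * Q v := by
  rw [pB, ← two_smul F v, h.smul]; ring

theorem pB_comp (f : U →ₗ[F] V) (v w : U) : pB (fun x => Q (f x)) v w = pB Q (f v) (f w) := by
  simp [pB]

theorem QF.comp (h : QF Q) (f : U →ₗ[F] V) : QF fun x => Q (f x) where
  smul a v := by simp [h.smul]
  add_left u v w := by rw [pB_comp, pB_comp, pB_comp, map_add, h.add_left]
  smul_left a v w := by rw [pB_comp, pB_comp, map_smul, h.smul_left]

theorem QF.neg (h : QF Q) : QF fun x => -Q x := by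
  have e : ∀ v w, pB (fun x => -Q x) v w = -pB Q v w := fun v w => by simp [pB]; ring
  exact ⟨fun a v => by simp [h.smul], fun u v w => by rw [e, e, e, h.add_left]; ring,
    fun a v w => by rw [e, e, h.smul_left]; ring⟩

/-- The radical of the polar form. -/
def radB (h : QF Q) : Submodule F V where
  carrier := {x | ∀ y, pB Q x y = 0}
  add_mem' {a b} ha hb y := by rw [h.add_left, ha y, hb y, add_zero]
  zero_mem' y := h.zero_left y
  smul_mem' c x hx y := by rw [h.smul_left, hx y, mul_zero]

/-- The radical. -/
def rad (h : QF Q) : Submodule F V where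
  carrier := {x | Q x = 0 ∧ ∀ y, pB Q x y = 0}
  add_mem' {a b} ha hb := ⟨by rw [q_add Q, ha.1, hb.1, ha.2 b]; ring,
    fun y => by rw [h.add_left, ha.2 y, hb.2 y, add_zero]⟩
  zero_mem' := ⟨h.q_zero, fun y => h.zero_left y⟩
  smul_mem' c x hx := ⟨by rw [h.smul, hx.1, mul_zero], fun y => by rw [h.smul_left, hx.2 y, mul_zero]⟩

theorem rad_le_radB (h : QF Q) : rad h ≤ radB h := fun _ hx => hx.2

/-- Rank at least three. -/
def Big (h : QF Q) : Prop := finrank F (rad h) + 3 ≤ finrank F V

section Finite

variable [Finite F]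

theorem exists_sqrt (h2 : (2 : F) = 0) (x : F) : ∃ y : F, y * y = x := by
  have hinj : Function.Injective fun s : F => s * s := fun a b h => by
    have : (a - b) * (a - b) = 0 := by linear_combination (h : a * a = b * b) + (b * b - a * b) * h2
    exact sub_eq_zero.1 (mul_self_eq_zero.1 this)
  exact Finite.surjective_of_injective hinj x

/-- In the radical of the polar form two vectors have a combination of value zero. -/
theorem exists_comb (h : QF Q) {x y : V} (hx : ∀ z, pB Q x z = 0) (hQy : Q y ≠ 0) (hy : ∀ z, pB Q y z = 0) :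
    ∃ t : F, Q (x + t • y) = 0 ∧ x + t • y ∈ rad h := by
  have h2 : (2 : F) = 0 := by
    have := h.self y
    rw [hy, eq_comm, mul_eq_zero] at this
    exact this.resolve_right hQy
  obtain ⟨t, ht⟩ := exists_sqrt h2 (-Q x / Q y)
  have e : Q (x + t • y) = 0 := by
    rw [q_add Q, h.smul, hx, ht, div_mul_cancel₀ _ hQy]; ring
  exact ⟨t, e, e, fun z => by rw [h.add_left, h.smul_left, hx, hy, mul_zero, add_zero]⟩

/-- Outside the radical the polar radical has at most one more dimension. -/
theorem radB_le (h : QF Q) {y : V} (hy : y ∈ radB h) (hQy : Q y ≠ 0) {x : V} (hx : x ∈ radB h) :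
    ∃ t : F, x + t • y ∈ rad h := (exists_comb h hx hQy hy).imp fun _ e => e.2

theorem finrank_radB_le [FiniteDimensional F V] (h : QF Q) :
    finrank F (radB h) ≤ finrank F (rad h) + 1 := by
  by_cases hc : radB h ≤ rad h
  · exact (Submodule.finrank_mono hc).trans (Nat.le_succ _)
  obtain ⟨y, hy, hyn⟩ := SetLike.not_le_iff_exists.1 hc
  have hQy : Q y ≠ 0 := fun e => hyn ⟨e, hy⟩
  have hle : radB h ≤ rad h ⊔ Submodule.span F {y} := fun x hx => by
    obtain ⟨t, ht⟩ := radB_le h hy hQy hx
    refine Submodule.mem_sup.2 ⟨_, ht, -t • y, Submodule.smul_mem _ _ (Submodule.mem_span_singleton_self y), ?_⟩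
    module
  refine (Submodule.finrank_mono hle).trans ((Submodule.finrank_add_le_finrank_add_finrank _ _).trans ?_)
  exact Nat.add_le_add_left ((finrank_span_le_card _).trans (by simp)) _

theorem exists_off [FiniteDimensional F V] (h : QF Q) (hr : finrank F (rad h) + 2 ≤ finrank F V) :
    ∃ v, Q v ≠ 0 ∧ v ∉ radB h := by
  obtain ⟨v, hv⟩ : ∃ v, v ∉ radB h := by
    by_contra hc
    push Not at hc
    have h1 := finrank_radB_le h
    rw [(eq_top_iff.2 fun v _ => hc v : radB h = ⊤), finrank_top] at h1
    omega
  by_cases hQv : Q v ≠ 0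
  · exact ⟨v, hQv, hv⟩
  push Not at hQv
  obtain ⟨w, hw⟩ : ∃ w, pB Q v w ≠ 0 := by
    by_contra hc
    push Not at hc
    exact hv hc
  have hne : ∀ x, x = v + w ∨ x = w → x ∈ radB h → False := by
    rintro x (rfl | rfl) hx
    · have := hx v
      rw [h.add_left, h.self, hQv, mul_zero, zero_add, pB_comm] at this
      exact hw this
    · exact hw (by rw [pB_comm]; exact hx v)
  by_cases hQw : Q w = 0
  · exact ⟨v + w, by rw [q_add Q, hQv, hQw, zero_add, zero_add]; exact hw, hne _ (Or.inl rfl)⟩
  · exact ⟨w, hQw, hne _ (Or.inr rfl)⟩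

variable [FiniteDimensional F V]

/-- A linear automorphism moving a hyperplane. -/
theorem exists_frame {n : ℕ} (hn : finrank F V = n + 1) (W : Submodule F V) (hW : finrank F W = n) {e : V}
    (he : e ∉ W) : ∃ A : (Fin (n + 1) → F) ≃ₗ[F] V,
      A (Pi.single 0 1) = e ∧ ∀ x : Fin n → F, A (Fin.cons 0 x) ∈ W := by
  let b := Module.finBasisOfFinrankEq F W hW
  let L : (Fin (n + 1) → F) →ₗ[F] V :=
    (LinearMap.proj 0).smulRight e + W.subtype ∘ₗ b.equivFun.symm.toLinearMap ∘ₗ LinearMap.funLeft F F Fin.succ
  have hL : ∀ x, L x = x 0 • e + (b.equivFun.symm fun i => x i.succ : V) := fun x => rfl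
  have hinj : Function.Injective L := by
    rw [← LinearMap.ker_eq_bot, LinearMap.ker_eq_bot']
    intro x hx
    rw [hL] at hx
    have h0 : x 0 = 0 := by
      by_contra h0
      refine he ?_
      have : x 0 • e ∈ W := by
        rw [eq_neg_of_add_eq_zero_left hx]; exact W.neg_mem (Subtype.prop _)
      simpa [smul_smul, h0] using W.smul_mem (x 0)⁻¹ this
    rw [h0, zero_smul, zero_add, Submodule.coe_eq_zero, LinearEquiv.map_eq_zero_iff] at hx
    exact funext fun i => Fin.cases h0 (congrFun hx) i
  refine ⟨LinearEquiv.ofBijective L ⟨hinj,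
    (LinearMap.injective_iff_surjective_of_finrank_eq_finrank (by simp [hn])).1 hinj⟩, ?_, fun x => ?_⟩
  · show L _ = e
    rw [hL]
    have : (fun i : Fin n => (Pi.single 0 1 : Fin (n + 1) → F) i.succ) = 0 := funext fun i => by simp
    simp [this]
  · show L _ ∈ W
    rw [hL]
    simp only [Fin.cons_zero, zero_smul, zero_add, Fin.cons_succ]
    exact Subtype.prop _

/-- Coordinates in which the first hyperplane carries a form of rank at least three and either the
first axis is radical, or the form is non-degenerate in dimension four, or the polar form on the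
hyperplane has rank at least three. -/
theorem exists_step {n : ℕ} (hn : finrank F V = n + 1) (h3 : 3 ≤ n) (h : QF Q) (hb : Big h) :
    ∃ A : (Fin (n + 1) → F) ≃ₗ[F] V, ∃ hψ : QF fun y : Fin n → F => Q (A (Fin.cons 0 y)),
      Big hψ ∧
      (A (Pi.single 0 1) ∈ rad h ∨ (n = 3 ∧ radB h = ⊥) ∨ finrank F (radB hψ) + 3 ≤ n) := by
  have key : ∀ (W : Submodule F V) (e : V), finrank F W = n → e ∉ W → ∀ k : ℕ,
      (∀ S : Submodule F V, (∀ x ∈ S, x ∈ W ∧ ∀ y ∈ W, pB Q x y = 0) → (∀ x ∈ S, Q x = 0) → finrank F S + k ≤ n) →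
      ∃ A : (Fin (n + 1) → F) ≃ₗ[F] V, A (Pi.single 0 1) = e ∧ (∀ x : Fin n → F, A (Fin.cons 0 x) ∈ W) ∧
        ∃ hψ : QF fun y : Fin n → F => Q (A (Fin.cons 0 y)), finrank F (rad hψ) + k ≤ n := by
    intro W e hW he k hk
    obtain ⟨A, hAe, hAW⟩ := exists_frame hn W hW he
    let ι : (Fin n → F) →ₗ[F] V := A.toLinearMap ∘ₗ
      { toFun := fun y => Fin.cons 0 y
        map_add' := fun x y => funext fun i => by cases i using Fin.cases <;> simp
        map_smul' := fun c x => funext fun i => by cases i using Fin.cases <;> simp }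
    have hψ : QF fun y => Q (ι y) := h.comp ι
    have hinj : Function.Injective ι := fun x y e => Fin.cons_right_injective _ (A.injective e)
    have hWr : W ≤ LinearMap.range ι := by
      refine (Submodule.eq_of_le_of_finrank_eq ?_ ?_).ge
      · rintro _ ⟨x, rfl⟩; exact hAW x
      · rw [LinearMap.finrank_range_of_inj hinj, hW, Module.finrank_fin_fun]
    refine ⟨A, hAe, hAW, hψ, ?_⟩
    have := hk ((rad hψ).map ι) ?_ ?_
    · rwa [(Submodule.equivMapOfInjective ι hinj (rad hψ)).finrank_eq.symm] at this
    · rintro _ ⟨x, hx, rfl⟩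
      refine ⟨hAW x, fun y hy => ?_⟩
      obtain ⟨y, rfl⟩ := hWr hy
      rw [← pB_comp ι]
      exact hx.2 y
    · rintro _ ⟨x, hx, rfl⟩
      exact hx.1
  unfold Big at hb
  rw [hn] at hb
  by_cases hr : rad h = ⊥
  · -- non-degenerate
    have hB1 : finrank F (radB h) ≤ 1 := by have := finrank_radB_le h; rw [hr, finrank_bot] at this; omega
    obtain ⟨v, hQv, hv⟩ := exists_off h (by rw [hr, finrank_bot, hn]; omega)
    by_cases hB : radB h = ⊥
    · -- the hyperplane orthogonal to a non-singular vector
      let f : V →ₗ[F] F :=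
        { toFun := pB Q v, map_add' := fun a b => h.add_right a b v, map_smul' := fun c a => h.smul_right c a v }
      obtain ⟨e, he⟩ : ∃ e, pB Q v e ≠ 0 := by
        by_contra hc
        push Not at hc
        exact hv hc
      have hW : finrank F (LinearMap.ker f) = n := by
        have h1 := f.finrank_range_add_finrank_ker
        have h2 : LinearMap.range f = ⊤ := LinearMap.range_eq_top.2 (LinearMap.surjective_of_ne_zero fun e0 =>
          he (LinearMap.congr_fun e0 e))
        rw [h2, finrank_top, Module.finrank_self, hn] at h1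
        omega
      have hline : ∀ x, (x ∈ LinearMap.ker f ∧ ∀ y ∈ LinearMap.ker f, pB Q x y = 0) → x ∈ Submodule.span F {v} := by
        rintro x ⟨-, hx⟩
        refine Submodule.mem_span_singleton.2 ⟨pB Q x e / pB Q v e, ?_⟩
        have : x - (pB Q x e / pB Q v e) • v ∈ radB h := fun y => by
          have := hx (y - (pB Q v y / pB Q v e) • e) (by
            show pB Q v _ = 0
            rw [sub_eq_add_neg, ← neg_smul, h.add_right, h.smul_right, neg_mul, div_mul_cancel₀ _ he, add_neg_cancel])
          rw [sub_eq_add_neg, ← neg_smul, h.add_right, h.smul_right] at this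
          rw [h.sub_left, h.smul_left]
          linear_combination this
        rw [hB, Submodule.mem_bot] at this
        exact (sub_eq_zero.1 this).symm
      obtain ⟨A, hAe, hAW, hψ, hbig⟩ := key (LinearMap.ker f) e hW he n fun S hS hS0 => by
        have : S = ⊥ := (Submodule.eq_bot_iff S).2 fun x hx => by
          obtain ⟨c, rfl⟩ := Submodule.mem_span_singleton.1 (hline x (hS x hx))
          have := hS0 _ hx
          rw [h.smul, mul_eq_zero, mul_self_eq_zero] at this
          rw [this.resolve_right hQv, zero_smul]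
        rw [this, finrank_bot, zero_add]
      refine ⟨A, hψ, ?_, ?_⟩
      · show _ + 3 ≤ finrank F (Fin n → F)
        rw [Module.finrank_fin_fun]; omega
      · rcases eq_or_lt_of_le h3 with e3 | h4
        · exact Or.inr (Or.inl ⟨e3.symm, hB⟩)
        refine Or.inr (Or.inr ?_)
        have := finrank_radB_le hψ
        omega
    · -- a hyperplane avoiding the radical of the polar form
      obtain ⟨z, hz, hz0⟩ := Submodule.exists_mem_ne_zero_of_ne_bot hB
      obtain ⟨f, hf⟩ := Projective.exists_dual_ne_zero F hz0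
      have hW : finrank F (LinearMap.ker f) = n := by
        have h1 := f.finrank_range_add_finrank_ker
        have h2 : LinearMap.range f = ⊤ := LinearMap.range_eq_top.2 (LinearMap.surjective_of_ne_zero fun e0 =>
          hf (LinearMap.congr_fun e0 z))
        rw [h2, finrank_top, Module.finrank_self, hn] at h1
        omega
      have hzero : ∀ x, (x ∈ LinearMap.ker f ∧ ∀ y ∈ LinearMap.ker f, pB Q x y = 0) → x = 0 := by
        rintro x ⟨hxW, hx⟩
        have hxB : x ∈ radB h := fun y => by
          have := hx (y - (f y / f z) • z) (by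
            rw [LinearMap.mem_ker, map_sub, map_smul, smul_eq_mul, div_mul_cancel₀ _ hf, sub_self])
          rw [sub_eq_add_neg, ← neg_smul, h.add_right, h.smul_right, pB_comm Q x z, hz x, mul_zero, add_zero] at this
          exact this
        by_contra hx0
        have heq : Submodule.span F {x} = radB h := Submodule.eq_of_le_of_finrank_le
          ((Submodule.span_singleton_le_iff_mem _ _).2 hxB) (by rw [finrank_span_singleton hx0]; exact hB1)
        have hz' : z ∈ Submodule.span F {x} := heq ▸ hz
        obtain ⟨c, rfl⟩ := Submodule.mem_span_singleton.1 hz'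
        rw [map_smul, LinearMap.mem_ker.1 hxW, smul_zero] at hf
        exact hf rfl
      obtain ⟨A, hAe, hAW, hψ, -⟩ := key (LinearMap.ker f) z hW (fun hk => hf (LinearMap.mem_ker.1 hk)) n fun S hS _ => by
        rw [(Submodule.eq_bot_iff S).2 fun x hx => hzero x (hS x hx), finrank_bot, zero_add]
      have hb0 : radB hψ = ⊥ := (Submodule.eq_bot_iff _).2 fun x hx => by
        have hr : ∀ y ∈ LinearMap.ker f, pB Q (A (Fin.cons 0 x)) y = 0 := by
          intro y hy
          obtain ⟨y', rfl⟩ : ∃ y', A y' = y := ⟨A.symm y, A.apply_symm_apply y⟩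
          have hy0 : y' 0 = 0 := by
            have e1 : y' = y' 0 • (Pi.single 0 1 : Fin (n + 1) → F) + Fin.cons 0 (fun i => y' i.succ) := by
              funext i; cases i using Fin.cases <;> simp
            have h2 : f (A y') = 0 := hy
            rw [e1, map_add, map_smul, hAe, map_add, map_smul, LinearMap.mem_ker.1 (hAW _), add_zero, smul_eq_mul,
              mul_eq_zero] at h2
            exact h2.resolve_right hf
          have e1 : y' = Fin.cons 0 (fun i => y' i.succ) := by
            funext i; cases i using Fin.cases <;> simp [hy0]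
          have h3 := hx (fun i => y' i.succ)
          rw [e1]
          have e2 : ∀ a b : Fin n → F, A (Fin.cons 0 (a + b)) = A (Fin.cons 0 a) + A (Fin.cons 0 b) := fun a b => by
            rw [← map_add]; congr 1; funext i; cases i using Fin.cases <;> simp
          simpa [pB, e2] using h3
        have := hzero _ ⟨hAW x, hr⟩
        rw [LinearEquiv.map_eq_zero_iff] at this
        funext i
        simpa using congrFun this i.succ
      refine ⟨A, hψ, ?_, Or.inr (Or.inr (by rw [hb0, finrank_bot]; omega))⟩
      have h1 := Submodule.finrank_mono (rad_le_radB hψ)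
      rw [hb0, finrank_bot] at h1
      show _ + 3 ≤ finrank F (Fin n → F)
      rw [Module.finrank_fin_fun]; omega
  · -- a hyperplane avoiding a radical vector
    obtain ⟨r, hr, hr0⟩ := Submodule.exists_mem_ne_zero_of_ne_bot hr
    obtain ⟨f, hf⟩ := Projective.exists_dual_ne_zero F hr0
    have hW : finrank F (LinearMap.ker f) = n := by
      have h1 := f.finrank_range_add_finrank_ker
      have h2 : LinearMap.range f = ⊤ := LinearMap.range_eq_top.2 (LinearMap.surjective_of_ne_zero fun e0 =>
        hf (LinearMap.congr_fun e0 r))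
      rw [h2, finrank_top, Module.finrank_self, hn] at h1
      omega
    obtain ⟨A, hAe, -, hψ, hbig⟩ := key (LinearMap.ker f) r hW (fun hk => hf (LinearMap.mem_ker.1 hk)) 3 fun S hS hS0 => by
      have hle : S ≤ rad h ⊓ LinearMap.ker f := fun x hx => by
        refine ⟨⟨hS0 x hx, fun y => ?_⟩, (hS x hx).1⟩
        have := (hS x hx).2 (y - (f y / f r) • r) (by
          rw [LinearMap.mem_ker, map_sub, map_smul, smul_eq_mul, div_mul_cancel₀ _ hf, sub_self])
        rw [sub_eq_add_neg, ← neg_smul, h.add_right, h.smul_right, pB_comm Q x r, hr.2 x, mul_zero, add_zero] at this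
        exact this
      have hlt : rad h ⊓ LinearMap.ker f < rad h := lt_of_le_of_ne inf_le_left fun e =>
        hf (LinearMap.mem_ker.1 ((e.symm ▸ hr : r ∈ rad h ⊓ LinearMap.ker f)).2)
      have := Submodule.finrank_mono hle
      have := Submodule.finrank_lt_finrank_of_lt hlt
      omega
    exact ⟨A, hψ, by show _ + 3 ≤ finrank F (Fin n → F); rw [Module.finrank_fin_fun]; omega, Or.inl (hAe ▸ hr)⟩

end Finite

end CfsgLib.MinIndexSp
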