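import Cfsg.Agent.Lib.MinIndexSp.FourOdd
import Cfsg.Agent.Lib.SpEvenMinDegree.Main
import Cfsg.Agent.Lib.MinIndexSp.Quad

/-!
`Sp(4, q)`, `q` even: a subgroup of small index contains a long or a short root group.
-/

set_option autoImplicit false
set_option linter.unusedSectionVars false

namespace CfsgLib.MinIndexSp.Four

open Matrix Cfsg Module
open CfsgLib.Classical.SympTrans
open CfsgLib.Classical.SympStab (centres E app_E)
open CfsgLib.RankOne (psi)

variable {F : Type*} [Field F] [Fintype F] [DecidableEq F]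

local notation "V" => (Fin 2 ⊕ Fin 2 → F)
local notation "G" => Matrix.symplecticGroup (Fin 2) F
local notation "ω" => sympForm 2 F
local notation "q" => Fintype.card F

/-- A conjugate contains the short root group of the first line. -/
def Short (K : Subgroup (Matrix.symplecticGroup (Fin 2) F)) : Prop :=
  ∃ g : Matrix.symplecticGroup (Fin 2) F, ∀ t : F, g * el (t • va F) 0 * g⁻¹ ∈ K

/-- Small index and no root group. -/
def Good₂ (K : Subgroup (Matrix.symplecticGroup (Fin 2) F)) : Prop := Good K ∧ ¬ Short K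

variable {K : Subgroup (Matrix.symplecticGroup (Fin 2) F)}

theorem Good₂.cj (hK : Good₂ K) (h : Matrix.symplecticGroup (Fin 2) F) : Good₂ (cj K h) := by
  refine ⟨hK.1.cj h, fun ⟨g, hg⟩ => hK.2 ⟨h⁻¹ * g, fun t => ?_⟩⟩
  convert mem_cj.1 (hg t) using 1
  group

theorem L₁_cj {h : G} (hh : h ∈ Lv F) {k : G} (hk : k ∈ L₁ (cj K h)) : h⁻¹ * k * h ∈ L₁ K := by
  obtain ⟨hkL, x, hx, c, hc⟩ := hk
  refine ⟨mul_mem (mul_mem (inv_mem hh) hkL) hh, app h⁻¹ x, Lv_W (inv_mem hh) hx, c, ?_⟩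
  rw [← conj_el (inv_mem hh) hx]
  convert mem_cj.1 hc using 1
  group

theorem Ab_cj {h : G} (hh : h ∈ Lv F) {y : V} (hy : y ∈ Ab (cj K h)) : app h⁻¹ y ∈ Ab K := by
  obtain ⟨hyW, c, hc⟩ := hy
  refine ⟨Lv_W (inv_mem hh) hyW, c, ?_⟩
  rw [← conj_el (inv_mem hh) hyW, inv_inv]
  exact mem_cj.1 hc

variable (K) in
/-- The orthogonal of the image of the radical. -/
noncomputable def U₀ : AddSubgroup V where
  carrier := {x | x ∈ W (F := F) (m := 2) 1 ∧ ∀ y ∈ Ab K, psi F (ω x y) = 1}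
  add_mem' {a b} := by
    rintro ⟨ha, ha'⟩ ⟨hb, hb'⟩
    exact ⟨add_mem ha hb, fun y hy => by rw [f_add_left, AddChar.map_add_eq_mul, ha' y hy, hb' y hy, one_mul]⟩
  zero_mem' := ⟨zero_mem _, fun y _ => by rw [f_zero_left, AddChar.map_zero_eq_one]⟩
  neg_mem' {a} := by
    rintro ⟨ha, ha'⟩
    refine ⟨neg_mem ha, fun y hy => ?_⟩
    rw [← neg_one_smul F a, f_smul_left, neg_one_mul, AddChar.map_neg_eq_inv, ha' y hy, inv_one]

theorem exists_psi_ne : ∃ a : F, psi F a ≠ 1 := by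
  by_contra hc
  push Not at hc
  exact one_ne_zero (α := F) (CfsgLib.SpEvenMinDegree.psi_inj fun c => by rw [hc, hc])

theorem card_U₀ : Nat.card (U₀ K) * Nat.card (Ab K) = q ^ 2 := by
  obtain ⟨a, ha⟩ := exists_psi_ne (F := F)
  rw [← perp_card (psi F) ha (Ab K) fun x hx => hx.1]
  congr 1
  exact Nat.card_congr
    { toFun := fun x => ⟨⟨x.1, x.2.1⟩, x.2.2⟩
      invFun := fun x => ⟨x.1.1, x.1.2, x.2⟩
      left_inv := fun _ => rfl
      right_inv := fun _ => rfl }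

theorem U₀_stable {h : G} (hh : h ∈ L₁ K) {x : V} (hx : x ∈ U₀ K) : app h x ∈ U₀ K := by
  refine ⟨Lv_W hh.1 hx.1, fun y hy => ?_⟩
  have := hx.2 _ (Ab_stable ((L₁ K).inv_mem hh) hy)
  rwa [← f_app h, app_inv'] at this

theorem U₀_cj {h : G} (hh : h ∈ Lv F) {x : V} (hx : x ∈ U₀ K) : app h x ∈ U₀ (cj K h) := by
  refine ⟨Lv_W hh hx.1, fun y hy => ?_⟩
  have := hx.2 _ (Ab_cj hh hy)
  rwa [← f_app h, app_inv'] at this

theorem Ab_eq_W (hU : ∀ x ∈ U₀ K, x = 0) {x : V} (hx : x ∈ W (F := F) (m := 2) 1) : x ∈ Ab K := by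
  classical
  have h := card_U₀ (K := K)
  have h1 : Nat.card (U₀ K) = 1 := by
    rw [Nat.card_eq_one_iff_unique]
    exact ⟨⟨fun a b => Subtype.ext ((hU a a.2).trans (hU b b.2).symm)⟩, ⟨0⟩⟩
  rw [h1, one_mul] at h
  have hW : Nat.card (W 1 : Submodule F V) ≤ q ^ 2 := by
    let τ : (W 1 : Submodule F V) → F × F := fun x => ((x : V) (.inl 1), (x : V) (.inr 1))
    refine (Nat.card_le_card_of_injective τ fun a b e => Subtype.ext ?_).trans
      (by rw [Nat.card_prod, Nat.card_eq_fintype_card, pow_two])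
    rw [decomp_W a.2, decomp_W b.2, show (a : V) (.inl 1) = (b : V) (.inl 1) from congrArg Prod.fst e,
      show (a : V) (.inr 1) = (b : V) (.inr 1) from congrArg Prod.snd e]
  let f : Ab K → (W 1 : Submodule F V) := fun y => ⟨y.1, y.2.1⟩
  have hf : Function.Injective f := fun a b e =>
    Subtype.ext (congrArg (fun z : (W 1 : Submodule F V) => (z : V)) e)
  have hcard : Nat.card (Ab K) = Nat.card (W 1 : Submodule F V) :=
    le_antisymm (Nat.card_le_card_of_injective f hf) (hW.trans h.ge)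
  obtain ⟨y, hy⟩ := ((Nat.bijective_iff_injective_and_card f).2 ⟨hf, hcard⟩).2 ⟨x, hx⟩
  have e : (y : V) = x := congrArg (fun z : (W 1 : Submodule F V) => (z : V)) hy
  exact e ▸ y.2

theorem count_even (h2 : (2 : F) = 0) (hK : Good K) {l a : ℕ} (hl : Nat.card (L₁ K) * Nat.card (Ab K) ≤ l * a)
    (hq : 2 ≤ q) : q ^ 4 * (q ^ 2 - 1) ≤ K.index * (l * a) := by
  have h := count K
  have hg := card_eig_two h2 hK
  refine Nat.le_of_mul_le_mul_right (h.trans ?_) (show 0 < q - 1 by omega)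
  rw [mul_assoc K.index]
  refine Nat.mul_le_mul_left _ ?_
  calc Nat.card (Γ K) * (Nat.card (L₁ K) * (Nat.card (Ab K) * Nat.card (Z₀ K)))
      = (Nat.card (L₁ K) * Nat.card (Ab K)) * (Nat.card (Γ K) * Nat.card (Z₀ K)) := by ring
    _ ≤ _ := Nat.mul_le_mul hl hg

theorem arith_even {d : ℕ} (hq : 4 ≤ q) (hd : d < (q + 1) * (q ^ 2 + 1)) (h : 2 * (q * (q ^ 2 - 1)) ≤ d) : False := by
  have : (q + 1) * (q ^ 2 + 1) ≤ 2 * (q * (q ^ 2 - 1)) := by
    obtain ⟨r, hr⟩ : ∃ r, q = r + 4 := ⟨q - 4, by omega⟩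
    rw [hr, show (r + 4) ^ 2 - 1 = r ^ 2 + 8 * r + 15 by
      have : (r + 4) ^ 2 = r ^ 2 + 8 * r + 16 := by ring
      omega]
    nlinarith
  omega

/-- The elements scaling the first pair. -/
def Dm (μ : Fˣ) : G :=
  ⟨Matrix.diagonal (Sum.elim ![(μ : F), 1] ![((μ⁻¹ : Fˣ) : F), 1]), mem_iff_f.2 fun u v => by
    simp only [f_apply, Fin.sum_univ_two, mulVec_diagonal]
    simp only [Sum.elim_inl, Sum.elim_inr, Matrix.cons_val_zero, Matrix.cons_val_one, one_mul]
    linear_combination (u (.inr 0) * v (.inl 0) - u (.inl 0) * v (.inr 0)) * Units.inv_mul μ⟩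

theorem app_Dm (μ : Fˣ) (y : V) : app (Dm μ) y =
    ((μ : F) * y (.inl 0)) • ve F + (((μ⁻¹ : Fˣ) : F) * y (.inr 0)) • vf F + y (.inl 1) • va F + y (.inr 1) • vb F := by
  show Matrix.diagonal _ *ᵥ y = _
  funext i
  rw [mulVec_diagonal]
  rcases i with i | i <;> fin_cases i <;> simp [ve, vf, va, vb]

theorem Dm_W (μ : Fˣ) {x : V} (hx : x ∈ W (F := F) (m := 2) 1) : app (Dm μ) x = x := by
  rw [app_Dm, (mem_W.1 hx).1, (mem_W.1 hx).2, mul_zero, mul_zero, zero_smul, zero_smul, zero_add, zero_add,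
    ← decomp_W hx]

theorem Dm_ve (μ : Fˣ) : app (Dm μ) (ve F) = (μ : F) • ve F := by
  rw [app_Dm]; simp [ve, vf, va, vb]

theorem Dm_commute (μ : Fˣ) {h : G} (hh : h ∈ Lv F) : Dm μ * h * (Dm μ)⁻¹ = h := by
  rw [mul_inv_eq_iff_eq_mul]
  refine ext_app fun y => ?_
  have hy : y = y (.inl 0) • ve F + y (.inr 0) • vf F + (y (.inl 1) • va F + y (.inr 1) • vb F) := by
    funext i
    rcases i with i | i <;> fin_cases i <;> simp [ve, vf, va, vb]
  have hWy : y (.inl 1) • va F + y (.inr 1) • vb F ∈ W (F := F) (m := 2) 1 :=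
    add_mem (smul_va_mem _) (Submodule.smul_mem _ _ vb_mem)
  have hf : app (Dm μ) (vf F) = ((μ⁻¹ : Fˣ) : F) • vf F := by rw [app_Dm]; simp [ve, vf, va, vb]
  generalize y (.inl 1) • va F + y (.inr 1) • vb F = w at hy hWy
  rw [hy]
  simp only [app_mul, app_add, app_smul, hh.1, hh.2, Dm_ve, hf, Dm_W μ hWy, Dm_W μ (Lv_W hh hWy)]

theorem conj_Dm_el (μ : Fˣ) {x : V} (hx : x ∈ W (F := F) (m := 2) 1) (c : F) :
    Dm μ * el x c * (Dm μ)⁻¹ = el ((μ : F) • x) ((μ : F) * μ * c) := by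
  rw [mul_inv_eq_iff_eq_mul]
  refine ext_app fun y => ?_
  have h1 : (μ : F) * ω (app (Dm μ) y) (ve F) = ω y (ve F) := by
    conv_rhs => rw [← f_app (Dm μ), Dm_ve, f_smul_right]
  have h2 : ω (app (Dm μ) y) x = ω y x := by
    conv_lhs => rw [← Dm_W μ hx, f_app]
  rw [app_mul, app_mul, app_el hx, app_el (Submodule.smul_mem _ _ hx), app_add, app_add, app_smul, app_smul,
    Dm_ve, Dm_W μ hx, f_smul_right, h2, ← h1]
  module

/-- The case of the full Levi factor and no translations. -/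
theorem no_good_levi (h2 : (2 : F) = 0) (hq : 4 ≤ q) (hK : Good K) (hA : ∀ y ∈ Ab K, y = 0)
    (hL : ∀ h ∈ Lv F, h ∈ L₁ K) : False := by
  classical
  obtain ⟨s, hs0, hs2⟩ : ∃ s : F, s ≠ 0 ∧ s * s ≠ 1 := by
    by_contra hc
    push Not at hc
    have hsub : (Finset.univ : Finset F) ⊆ {0, 1, -1} := fun s _ => by
      by_cases h : s = 0
      · simp [h]
      · rcases mul_self_eq_one_iff.1 (hc s h) with h | h <;> simp [h]
    have := (Finset.card_le_card hsub).trans Finset.card_le_three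
    rw [Finset.card_univ] at this
    omega
  obtain ⟨t, htL, htLv, hta, -⟩ := exists_torus (L := L₁ K) (fun r => hL _ (T_mem_Lv va_mem r))
    (fun r => hL _ (T_mem_Lv vb_mem r)) hs0
  obtain ⟨z, hz, c, hzc⟩ := exists_conj_pure htL hta (fun e => hs2 (by rw [e, mul_one]))
  obtain ⟨g, hgK, hgL, σ, hgσ, hσ2⟩ := exists_pure_pow htLv hzc hta hs2
  set K' := cj K (el z 0) with hK'
  have hK'g : Good K' := hK.cj _
  have hA' : ∀ y ∈ Ab K', y = 0 := by
    rintro y ⟨hyW, d, hd⟩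
    refine hA y ⟨hyW, ?_⟩
    have := mem_cj.1 hd
    rw [el_inv hz, el_mul (neg_mem hz) hyW, el_mul (add_mem (neg_mem hz) hyW) hz,
      show -z + y + z = y by abel] at this
    exact ⟨_, this⟩
  have hlift : ∀ r : F, ∃ κ d : F, el (κ • va F) d * T (va F) r ∈ K' := by
    intro r
    obtain ⟨-, x, hx, d, hxd⟩ := L₁_cj_el hz (hL _ (T_mem_Lv va_mem r))
    by_cases hr : r = 0
    · subst hr
      rw [T_zero, mul_one] at hxd
      exact ⟨0, d, by rw [zero_smul, ← hA' x ⟨hx, d, hxd⟩, T_zero, mul_one]; exact hxd⟩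
    have hT := T_mem_Lv (F := F) va_mem r
    have h1 := K'.mul_mem hxd hxd
    rw [show el x d * T (va F) r * (el x d * T (va F) r) =
      el x d * (T (va F) r * el x d * (T (va F) r)⁻¹) * (T (va F) r * T (va F) r) by group, conj_el hT hx, T_mul,
      show r + r = 0 by linear_combination r * h2, T_zero, mul_one, el_mul hx (Lv_W hT hx)] at h1
    have h0 := hA' _ ⟨add_mem hx (Lv_W hT hx), _, h1⟩
    rw [app_T, ← add_assoc, ← two_smul F x, h2, zero_smul, zero_add, smul_eq_zero, mul_eq_zero] at h0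
    have hxa : ω x (va F) = 0 := (h0.resolve_right (by simp [va])).resolve_left hr
    exact ⟨_, d, by rw [← eq_smul_va hx hxa]; exact hxd⟩
  obtain ⟨r₀, κ, d₀, hκ, hd₀⟩ : ∃ r κ d : F, κ ≠ 0 ∧ el (κ • va F) d * T (va F) r ∈ K' := by
    by_contra hc
    push Not at hc
    refine hK'g.2 (va F) (by simp [va]) (finish hgK hgL hgσ hσ2 fun r => ?_)
    obtain ⟨κ, d, hd⟩ := hlift r
    have hκ : κ = 0 := by
      by_contra hne
      exact hc r κ d hne hd
    exact ⟨d, by rwa [hκ, zero_smul] at hd⟩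
  have hΓ : ∀ μ ∈ Γ K', μ = 1 := by
    rintro μ ⟨p, hp, rfl⟩
    set μ := eig p with hμ
    have hfix : app ((p : G) * (Dm μ)⁻¹) (ve F) = ve F := by
      have h1 : app (Dm μ)⁻¹ (ve F) = ((μ⁻¹ : Fˣ) : F) • ve F := by
        have h := app_inv (Dm μ) (ve F)
        rw [Dm_ve, app_smul] at h
        conv_rhs => rw [← h, smul_smul, Units.inv_mul, one_smul]
      rw [app_mul, h1, app_smul, eig_spec, smul_smul, ← hμ, Units.inv_mul, one_smul]
    obtain ⟨x, hx, c, h, hh, e⟩ := exists_el_Lv hfix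
    have hp' : el x c * h * Dm μ ∈ K' := by rw [← e, inv_mul_cancel_right]; exact hp
    obtain ⟨-, x', hx', c', hc'⟩ := L₁_cj_el hz (hL h hh)
    have h1 := K'.mul_mem (K'.inv_mem hc') hp'
    rw [show (el x' c' * h)⁻¹ * (el x c * h * Dm μ) = h⁻¹ * ((el x' c')⁻¹ * el x c) * h⁻¹⁻¹ * Dm μ by group,
      el_inv hx', el_mul (neg_mem hx') hx, conj_el (inv_mem hh) (add_mem (neg_mem hx') hx)] at h1
    set y := app h⁻¹ (-x' + x) with hy
    have hyW : y ∈ W (F := F) (m := 2) 1 := Lv_W (inv_mem hh) (add_mem (neg_mem hx') hx)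
    set c'' := -c' + c + ω x (-x') with hc''
    have hy0 : y = 0 := by
      have h3 := K'.mul_mem (K'.mul_mem (K'.mul_mem hgK h1) (K'.inv_mem hgK)) (K'.inv_mem h1)
      rw [show g * (el y c'' * Dm μ) * g⁻¹ * (el y c'' * Dm μ)⁻¹ =
        (g * el y c'' * g⁻¹) * (g * (Dm μ * g⁻¹ * (Dm μ)⁻¹)) * (el y c'')⁻¹ by group,
        Dm_commute μ (inv_mem hgL), mul_inv_cancel, mul_one, conj_el hgL hyW, el_inv hyW,
        el_mul (Lv_W hgL hyW) (neg_mem hyW)] at h3
      have h4 := hA' _ ⟨add_mem (Lv_W hgL hyW) (neg_mem hyW), _, h3⟩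
      rw [← sub_eq_add_neg, sub_eq_zero] at h4
      have h5 : ω y (va F) = 0 := by
        have h := f_app g y (va F)
        rw [h4, hgσ, f_smul_right] at h
        exact (mul_eq_zero.1 (show (σ - 1) * ω y (va F) = 0 by linear_combination h)).resolve_left
          (sub_ne_zero.2 fun e => hσ2 (by rw [e, mul_one]))
      have h6 := eq_smul_va hyW h5
      rw [h6, app_smul, hgσ, smul_smul] at h4
      have h7 := va_smul_inj h4
      rw [h6, (mul_eq_zero.1 (show y (.inl 1) * (σ - 1) = 0 by linear_combination h7)).resolve_right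
        (sub_ne_zero.2 fun e => hσ2 (by rw [e, mul_one])), zero_smul]
    rw [hy0] at h1
    have h3 := K'.mul_mem (K'.mul_mem (K'.mul_mem h1 hd₀) (K'.inv_mem h1)) (K'.inv_mem hd₀)
    rw [show el 0 c'' * Dm μ * (el (κ • va F) d₀ * T (va F) r₀) * (el 0 c'' * Dm μ)⁻¹ *
          (el (κ • va F) d₀ * T (va F) r₀)⁻¹ =
        el 0 c'' * ((Dm μ * el (κ • va F) d₀ * (Dm μ)⁻¹) * (Dm μ * T (va F) r₀ * (Dm μ)⁻¹)) * (el 0 c'')⁻¹ *
          (T (va F) r₀)⁻¹ * (el (κ • va F) d₀)⁻¹ by group,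
      conj_Dm_el μ (smul_va_mem κ), Dm_commute μ (T_mem_Lv va_mem r₀),
      show el 0 c'' * (el ((μ : F) • κ • va F) ((μ : F) * μ * d₀) * T (va F) r₀) * (el 0 c'')⁻¹ * (T (va F) r₀)⁻¹ =
        el 0 c'' * el ((μ : F) • κ • va F) ((μ : F) * μ * d₀) * (T (va F) r₀ * (el 0 c'')⁻¹ * (T (va F) r₀)⁻¹) by group,
      el_inv (zero_mem _), conj_el (T_mem_Lv va_mem r₀) (neg_mem (zero_mem _)),
      show app (T (va F) r₀) (-0 : V) = 0 by rw [neg_zero]; exact mulVec_zero _,
      el_inv (smul_va_mem κ)] at h3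
    have hW1 : (μ : F) • κ • va F ∈ W (F := F) (m := 2) 1 := Submodule.smul_mem _ _ (smul_va_mem κ)
    rw [el_mul (zero_mem _) hW1, el_mul (add_mem (zero_mem _) hW1) (zero_mem _),
      el_mul (add_mem (add_mem (zero_mem _) hW1) (zero_mem _)) (neg_mem (smul_va_mem κ))] at h3
    have h4 := hA' _ ⟨add_mem (add_mem (add_mem (zero_mem _) hW1) (zero_mem _)) (neg_mem (smul_va_mem κ)), _, h3⟩
    rw [zero_add, add_zero, ← sub_eq_add_neg, sub_eq_zero, smul_smul] at h4
    have h5 := va_smul_inj h4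
    exact Units.ext (mul_right_cancel₀ hκ (by rw [Units.val_one, one_mul]; exact h5))
  have hΓ1 : Nat.card (Γ K') = 1 := by
    rw [Nat.card_eq_one_iff_unique]
    exact ⟨⟨fun a b => Subtype.ext ((hΓ a a.2).trans (hΓ b b.2).symm)⟩, ⟨1⟩⟩
  have hA1 : Nat.card (Ab K') = 1 := by
    rw [Nat.card_eq_one_iff_unique]
    exact ⟨⟨fun a b => Subtype.ext ((hA' a a.2).trans (hA' b b.2).symm)⟩, ⟨0⟩⟩
  have hZ : 2 * Nat.card (Z₀ K') ≤ q := (card_addSubgroup_dichotomy (Z₀ K')).resolve_left fun e => by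
    obtain ⟨x, hx⟩ := hK'g.exists_notMem_Z₀
    exact hx (e ▸ AddSubgroup.mem_top x)
  have hLc : Nat.card (L₁ K') ≤ (q ^ 2 - 1) * q :=
    le_trans (Subgroup.card_le_of_le fun h hh => hh.1) card_Lv_le
  have hc := count K'
  rw [hΓ1, hA1, one_mul, one_mul] at hc
  have hd := hK'g.1
  have hpos : 0 < q ^ 2 * (q ^ 2 - 1) := by
    have : 2 ≤ q ^ 2 := le_trans (by omega) (Nat.pow_le_pow_left hq 2)
    exact Nat.mul_pos (by omega) (by omega)
  have h3 : 2 * (q ^ 2 * (q - 1)) ≤ K'.index := by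
    refine Nat.le_of_mul_le_mul_right ?_ hpos
    calc 2 * (q ^ 2 * (q - 1)) * (q ^ 2 * (q ^ 2 - 1)) = 2 * (q ^ 4 * (q ^ 2 - 1) * (q - 1)) := by ring
      _ ≤ 2 * (K'.index * ((q ^ 2 - 1) * q * Nat.card (Z₀ K'))) :=
          Nat.mul_le_mul_left _ (hc.trans (Nat.mul_le_mul_left _ (Nat.mul_le_mul_right _ hLc)))
      _ = K'.index * ((q ^ 2 - 1) * q * (2 * Nat.card (Z₀ K'))) := by ring
      _ ≤ K'.index * ((q ^ 2 - 1) * q * q) := Nat.mul_le_mul_left _ (Nat.mul_le_mul_left _ hZ)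
      _ = _ := by ring
  have h4 : (q + 1) * (q ^ 2 + 1) ≤ 2 * (q ^ 2 * (q - 1)) := by
    obtain ⟨r, hr⟩ : ∃ r, q = r + 4 := ⟨q - 4, by omega⟩
    rw [hr, show r + 4 - 1 = r + 3 by omega]
    nlinarith [Nat.zero_le (r ^ 3), Nat.zero_le (r ^ 2)]
  omega

/-- The image of the radical is everything. -/
theorem Ab_full (h2 : (2 : F) = 0) (hq : 4 ≤ q) (hK : Good₂ K) {x : V} (hx : x ∈ W (F := F) (m := 2) 1) :
    x ∈ Ab K := by
  classical
  by_contra hxA
  obtain ⟨y, hy, hy0⟩ : ∃ y ∈ U₀ K, y ≠ 0 := by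
    by_contra hc
    push Not at hc
    exact hxA (Ab_eq_W hc hx)
  -- normalise
  obtain ⟨K, hK, ha⟩ : ∃ K : Subgroup (Matrix.symplecticGroup (Fin 2) F), Good₂ K ∧ va F ∈ U₀ K := by
    obtain ⟨h, hh, he⟩ := exists_Lv_move hy.1 va_mem hy0 (by simp [va])
    exact ⟨cj K h, hK.cj h, he ▸ U₀_cj hh hy⟩
  have hstep : ∀ K : Subgroup (Matrix.symplecticGroup (Fin 2) F), Good₂ K → va F ∈ U₀ K → ∀ r, T (va F) r ∈ L₁ K := by
    intro K hK ha r
    have hX : X₀ K = ⊤ := (card_addSubgroup_dichotomy (X₀ K)).resolve_right fun h => by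
      have hl := card_L₁_le' (K := K) (U₀ K : Set V) fun g hg => U₀_stable hg ha
      change Nat.card (L₁ K) ≤ Nat.card (U₀ K) * Nat.card (X₀ K) at hl
      have hla : Nat.card (L₁ K) * Nat.card (Ab K) ≤ q ^ 2 * Nat.card (X₀ K) := by
        rw [← card_U₀ (K := K), mul_right_comm]
        exact Nat.mul_le_mul_right _ hl
      have hc := count_even h2 hK.1 hla (by omega)
      refine arith_even hq hK.1.1 (Nat.le_of_mul_le_mul_right ?_ (pow_pos (show 0 < q by omega) 3))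
      calc 2 * (q * (q ^ 2 - 1)) * q ^ 3 = 2 * (q ^ 4 * (q ^ 2 - 1)) := by ring
        _ ≤ 2 * (K.index * (q ^ 2 * Nat.card (X₀ K))) := Nat.mul_le_mul_left _ hc
        _ = K.index * (q ^ 2 * (2 * Nat.card (X₀ K))) := by ring
        _ ≤ K.index * (q ^ 2 * q) := Nat.mul_le_mul_left _ (Nat.mul_le_mul_left _ h)
        _ = _ := by ring
    exact (hX ▸ AddSubgroup.mem_top r : r ∈ X₀ K)
  have hTa := hstep K hK ha
  by_cases hline : ∀ u ∈ U₀ K, ω u (va F) = 0
  swap
  · push Not at hline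
    obtain ⟨u, hu, hua⟩ := hline
    have hTy : ∀ w ∈ U₀ K, w ≠ 0 → ∀ r, T w r ∈ L₁ K := by
      intro w hw hw0 r
      obtain ⟨h, hh, he⟩ := exists_Lv_move hw.1 va_mem hw0 (by simp [va])
      have h1 := L₁_cj hh (hstep (cj K h) (hK.cj h) (he ▸ U₀_cj hh hw) r)
      rw [← he, ← conj_T] at h1
      convert h1 using 1
      group
    set β := u (.inr 1) with hβ
    have hβ0 : β ≠ 0 := by rwa [hβ, ← f_va u]
    have hw : β • vb F ∈ U₀ K := by
      have := U₀_stable (hTa (-(u (.inl 1)) / β)) hu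
      rw [app_T, f_va, ← hβ, div_mul_cancel₀ _ hβ0] at this
      convert this using 1
      conv_rhs => rw [decomp_W hu.1, ← hβ]
      simp [va, vb]
    have hTb : ∀ r, T (vb F) r ∈ L₁ K := fun r => by
      have := hTy _ hw (smul_ne_zero hβ0 (by simp [vb])) (r / (β * β))
      rwa [T_smul, mul_div_cancel₀ _ (mul_ne_zero hβ0 hβ0)] at this
    have htrans : ∀ w ∈ W (F := F) (m := 2) 1, w ≠ 0 → ∃ k ∈ L₁ K, app k (va F) = w := by
      intro w hw hw0
      by_cases hb : w (.inr 1) = 0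
      · have hwa : w = w (.inl 1) • va F := by conv_lhs => rw [decomp_W hw, hb, zero_smul, add_zero]
        obtain ⟨k, hk, -, hka, -⟩ := exists_torus hTa hTb (s := w (.inl 1)) fun h => hw0 (by rw [hwa, h, zero_smul])
        exact ⟨k, hk, by rw [hka, ← hwa]⟩
      · refine ⟨T (va F) ((w (.inl 1) - 1) / w (.inr 1)) * T (vb F) (-(w (.inr 1))),
          (L₁ K).mul_mem (hTa _) (hTb _), ?_⟩
        have e1 : app (T (vb F) (-(w (.inr 1)))) (va F) = va F + w (.inr 1) • vb F := by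
          rw [app_T, f_va_vb, mul_neg, mul_one, neg_neg]
        rw [app_mul, e1, app_add, app_smul, app_T, app_T, f_self, f_vb_va, mul_zero, zero_smul, add_zero, mul_one,
          smul_add, smul_smul, mul_div_cancel₀ _ hb]
        conv_rhs => rw [decomp_W hw]
        module
    have hL : ∀ h ∈ Lv F, h ∈ L₁ K := by
      intro h hh
      obtain ⟨k, hk, hka⟩ := htrans _ (Lv_W hh va_mem) (app_ne_zero h (by simp [va]))
      obtain ⟨r, hr⟩ := fix_va (mul_mem (inv_mem hk.1) hh) (h := k⁻¹ * h) (by rw [app_mul, ← hka, app_inv])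
      rw [show h = k * T (va F) r by rw [← hr, mul_inv_cancel_left]]
      exact (L₁ K).mul_mem hk (hTa r)
    refine no_good_levi h2 hq hK.1 (fun v hv => ?_) hL
    by_contra hv0
    obtain ⟨k, hk, hkv⟩ := htrans v hv.1 hv0
    have hva : va F ∈ Ab K := by
      have := Ab_stable ((L₁ K).inv_mem hk) hv
      rwa [← hkv, app_inv] at this
    have hall : ∀ w ∈ W (F := F) (m := 2) 1, w ∈ Ab K := fun w hw => by
      by_cases hw0 : w = 0
      · rw [hw0]; exact (Ab K).zero_mem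
      · obtain ⟨k, hk, hkw⟩ := htrans w hw hw0
        rw [← hkw]; exact Ab_stable hk hva
    obtain ⟨a, hane⟩ := exists_psi_ne (F := F)
    have := ha.2 _ (hall (a • vb F) (Submodule.smul_mem _ _ vb_mem))
    rw [f_smul_right, f_va_vb, mul_neg, mul_one, show -a = a by linear_combination -a * h2] at this
    exact hane this
  -- one line
  have hcU := card_U₀ (K := K)
  have hUle : 2 ≤ Nat.card (U₀ K) :=
    Finite.one_lt_card_iff_nontrivial.2 ⟨⟨va F, ha⟩, 0, fun e => by simpa [va] using congrArg (fun z : U₀ K => (z : V) (.inl 1)) e⟩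
  have hlineA : ∀ t : F, t • va F ∈ Ab K := by
    intro t
    obtain ⟨a, hane⟩ := exists_psi_ne (F := F)
    have hp := perp_card (psi F) hane (U₀ K) fun x hx => hx.1
    let f : Ab K → {x : (W 1 : Submodule F V) // ∀ u ∈ U₀ K, psi F (ω (x : V) u) = 1} := fun y =>
      ⟨⟨y.1, y.2.1⟩, fun u hu => by
        rw [f_swap, show -ω u (y : V) = ω u (y : V) by linear_combination -ω u (y : V) * h2]
        exact hu.2 _ y.2⟩
    have hf : Function.Injective f := fun a b e => Subtype.ext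
      (congrArg (fun z : {x : (W 1 : Submodule F V) // ∀ u ∈ U₀ K, psi F (ω (x : V) u) = 1} => (z.1 : V)) e)
    have hcard : Nat.card (Ab K) = Nat.card {x : (W 1 : Submodule F V) // ∀ u ∈ U₀ K, psi F (ω (x : V) u) = 1} :=
      Nat.eq_of_mul_eq_mul_right Nat.card_pos (by rw [hp, ← hcU, mul_comm])
    obtain ⟨y, hy⟩ := ((Nat.bijective_iff_injective_and_card f).2 ⟨hf, hcard⟩).2
      ⟨⟨t • va F, smul_va_mem t⟩, fun u hu => by
        rw [f_smul_left, f_swap, hline u hu, neg_zero, mul_zero, AddChar.map_zero_eq_one]⟩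
    have e := congrArg (fun z : {x : (W 1 : Submodule F V) // ∀ u ∈ U₀ K, psi F (ω (x : V) u) = 1} => (z.1 : V)) hy
    exact (show (y : V) = t • va F from e) ▸ y.2
  obtain ⟨g, hg, s, hs, hs1⟩ : ∃ g ∈ L₁ K, ∃ s : F, app g (va F) = s • va F ∧ s ≠ 1 := by
    by_contra hc
    push Not at hc
    have hS : ∀ h ∈ L₁ K, app h (va F) ∈ ({va F} : Set V) := fun h hh => by
      have hm := U₀_stable hh ha
      have e := eq_smul_va hm.1 (hline _ hm)
      rw [Set.mem_singleton_iff, e, hc h hh _ e, one_smul]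
    have hl := card_L₁_le' _ hS
    rw [Nat.card_coe_set_eq, Set.ncard_singleton, one_mul] at hl
    have hX : Nat.card (X₀ K) ≤ q := by
      rw [← Nat.card_eq_fintype_card]; exact Nat.card_le_card_of_injective _ Subtype.val_injective
    have hc' := count_even h2 hK.1 (Nat.mul_le_mul (hl.trans hX) (le_refl (Nat.card (Ab K)))) (by omega)
    refine arith_even hq hK.1.1 (Nat.le_of_mul_le_mul_right ?_ (pow_pos (show 0 < q by omega) 3))
    calc 2 * (q * (q ^ 2 - 1)) * q ^ 3 = 2 * (q ^ 4 * (q ^ 2 - 1)) := by ring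
      _ ≤ 2 * (K.index * (q * Nat.card (Ab K))) := Nat.mul_le_mul_left _ hc'
      _ = K.index * (q * (2 * Nat.card (Ab K))) := by ring
      _ ≤ K.index * (q * q ^ 2) := Nat.mul_le_mul_left _ (Nat.mul_le_mul_left _ (by
          rw [← hcU]; exact Nat.mul_le_mul_right _ hUle))
      _ = _ := by ring
  have hs2 : s * s ≠ 1 := fun h => hs1 (sub_eq_zero.1 (mul_self_eq_zero.1
    (show (s - 1) * (s - 1) = 0 by linear_combination h - (s - 1) * h2)))
  obtain ⟨z, hz, c, hzc⟩ := exists_conj_pure hg hs hs1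
  obtain ⟨g', hg'K, hg'L, s', hs', hs'2⟩ := exists_pure_pow hg.1 hzc hs hs2
  have hs'1 : s' ≠ 1 := fun e => hs'2 (by rw [e, mul_one])
  refine (hK.cj (el z 0)).2 ⟨1, fun t => ?_⟩
  rw [inv_one, mul_one, one_mul]
  obtain ⟨-, d, hd'⟩ := Ab_cj_el hz (hlineA (t / (s' - 1)))
  have h1 := Subgroup.mul_mem _ (Subgroup.mul_mem _ (Subgroup.mul_mem _ hg'K hd') (Subgroup.inv_mem _ hg'K)) (Subgroup.inv_mem _ hd')
  rw [conj_el hg'L (smul_va_mem _), app_smul, hs', smul_smul, el_inv (smul_va_mem _),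
    el_mul (smul_va_mem _) (neg_mem (smul_va_mem _))] at h1
  convert h1 using 2
  · rw [← sub_eq_add_neg, ← sub_smul, ← mul_sub_one, div_mul_cancel₀ _ (sub_ne_zero.2 hs'1)]
  · rw [← neg_one_smul F ((t / (s' - 1)) • va F), smul_smul, f_smul_left, f_smul_right, f_self]
    ring

/-- The exchange of the two pairs. -/
def sw : G :=
  ⟨(1 : Matrix (Fin 2 ⊕ Fin 2) (Fin 2 ⊕ Fin 2) F).submatrix (Sum.map (Equiv.swap 0 1) (Equiv.swap 0 1)) id,
    mem_iff_f.2 fun u v => by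
      simp [f_apply, Fin.sum_univ_two, mulVec, dotProduct, Fintype.sum_sum_type, Matrix.one_apply]
      ring⟩

theorem app_sw (y : V) : app (sw (F := F)) y = y ∘ Sum.map (Equiv.swap 0 1) (Equiv.swap 0 1) := by
  funext i
  show ((1 : Matrix (Fin 2 ⊕ Fin 2) (Fin 2 ⊕ Fin 2) F).submatrix _ id *ᵥ y) i = _
  simp [mulVec, dotProduct, Matrix.one_apply]

theorem sw_ve : app (sw (F := F)) (ve F) = va F := by
  rw [app_sw]; funext i; rcases i with i | i <;> fin_cases i <;> simp [ve, va]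

theorem sw_va : app (sw (F := F)) (va F) = ve F := by
  rw [app_sw]; funext i; rcases i with i | i <;> fin_cases i <;> simp [ve, va]

theorem sw_mul_self : (sw (F := F)) * sw = 1 := ext_app fun y => by
  rw [app_mul, app_one, app_sw, app_sw]; funext i; rcases i with i | i <;> fin_cases i <;> simp

theorem sw_el (t c : F) : sw * el (t • va F) c * sw⁻¹ = el (t • va F) 0 * T (va F) c := by
  rw [mul_inv_eq_iff_eq_mul]
  refine ext_app fun y => ?_
  have e1 : ω (app sw y) (va F) = ω y (ve F) := by rw [← sw_ve, f_app]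
  have e2 : ω (app sw y) (ve F) = ω y (va F) := by rw [← sw_va, f_app]
  simp only [app_mul, app_el (smul_va_mem t), app_add, app_smul, app_T, sw_ve, sw_va, f_add_left, f_smul_left,
    f_smul_right, e1, e2, f_self, (f_W_ve (F := F) va_mem).1]
  module

variable (K) in
/-- The mixed members. -/
def Mix : Set F := {γ | ∃ c, el 0 c * T (va F) γ ∈ K}

theorem mix_key (h2 : (2 : F) = 0) (hq : 4 ≤ q) (hK : Good₂ K) {γ : F} (hγ : γ ∈ Mix K) (hγ0 : γ ≠ 0) (u : F) :
    el (u • va F) (u * u / γ) ∈ K := by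
  obtain ⟨c, hc⟩ := hγ
  set τ := u / γ with hτ
  obtain ⟨-, κ, hκ⟩ := Ab_full h2 hq hK (Submodule.smul_mem _ τ (vb_mem (F := F)))
  have hbW : τ • vb F ∈ W (F := F) (m := 2) 1 := Submodule.smul_mem _ τ vb_mem
  have h1 := K.mul_mem (K.mul_mem (K.mul_mem hκ hc) (K.inv_mem hκ)) (K.inv_mem hc)
  have e0 : el (τ • vb F) κ * el 0 c * (el (τ • vb F) κ)⁻¹ = el 0 c := by
    rw [el_inv hbW, el_mul hbW (zero_mem _), el_mul (add_mem hbW (zero_mem _)) (neg_mem hbW), add_zero,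
      add_neg_cancel, ← neg_one_smul F (τ • vb F), f_smul_left, f_self, f_zero_left]
    congr 1; ring
  have e1 : app (el (τ • vb F) κ) (va F) = va F + τ • ve F := by
    rw [app_el hbW, (f_W_ve va_mem).1, f_smul_right, f_va_vb, mul_zero, add_zero, zero_smul, add_zero,
      show τ * -1 = τ by linear_combination -τ * h2]
  have e2 : T (va F + τ • ve F) γ = el (u • va F) (u * u / γ) * T (va F) γ := by
    refine ext_app fun y => ?_
    rw [app_mul, app_T, app_T, app_el (smul_va_mem u), show u = γ * τ by rw [hτ, mul_div_cancel₀ _ hγ0],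
      show γ * τ * (γ * τ) / γ = γ * (τ * τ) by field_simp]
    simp only [f_add_left, f_add_right, f_smul_left, f_smul_right, f_self, (f_W_ve (F := F) va_mem).1]
    module
  rw [show el (τ • vb F) κ * (el 0 c * T (va F) γ) * (el (τ • vb F) κ)⁻¹ * (el 0 c * T (va F) γ)⁻¹ =
    (el (τ • vb F) κ * el 0 c * (el (τ • vb F) κ)⁻¹) * (el (τ • vb F) κ * T (va F) γ * (el (τ • vb F) κ)⁻¹) *
      (T (va F) γ)⁻¹ * (el 0 c)⁻¹ by group, e0, conj_T, e1, e2, ← mul_assoc, mul_inv_cancel_right,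
    el_inv (zero_mem _), el_mul (zero_mem _) (smul_va_mem _),
    el_mul (add_mem (zero_mem _) (smul_va_mem _)) (neg_mem (zero_mem _))] at h1
  convert h1 using 2
  · simp
  · rw [neg_zero, f_zero_left, f_zero_right]; ring

theorem mix_unique (h2 : (2 : F) = 0) (hq : 4 ≤ q) (hK : Good₂ K) {γ γ' : F} (hγ : γ ∈ Mix K) (hγ' : γ' ∈ Mix K)
    (h0 : γ ≠ 0) (h0' : γ' ≠ 0) : γ = γ' := by
  by_contra hne
  obtain ⟨e, he⟩ := hK.1.exists_notMem_Z₀
  refine he ?_
  have hd : γ⁻¹ + γ'⁻¹ ≠ 0 := fun h => hne (inv_injective (by linear_combination h - γ'⁻¹ * h2))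
  obtain ⟨u, hu⟩ := exists_sqrt h2 (e / (γ⁻¹ + γ'⁻¹))
  have h1 := K.mul_mem (mix_key h2 hq hK hγ h0 u) (mix_key h2 hq hK hγ' h0' u)
  rw [el_mul (smul_va_mem _) (smul_va_mem _), ← two_smul F (u • va F), h2, zero_smul, f_smul_left, f_smul_right,
    f_self, hu] at h1
  show T (ve F) e ∈ K
  rw [← el_zero]
  convert h1 using 2
  rw [div_eq_mul_inv (e / (γ⁻¹ + γ'⁻¹)) γ, div_eq_mul_inv (e / (γ⁻¹ + γ'⁻¹)) γ', ← mul_add,
    div_mul_cancel₀ e hd, mul_zero, mul_zero, add_zero]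

/-- No subgroup of small index avoids both kinds of root group. -/
theorem not_good_even (h2 : (2 : F) = 0) (hq : 4 ≤ q) : ¬ Good₂ K := by
  intro hK
  have key : ∀ K : Subgroup (Matrix.symplecticGroup (Fin 2) F), Good₂ K → ∀ t c : F,
      el (t • va F) c ∈ K → c ∈ Mix (cj K sw) := by
    intro K hK t c hc
    obtain ⟨-, c', hc'⟩ := Ab_full h2 hq (hK.cj sw) (smul_va_mem (F := F) t)
    have h1 := mem_cj' sw hc
    rw [sw_el] at h1
    refine ⟨c', ?_⟩
    have h3 := Subgroup.mul_mem _ hc' h1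
    rw [← mul_assoc, el_mul (smul_va_mem _) (smul_va_mem _), ← two_smul F (t • va F), h2, zero_smul, f_smul_left,
      f_smul_right, f_self, mul_zero, mul_zero, add_zero, add_zero] at h3
    exact h3
  have hback : cj (cj K sw) sw = K := by
    ext x
    rw [mem_cj, mem_cj, inv_eq_of_mul_eq_one_right (sw_mul_self (F := F))]
    rw [show sw * (sw * x * sw) * sw = (sw * sw) * x * (sw * sw) by group, sw_mul_self, one_mul, mul_one]
  -- a mixed member
  obtain ⟨γ, hγ, hγ0⟩ : ∃ γ ∈ Mix K, γ ≠ 0 := by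
    by_contra hc
    push Not at hc
    refine hK.2 ⟨1, fun t => ?_⟩
    rw [inv_one, mul_one, one_mul]
    obtain ⟨-, c', hc'⟩ := Ab_full h2 hq (hK.cj sw) (smul_va_mem (F := F) t)
    have h1 := key _ (hK.cj sw) t c' hc'
    rw [hback] at h1
    have h0 := hc c' h1
    have h3 := mem_cj.1 hc'
    rw [inv_eq_of_mul_eq_one_right (sw_mul_self (F := F))] at h3
    have h4 := sw_el (F := F) t c'
    rw [inv_eq_of_mul_eq_one_right (sw_mul_self (F := F))] at h4
    rw [h4, h0, T_zero, mul_one] at h3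
    exact h3
  obtain ⟨u, hu0, hu1⟩ : ∃ u : F, u ≠ 0 ∧ u ≠ 1 := by
    by_contra hc
    push Not at hc
    have hsub : (Finset.univ : Finset F) ⊆ {0, 1} := fun s _ => by
      by_cases h : s = 0
      · simp [h]
      · simp [hc s h]
    have := (Finset.card_le_card hsub).trans Finset.card_le_two
    rw [Finset.card_univ] at this
    omega
  have h3 := key K hK 1 _ (mix_key h2 hq hK hγ hγ0 1)
  have h4 := key K hK u _ (mix_key h2 hq hK hγ hγ0 u)
  have h5 := mix_unique h2 hq (hK.cj sw) h3 h4 (by simp [hγ0]) (div_ne_zero (mul_ne_zero hu0 hu0) hγ0)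
  rw [one_mul, div_left_inj' hγ0] at h5
  exact hu1 (sub_eq_zero.1 (mul_self_eq_zero.1 (show (u - 1) * (u - 1) = 0 by
    linear_combination -h5 - (u - 1) * h2)))

end CfsgLib.MinIndexSp.Four
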