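import Cfsg.Agent.Lib.MinIndexSp.FourTools

/-!
`Sp(4, q)`, `q` odd: a subgroup of small index contains a transvection group.
-/

set_option autoImplicit false
set_option linter.unusedSectionVars false

namespace CfsgLib.MinIndexSp.Four

open Matrix Cfsg Module
open CfsgLib.Classical.SympTrans
open CfsgLib.Classical.SympStab (centres E app_E)

variable {F : Type*} [Field F] [Fintype F] [DecidableEq F]

local notation "V" => (Fin 2 ⊕ Fin 2 → F)
local notation "G" => Matrix.symplecticGroup (Fin 2) F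
local notation "ω" => sympForm 2 F
local notation "q" => Fintype.card F

/-- The torus of the Levi factor. -/
theorem exists_torus {L : Subgroup (Matrix.symplecticGroup (Fin 2) F)} (ha : ∀ r, T (va F) r ∈ L)
    (hb : ∀ r, T (vb F) r ∈ L) {s : F} (hs : s ≠ 0) :
    ∃ t ∈ L, t ∈ Lv F ∧ app t (va F) = s • va F ∧ app t (vb F) = s⁻¹ • vb F := by
  let w : F → G := fun r => T (va F) r * (T (vb F) r⁻¹ * T (va F) r)
  have hAa : ∀ r, app (T (va F) r) (va F) = va F := fun r => by rw [app_T, f_self, mul_zero, zero_smul, add_zero]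
  have hAb : ∀ r, app (T (va F) r) (vb F) = vb F + r • va F := fun r => by rw [app_T, f_vb_va, mul_one]
  have hBb : ∀ r, app (T (vb F) r) (vb F) = vb F := fun r => by rw [app_T, f_self, mul_zero, zero_smul, add_zero]
  have hBa : ∀ r, app (T (vb F) r) (va F) = va F - r • vb F := fun r => by
    rw [app_T, f_va_vb, mul_neg, mul_one, neg_smul, ← sub_eq_add_neg]
  have hwa : ∀ r : F, r ≠ 0 → app (w r) (va F) = -(r⁻¹ • vb F) := fun r hr => by
    simp only [w, app_mul, hAa, hBa, app_sub, app_smul, hAb, smul_add, smul_smul]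
    rw [inv_mul_cancel₀ hr, one_smul]
    abel
  have hwb : ∀ r : F, r ≠ 0 → app (w r) (vb F) = r • va F := fun r hr => by
    simp only [w, app_mul, hAb, app_add, app_smul, hBb, hBa, app_sub, hAa, smul_sub, smul_smul]
    simp only [mul_inv_cancel₀ hr, one_smul]
    abel
  have hneg : ∀ (g : G) (x : V), app g (-x) = -app g x := fun g x => by
    rw [← neg_one_smul F x, app_smul, neg_one_smul]
  have hmem : ∀ r, w r ∈ L := fun r => L.mul_mem (ha r) (L.mul_mem (hb _) (ha r))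
  have hLv : ∀ r, w r ∈ Lv F := fun r =>
    mul_mem (T_mem_Lv va_mem r) (mul_mem (T_mem_Lv vb_mem _) (T_mem_Lv va_mem r))
  refine ⟨w s * w (-1), L.mul_mem (hmem _) (hmem _), mul_mem (hLv _) (hLv _), ?_, ?_⟩
  · rw [app_mul, hwa (-1) (neg_ne_zero.2 one_ne_zero), inv_neg_one, neg_smul, one_smul, neg_neg, hwb s hs]
  · rw [app_mul, hwb (-1) (neg_ne_zero.2 one_ne_zero), app_smul, hwa s hs]
    simp

variable {K : Subgroup (Matrix.symplecticGroup (Fin 2) F)}

theorem card_Ab_le (h2 : (2 : F) ≠ 0) (hK : Good K) : Nat.card (Ab K) ≤ q := by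
  classical
  obtain ⟨c, hc⟩ := hK.exists_notMem_Z₀
  obtain ⟨ψ, hψ⟩ := (AddChar.exists_apply_ne_zero (α := F ⧸ Z₀ K) (a := (c : F ⧸ Z₀ K))).2
    (by rwa [Ne, QuotientAddGroup.eq_zero_iff])
  let χ : AddChar F ℂ := (ψ.compAddMonoidHom (QuotientAddGroup.mk' (Z₀ K))).compAddMonoidHom (AddMonoidHom.mulLeft 2)
  have hχ : χ (c / 2) ≠ 1 := by
    simp only [χ, AddChar.compAddMonoidHom_apply, AddMonoidHom.coe_mulLeft]
    rw [mul_div_cancel₀ _ h2]
    exact hψ
  have h := perp_card χ hχ (Ab K) fun x hx => hx.1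
  have hsub : Nat.card (Ab K) ≤ Nat.card {x : (W 1 : Submodule F V) // ∀ y ∈ Ab K, χ (ω (x : V) y) = 1} := by
    refine Nat.card_le_card_of_injective (fun x => ⟨⟨x.1, x.2.1⟩, fun y hy => ?_⟩) fun a b e => Subtype.ext
      (congrArg (fun z : {x : (W 1 : Submodule F V) // ∀ y ∈ Ab K, χ (ω (x : V) y) = 1} => (z.1 : V)) e)
    obtain ⟨hxW, d, hd⟩ := x.2
    obtain ⟨hyW, d', hd'⟩ := hy
    have hz : 2 * ω (x : V) y ∈ Z₀ K := by
      have h1 := K.mul_mem (K.mul_mem hd' hd) (K.inv_mem (K.mul_mem hd hd'))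
      rw [el_mul hxW hyW, el_mul hyW hxW, el_inv (add_mem hxW hyW), el_mul (add_mem hyW hxW) (neg_mem (add_mem hxW hyW)),
        show y + (x : V) + -((x : V) + y) = 0 by abel] at h1
      show T (ve F) _ ∈ K
      rw [← el_zero]
      convert h1 using 2
      rw [← neg_one_smul F ((x : V) + y), f_smul_left, f_add_left, f_add_right, f_add_right, f_self, f_self,
        f_swap (x : V) y]
      ring
    simp only [χ, AddChar.compAddMonoidHom_apply, AddMonoidHom.coe_mulLeft]
    rw [show (QuotientAddGroup.mk' (Z₀ K)) (2 * ω (x : V) y) = 0 from (QuotientAddGroup.eq_zero_iff _).2 hz]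
    exact AddChar.map_zero_eq_one ψ
  refine Nat.pow_le_pow_iff_left two_ne_zero |>.1 ?_
  rw [← h, pow_two]
  exact Nat.mul_le_mul_right _ hsub

/-- The last step: a pure torus element, all lifts of the root group without translation part. -/
theorem finish {g : G} (hgK : g ∈ K) (hgL : g ∈ Lv F) {s : F} (hs : app g (va F) = s • va F) (hs2 : s * s ≠ 1)
    (hlift : ∀ r, ∃ c, el 0 c * T (va F) r ∈ K) : va F ∈ centres K := by
  intro t
  obtain ⟨c, hc⟩ := hlift (t / (s * s - 1))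
  have h1 := K.mul_mem (K.mul_mem hgK hc) (K.inv_mem hgK)
  have hc' : g * el 0 c * g⁻¹ = el 0 c := by rw [← (commute_Te hgL c).eq, mul_inv_cancel_right]
  rw [show g * (el 0 c * T (va F) (t / (s * s - 1))) * g⁻¹ =
    (g * el 0 c * g⁻¹) * (g * T (va F) (t / (s * s - 1)) * g⁻¹) by group, hc', conj_T, hs, T_smul] at h1
  have h2 := K.mul_mem (K.inv_mem hc) h1
  rw [show (el 0 c * T (va F) (t / (s * s - 1)))⁻¹ * (el 0 c * T (va F) (s * s * (t / (s * s - 1)))) =
    (T (va F) (t / (s * s - 1)))⁻¹ * T (va F) (s * s * (t / (s * s - 1))) by group,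
    inv_eq_of_mul_eq_one_right (show T (va F) (t / (s * s - 1)) * T (va F) (-(t / (s * s - 1))) = 1 by
      rw [T_mul, add_neg_cancel, T_zero]), T_mul] at h2
  convert h2 using 2
  rw [show -(t / (s * s - 1)) + s * s * (t / (s * s - 1)) = (s * s - 1) * (t / (s * s - 1)) by ring,
    mul_div_cancel₀ _ (sub_ne_zero.2 hs2)]

theorem Ab_stable {h : G} (hh : h ∈ L₁ K) {y : V} (hy : y ∈ Ab K) : app h y ∈ Ab K := by
  obtain ⟨hL, x, hx, c, hc⟩ := hh
  obtain ⟨hyW, d, hd⟩ := hy
  have := K.mul_mem (K.mul_mem hc hd) (K.inv_mem hc)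
  rw [show el x c * h * el y d * (el x c * h)⁻¹ = el x c * (h * el y d * h⁻¹) * (el x c)⁻¹ by group,
    conj_el hL hyW, el_inv hx, el_mul hx (Lv_W hL hyW), el_mul (add_mem hx (Lv_W hL hyW)) (neg_mem hx),
    show x + app h y + -x = app h y by abel] at this
  exact ⟨Lv_W hL hyW, _, this⟩

theorem arith_A {r : ℕ} : ((r + 5) ^ 2 + 1) * (2 * r + 4) < 3 * ((r + 5) * ((r + 4) * (r + 4))) := by
  nlinarith [Nat.zero_le (r ^ 3), Nat.zero_le (r ^ 2)]

theorem arith_C {r : ℕ} : ((r + 5) ^ 2 + 1) * (2 * r + 4) * 2 < (r + 5) ^ 2 * ((r + 4) * (r + 4)) := by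
  nlinarith [Nat.zero_le (r ^ 4), Nat.zero_le (r ^ 3), Nat.zero_le (r ^ 2)]

theorem not_product {r l a : ℕ} (h : (r + 5) ^ 4 * ((r + 6) * (r + 4)) * (r + 4) <
    (r + 5 + 1) * ((r + 5) ^ 2 + 1) * ((2 * r + 4) * (l * a))) (hla : 3 * (l * a) ≤ (r + 5) ^ 3) : False := by
  have h1 : 3 * ((r + 5 + 1) * ((r + 5) ^ 2 + 1) * ((2 * r + 4) * (l * a))) ≤
      (r + 6) * (r + 5) ^ 3 * (((r + 5) ^ 2 + 1) * (2 * r + 4)) := by
    calc _ = (r + 6) * (((r + 5) ^ 2 + 1) * (2 * r + 4)) * (3 * (l * a)) := by ring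
      _ ≤ (r + 6) * (((r + 5) ^ 2 + 1) * (2 * r + 4)) * (r + 5) ^ 3 := Nat.mul_le_mul_left _ hla
      _ = _ := by ring
  have h2 : (r + 6) * (r + 5) ^ 3 * (((r + 5) ^ 2 + 1) * (2 * r + 4)) ≤
      3 * ((r + 5) ^ 4 * ((r + 6) * (r + 4)) * (r + 4)) := by
    calc _ ≤ (r + 6) * (r + 5) ^ 3 * (3 * ((r + 5) * ((r + 4) * (r + 4)))) := Nat.mul_le_mul_left _ arith_A.le
      _ = _ := by ring
  omega

theorem no_good_line (h2 : (2 : F) ≠ 0) (hq : 5 ≤ q) (hodd : Odd q) (hK : Good K) (ha : va F ∈ Ab K) : False := by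
  classical
  have hγ := card_eig_odd h2 hq hodd hK
  have hA := card_Ab_le h2 hK
  have hcnt := count K
  have hd := hK.1
  have hL := card_L₁_le' (K := K) (Ab K : Set V) fun h hh => Ab_stable hh ha
  change Nat.card (L₁ K) ≤ Nat.card (Ab K) * Nat.card (X₀ K) at hL
  have hX : Nat.card (X₀ K) ≤ q := by
    rw [← Nat.card_eq_fintype_card]; exact Nat.card_le_card_of_injective _ Subtype.val_injective
  obtain ⟨r, hr⟩ : ∃ r, q = r + 5 := ⟨q - 5, by omega⟩
  have hgz : Nat.card (Γ K) * Nat.card (Z₀ K) ≤ 2 * r + 4 := by omega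
  -- the product bound
  have hkey : ∀ {l a : ℕ}, Nat.card (L₁ K) ≤ l → Nat.card (Ab K) ≤ a →
      q ^ 4 * (q ^ 2 - 1) * (q - 1) < (q + 1) * (q ^ 2 + 1) * ((2 * r + 4) * (l * a)) := by
    intro l a hl ha'
    refine lt_of_le_of_lt hcnt ?_
    have h0 : 0 < q ^ 4 * (q ^ 2 - 1) * (q - 1) := by
      have : 2 ≤ q ^ 2 := le_trans (by omega) (Nat.pow_le_pow_left hq 2)
      exact Nat.mul_pos (Nat.mul_pos (pow_pos (by omega) _) (by omega)) (by omega)
    refine lt_of_le_of_lt (Nat.mul_le_mul_left _ ?_)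
      (Nat.mul_lt_mul_of_pos_right hd ?_)
    · rw [← mul_assoc, ← mul_assoc, show Nat.card (Γ K) * Nat.card (L₁ K) * Nat.card (Ab K) * Nat.card (Z₀ K) =
        (Nat.card (Γ K) * Nat.card (Z₀ K)) * (Nat.card (L₁ K) * Nat.card (Ab K)) by ring]
      exact Nat.mul_le_mul hgz (Nat.mul_le_mul hl ha')
    · refine Nat.pos_of_ne_zero fun h => ?_
      have : 0 < Nat.card (L₁ K) * Nat.card (Ab K) := Nat.mul_pos Nat.card_pos Nat.card_pos
      have := Nat.mul_le_mul hl ha'
      rcases mul_eq_zero.1 h with h | h <;> omega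
  have e2 : q ^ 2 - 1 = (r + 6) * (r + 4) := by
    rw [show q ^ 2 - 1 = q ^ 2 - 1 ^ 2 by norm_num, Nat.sq_sub_sq, hr, show r + 5 - 1 = r + 4 by omega]
  have e1 : q - 1 = r + 4 := by omega
  rw [e2, e1, hr] at hkey
  -- all transvections at the second vector
  have hX' : X₀ K = ⊤ := (card_addSubgroup_odd hodd (X₀ K)).resolve_right fun h3 => by
    refine not_product (hkey hL (hA.trans hr.le)) ?_
    rw [hr] at h3 hA
    calc 3 * (Nat.card (Ab K) * Nat.card (X₀ K) * (r + 5)) = Nat.card (Ab K) * (3 * Nat.card (X₀ K)) * (r + 5) := by ring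
      _ ≤ (r + 5) * (r + 5) * (r + 5) := Nat.mul_le_mul_right _ (Nat.mul_le_mul hA h3)
      _ = _ := by ring
  have hTL : ∀ t, T (va F) t ∈ L₁ K := fun t => (hX' ▸ AddSubgroup.mem_top t : t ∈ X₀ K)
  let T₀ : AddSubgroup F :=
    { carrier := {t | t • va F ∈ Ab K}
      add_mem' := fun {x y} hx hy => by
        show (x + y) • va F ∈ Ab K
        rw [add_smul]; exact (Ab K).add_mem hx hy
      zero_mem' := by show (0 : F) • va F ∈ Ab K; rw [zero_smul]; exact (Ab K).zero_mem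
      neg_mem' := fun {x} hx => by
        show (-x) • va F ∈ Ab K
        rw [neg_smul]; exact (Ab K).neg_mem hx }
  have hline : ∀ y ∈ Ab K, ω y (va F) = 0 := by
    intro y hy
    by_contra hne
    have hT0 : ∀ t : F, t • va F ∈ Ab K := fun t => by
      have h1 := (Ab K).sub_mem (Ab_stable (hTL (t / ω y (va F))) hy) hy
      rw [app_T, div_mul_cancel₀ _ hne, add_sub_cancel_left] at h1
      exact h1
    let f : Option F → Ab K := fun o => o.elim ⟨y, hy⟩ fun t => ⟨t • va F, hT0 t⟩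
    have hf : Function.Injective f := by
      rintro (_ | s) (_ | t) e
      · rfl
      · exact absurd (by rw [show y = t • va F from congrArg Subtype.val e, f_smul_left, f_self, mul_zero]) hne
      · exact absurd (by rw [show y = s • va F from (congrArg Subtype.val e).symm, f_smul_left, f_self, mul_zero]) hne
      · exact congrArg some (va_smul_inj (congrArg Subtype.val e))
    have hcard := Nat.card_le_card_of_injective f hf
    rw [Finite.card_option, Nat.card_eq_fintype_card] at hcard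
    omega
  have hAT : Nat.card (Ab K) ≤ Nat.card T₀ := by
    refine Nat.card_le_card_of_injective (fun y => ⟨(y : V) (.inl 1), ?_⟩) fun y z e => Subtype.ext ?_
    · show (y : V) (.inl 1) • va F ∈ Ab K
      rw [← eq_smul_va y.2.1 (hline y y.2)]; exact y.2
    · have e' : (y : V) (.inl 1) = (z : V) (.inl 1) := congrArg (fun t : T₀ => (t : F)) e
      rw [eq_smul_va y.2.1 (hline y y.2), eq_smul_va z.2.1 (hline z z.2), e']
  have hT₀ : T₀ = ⊤ := (card_addSubgroup_odd hodd T₀).resolve_right fun h3 => by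
    refine not_product (hkey hL le_rfl) ?_
    rw [hr] at h3 hX hA
    calc 3 * (Nat.card (Ab K) * Nat.card (X₀ K) * Nat.card (Ab K)) =
          (3 * Nat.card (Ab K)) * Nat.card (X₀ K) * Nat.card (Ab K) := by ring
      _ ≤ (r + 5) * (r + 5) * (r + 5) :=
          Nat.mul_le_mul (Nat.mul_le_mul (le_trans (Nat.mul_le_mul_left 3 hAT) h3) hX) hA
      _ = _ := by ring
  -- a torus element
  obtain ⟨g, hg, s, hs, hs2⟩ : ∃ g ∈ L₁ K, ∃ s : F, app g (va F) = s • va F ∧ s * s ≠ 1 := by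
    by_contra hc
    push Not at hc
    have hS : ∀ h ∈ L₁ K, app h (va F) ∈ ({va F, -va F} : Set V) := fun h hh => by
      have hm := Ab_stable hh ha
      have e := eq_smul_va hm.1 (hline _ hm)
      rcases mul_self_eq_one_iff.1 (hc h hh _ e) with h1 | h1
      · exact Or.inl (by rw [e, h1, one_smul])
      · exact Or.inr (by rw [Set.mem_singleton_iff, e, h1, neg_one_smul])
    have hL2 : Nat.card (L₁ K) ≤ 2 * q := by
      refine le_trans (card_L₁_le' _ hS) (Nat.mul_le_mul ?_ hX)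
      rw [Nat.card_coe_set_eq]
      exact (Set.ncard_insert_le _ _).trans (by rw [Set.ncard_singleton])
    have h := hkey hL2 hA
    rw [hr] at h
    refine absurd h (not_lt.2 ?_)
    calc (r + 5 + 1) * ((r + 5) ^ 2 + 1) * ((2 * r + 4) * (2 * (r + 5) * (r + 5)))
        = (r + 6) * (r + 5) ^ 2 * (((r + 5) ^ 2 + 1) * (2 * r + 4) * 2) := by ring
      _ ≤ (r + 6) * (r + 5) ^ 2 * ((r + 5) ^ 2 * ((r + 4) * (r + 4))) := Nat.mul_le_mul_left _ arith_C.le
      _ = _ := by ring
  have hs1 : s ≠ 1 := fun e => hs2 (by rw [e, mul_one])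
  obtain ⟨z, hz, c, hzc⟩ := exists_conj_pure hg hs hs1
  obtain ⟨g', hg'K, hg'L, s', hs', hs'2⟩ := exists_pure_pow hg.1 hzc hs hs2
  set K' := cj K (el z 0) with hK'
  have hs'1 : s' ≠ 1 := fun e => hs'2 (by rw [e, mul_one])
  have hline' : ∀ t : F, el (t • va F) 0 ∈ K' := by
    intro t
    obtain ⟨-, d, hd'⟩ := Ab_cj_el hz (show (t / (s' - 1)) • va F ∈ Ab K from (hT₀ ▸ AddSubgroup.mem_top _ : t / (s' - 1) ∈ T₀))
    have h1 := K'.mul_mem (K'.mul_mem (K'.mul_mem hg'K hd') (K'.inv_mem hg'K)) (K'.inv_mem hd')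
    rw [conj_el hg'L (smul_va_mem _), app_smul, hs', smul_smul, el_inv (smul_va_mem _),
      el_mul (smul_va_mem _) (neg_mem (smul_va_mem _))] at h1
    convert h1 using 2
    · rw [← sub_eq_add_neg, ← sub_smul, ← mul_sub_one, div_mul_cancel₀ _ (sub_ne_zero.2 hs'1)]
    · rw [← neg_one_smul F ((t / (s' - 1)) • va F), smul_smul, f_smul_left, f_smul_right, f_self]
      ring
  have hK'g : Good K' := hK.cj _
  refine hK'g.2 (va F) (by simp [va]) (finish hg'K hg'L hs' hs'2 fun t => ?_)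
  obtain ⟨-, x, hx, d, hxd⟩ := L₁_cj_el hz (hTL t)
  have hxa : ω x (va F) = 0 := by
    by_contra hne
    obtain ⟨e, he⟩ := hK'g.exists_notMem_Z₀
    refine he ?_
    set v := (-e / (2 * ω x (va F))) • va F with hv
    have hvW : v ∈ W (F := F) (m := 2) 1 := smul_va_mem _
    have h1 := K'.mul_mem (K'.mul_mem (K'.mul_mem hxd (hline' (-e / (2 * ω x (va F))))) (K'.inv_mem hxd))
      (K'.inv_mem (hline' (-e / (2 * ω x (va F)))))
    rw [← hv, show el x d * T (va F) t * el v 0 * (el x d * T (va F) t)⁻¹ =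
        el x d * (T (va F) t * el v 0 * (T (va F) t)⁻¹) * (el x d)⁻¹ by group,
      conj_el (T_mem_Lv va_mem t) hvW, show app (T (va F) t) v = v by
        rw [app_T, hv, f_smul_left, f_self, mul_zero, mul_zero, zero_smul, add_zero],
      el_inv hx, el_mul hx hvW, el_mul (add_mem hx hvW) (neg_mem hx), el_inv hvW,
      el_mul (add_mem (add_mem hx hvW) (neg_mem hx)) (neg_mem hvW),
      show x + v + -x + -v = 0 by abel, show x + v + -x = v by abel] at h1
    show T (ve F) e ∈ K'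
    rw [← el_zero]
    convert h1 using 2
    rw [← neg_one_smul F v, ← neg_one_smul F x]
    simp only [f_smul_left, f_smul_right, f_add_right, f_add_left, f_self, hv, f_swap x (va F)]
    field_simp
    ring
  have hxl := eq_smul_va hx hxa
  have h1 := K'.mul_mem (hline' (-(x (.inl 1)))) hxd
  rw [← mul_assoc, el_mul (smul_va_mem _) hx, show (-(x (.inl 1))) • va F + x = 0 by
    rw [neg_smul, ← hxl, neg_add_cancel]] at h1
  exact ⟨_, h1⟩

/-- Without translation part all lifts are unique. -/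
theorem no_good_zero (h2 : (2 : F) ≠ 0) (hq : 5 ≤ q) (hodd : Odd q) (hK : Good K) (hA : ∀ y ∈ Ab K, y = 0) :
    False := by
  classical
  have hA1 : Nat.card (Ab K) = 1 := by
    rw [Nat.card_eq_one_iff_unique]
    exact ⟨⟨fun a b => Subtype.ext ((hA a a.2).trans (hA b b.2).symm)⟩, ⟨0⟩⟩
  have hγ := card_eig_odd h2 hq hodd hK
  obtain ⟨r, hr⟩ : ∃ r, q = r + 5 := ⟨q - 5, by omega⟩
  -- all transvections occur
  have hTL : ∀ {x : V}, x ∈ W (F := F) (m := 2) 1 → ∀ t, T x t ∈ L₁ K := by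
    set M := (L₁ K).subgroupOf (Lv F) with hM
    have hle : L₁ K ≤ Lv F := fun h hh => hh.1
    have hcard : M.index * Nat.card (L₁ K) = Nat.card (Lv F) := by
      rw [← Nat.card_congr (Subgroup.subgroupOfEquivOfLe hle).toEquiv, M.index_mul_card]
    have hidx : M.index ≤ 2 := by
      by_contra hc
      have hc3 : 3 * Nat.card (L₁ K) ≤ (q ^ 2 - 1) * q :=
        le_trans (Nat.mul_le_mul_right _ (by omega)) (hcard.le.trans card_Lv_le)
      have hcnt := count K
      rw [hA1, one_mul] at hcnt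
      have hd := hK.1
      have e1 : Nat.card (Γ K) * (Nat.card (L₁ K) * Nat.card (Z₀ K)) ≤ (2 * r + 4) * Nat.card (L₁ K) := by
        rw [show Nat.card (Γ K) * (Nat.card (L₁ K) * Nat.card (Z₀ K)) =
          (Nat.card (Γ K) * Nat.card (Z₀ K)) * Nat.card (L₁ K) by ring]
        exact Nat.mul_le_mul_right _ (by omega)
      have h3 : 3 * (q ^ 4 * (q ^ 2 - 1) * (q - 1)) ≤ (q + 1) * (q ^ 2 + 1) * ((2 * r + 4) * ((q ^ 2 - 1) * q)) := by
        calc 3 * (q ^ 4 * (q ^ 2 - 1) * (q - 1)) ≤ 3 * ((q + 1) * (q ^ 2 + 1) * ((2 * r + 4) * Nat.card (L₁ K))) :=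
              Nat.mul_le_mul_left _ (hcnt.trans (Nat.mul_le_mul hd.le e1))
          _ = (q + 1) * (q ^ 2 + 1) * ((2 * r + 4) * (3 * Nat.card (L₁ K))) := by ring
          _ ≤ _ := Nat.mul_le_mul_left _ (Nat.mul_le_mul_left _ hc3)
      have hpos : 0 < (q ^ 2 - 1) * q := by
        have : 2 ≤ q ^ 2 := le_trans (by omega) (Nat.pow_le_pow_left hq 2)
        exact Nat.mul_pos (by omega) (by omega)
      have h4 : (q + 1) * (q ^ 2 + 1) * (2 * r + 4) < 3 * (q ^ 3 * (q - 1)) := by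
        rw [hr, show r + 5 - 1 = r + 4 by omega]
        nlinarith [Nat.zero_le (r ^ 4), Nat.zero_le (r ^ 3), Nat.zero_le (r ^ 2)]
      have h5 := Nat.mul_lt_mul_of_pos_right h4 hpos
      refine absurd h3 (not_le.2 ?_)
      calc (q + 1) * (q ^ 2 + 1) * ((2 * r + 4) * ((q ^ 2 - 1) * q))
          = (q + 1) * (q ^ 2 + 1) * (2 * r + 4) * ((q ^ 2 - 1) * q) := by ring
        _ < _ := h5
        _ = _ := by ring
    intro x hx t
    rcases (show M.index = 1 ∨ M.index = 2 by
      have := Subgroup.index_ne_zero_of_finite (H := M); omega) with h | h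
    · have := Subgroup.index_eq_one.1 h
      exact Subgroup.mem_subgroupOf.1 (this ▸ Subgroup.mem_top (⟨T x t, T_mem_Lv hx t⟩ : Lv F) :
        (⟨T x t, T_mem_Lv hx t⟩ : Lv F) ∈ M)
    · have := Subgroup.sq_mem_of_index_two h (⟨T x (t / 2), T_mem_Lv hx _⟩ : Lv F)
      rw [hM, Subgroup.mem_subgroupOf, SubmonoidClass.coe_pow, pow_two, T_mul, ← two_mul, mul_div_cancel₀ _ h2] at this
      exact this
  obtain ⟨n, hnL, hnLv, hna, hnb⟩ := exists_torus (hTL va_mem) (hTL vb_mem) (neg_ne_zero.2 (one_ne_zero (α := F)))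
  have hn1 : (-1 : F) ≠ 1 := fun h => h2 (by linear_combination -h)
  obtain ⟨z, hz, c, hzc⟩ := exists_conj_pure hnL hna hn1
  set K' := cj K (el z 0) with hK'
  have hK'g : Good K' := hK.cj _
  have hA' : ∀ y ∈ Ab K', y = 0 := by
    rintro y ⟨hyW, d, hd⟩
    refine hA y ⟨hyW, ?_⟩
    have := mem_cj.1 hd
    rw [el_inv hz, el_mul (neg_mem hz) hyW, el_mul (add_mem (neg_mem hz) hyW) hz,
      show -z + y + z = y by abel] at this
    exact ⟨_, this⟩
  have hneg : ∀ y ∈ W (F := F) (m := 2) 1, app n y = -y := fun y hy => by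
    conv_lhs => rw [decomp_W hy, app_add, app_smul, app_smul, hna, hnb]
    conv_rhs => rw [decomp_W hy]
    simp only [inv_neg_one, neg_smul, one_smul, smul_neg, neg_add]
  -- every lift has no translation part
  have hlift : ∀ h ∈ L₁ K, ∃ d, el 0 d * h ∈ K' := by
    intro h hh
    obtain ⟨hL, x, hx, d, hxd⟩ := L₁_cj_el hz hh
    have h1 := K'.mul_mem (K'.mul_mem (K'.mul_mem hzc hxd) (K'.inv_mem hzc)) (K'.inv_mem hxd)
    have hnh : n * h * n⁻¹ = h := by
      rw [mul_inv_eq_iff_eq_mul]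
      refine ext_app fun y => ?_
      have hy : y = y (.inl 0) • ve F + y (.inr 0) • vf F + (y (.inl 1) • va F + y (.inr 1) • vb F) := by
        funext i
        rcases i with i | i <;> fin_cases i <;> simp [ve, vf, va, vb]
      have hWy : y (.inl 1) • va F + y (.inr 1) • vb F ∈ W (F := F) (m := 2) 1 :=
        add_mem (smul_va_mem _) (Submodule.smul_mem _ _ vb_mem)
      generalize y (.inl 1) • va F + y (.inr 1) • vb F = w at hy hWy
      rw [hy]
      simp only [app_mul, app_add, app_smul, hL.1, hL.2, hnLv.1, hnLv.2]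
      rw [hneg _ (Lv_W hL hWy), hneg _ hWy, ← neg_one_smul F w, app_smul, neg_one_smul]
    have hnd : n * el x d * n⁻¹ = el (-x) d := by rw [conj_el hnLv hx, hneg x hx]
    rw [show el 0 c * n * (el x d * h) * (el 0 c * n)⁻¹ * (el x d * h)⁻¹ =
      el 0 c * (n * el x d * n⁻¹) * (n * h * n⁻¹) * (el 0 c)⁻¹ * (h⁻¹ * (el x d)⁻¹) by group, hnh, hnd,
      show el 0 c * el (-x) d * h * (el 0 c)⁻¹ * (h⁻¹ * (el x d)⁻¹) =
        el 0 c * el (-x) d * (h * (el 0 c)⁻¹ * h⁻¹) * (el x d)⁻¹ by group,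
      el_inv (zero_mem _), conj_el hL (neg_mem (zero_mem _)), show app h (-0 : V) = 0 by rw [neg_zero]; exact mulVec_zero _,
      el_inv hx, el_mul (zero_mem _) (neg_mem hx), el_mul (add_mem (zero_mem _) (neg_mem hx)) (zero_mem _),
      el_mul (add_mem (add_mem (zero_mem _) (neg_mem hx)) (zero_mem _)) (neg_mem hx)] at h1
    have hx0 : x = 0 := by
      have := hA' _ ⟨add_mem (add_mem (add_mem (zero_mem _) (neg_mem hx)) (zero_mem _)) (neg_mem hx), _, h1⟩
      rw [zero_add, add_zero, ← two_smul F (-x), smul_eq_zero] at this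
      exact neg_eq_zero.1 (this.resolve_left h2)
    exact ⟨d, hx0 ▸ hxd⟩
  -- a torus element
  obtain ⟨s, hs0, hs2⟩ : ∃ s : F, s ≠ 0 ∧ s * s ≠ 1 := by
    by_contra hc
    push Not at hc
    have hsub : (Finset.univ : Finset F) ⊆ {0, 1, -1} := fun s _ => by
      by_cases h : s = 0
      · simp [h]
      · rcases mul_self_eq_one_iff.1 (hc s h) with h | h <;> simp [h]
    have := (Finset.card_le_card hsub).trans Finset.card_le_three
    rw [Finset.card_univ] at this
    omega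
  obtain ⟨t, htL, htLv, hta, -⟩ := exists_torus (hTL va_mem) (hTL vb_mem) hs0
  obtain ⟨d, hd⟩ := hlift t htL
  obtain ⟨g', hg'K, hg'L, s', hs', hs'2⟩ := exists_pure_pow htLv hd hta hs2
  exact hK'g.2 (va F) (by simp [va]) (finish hg'K hg'L hs' hs'2 fun u => hlift _ (hTL va_mem u))

/-- No subgroup of small index avoids all transvection groups. -/
theorem not_good_odd (h2 : (2 : F) ≠ 0) (hq : 5 ≤ q) (hodd : Odd q) : ¬ Good K := by
  intro hK
  by_cases hA : ∀ y ∈ Ab K, y = 0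
  · exact no_good_zero h2 hq hodd hK hA
  push Not at hA
  obtain ⟨y, hy, hy0⟩ := hA
  obtain ⟨h, hh, he⟩ := exists_Lv_move hy.1 va_mem hy0 (by simp [va])
  obtain ⟨hyW, d, hd⟩ := hy
  refine no_good_line h2 hq hodd (hK.cj h) ⟨va_mem, d, ?_⟩
  rw [← he, ← conj_el hh hyW]
  exact mem_cj' h hd

end CfsgLib.MinIndexSp.Four
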