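import Cfsg.Agent.Lib.MinIndexSp.FourBase
import Cfsg.Agent.Lib.RankOne.Restrict

/-!
`Sp(4, q)`: conjugation invariance and the elementary bounds.
-/

set_option autoImplicit false
set_option linter.unusedSectionVars false

namespace CfsgLib.MinIndexSp.Four

open Matrix Cfsg Module
open CfsgLib.Classical.SympTrans
open CfsgLib.Classical.SympStab (centres E app_E)

variable {F : Type*} [Field F] [Fintype F] [DecidableEq F]

local notation "V" => (Fin 2 ⊕ Fin 2 → F)
local notation "G" => Matrix.symplecticGroup (Fin 2) F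
local notation "ω" => sympForm 2 F
local notation "q" => Fintype.card F

/-- Small index and no transvection group. -/
def Good (K : Subgroup (Matrix.symplecticGroup (Fin 2) F)) : Prop :=
  K.index < (q + 1) * (q ^ 2 + 1) ∧ ∀ v : V, v ≠ 0 → v ∉ centres K

/-- The conjugate `g K g⁻¹`. -/
def cj (K : Subgroup (Matrix.symplecticGroup (Fin 2) F)) (g : Matrix.symplecticGroup (Fin 2) F) :
    Subgroup (Matrix.symplecticGroup (Fin 2) F) := K.map (MulAut.conj g).toMonoidHom

theorem mem_cj {K : Subgroup (Matrix.symplecticGroup (Fin 2) F)} {g x : Matrix.symplecticGroup (Fin 2) F} :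
    x ∈ cj K g ↔ g⁻¹ * x * g ∈ K := by
  rw [cj, Subgroup.mem_map_equiv, MulAut.conj_symm_apply]

theorem mem_cj' {K : Subgroup (Matrix.symplecticGroup (Fin 2) F)} {x : Matrix.symplecticGroup (Fin 2) F}
    (g : Matrix.symplecticGroup (Fin 2) F) (hx : x ∈ K) : g * x * g⁻¹ ∈ cj K g := by
  rw [mem_cj]; convert hx using 1; group

variable {K : Subgroup (Matrix.symplecticGroup (Fin 2) F)}

theorem Good.cj (hK : Good K) (g : Matrix.symplecticGroup (Fin 2) F) : Good (cj K g) := by
  refine ⟨?_, fun v hv hc => hK.2 (app g⁻¹ v) (app_ne_zero _ hv) fun c => ?_⟩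
  · rw [Four.cj, Subgroup.index_map_of_bijective (MulEquiv.bijective _)]; exact hK.1
  · rw [← conj_T, inv_inv]
    exact mem_cj.1 (hc c)

theorem Good.exists_notMem_Z₀ (hK : Good K) : ∃ c : F, c ∉ Z₀ K :=
  not_forall.1 (hK.2 (ve F) (by simp [ve]))

theorem va_mem : va F ∈ W (F := F) (m := 2) 1 := mem_W.2 (by simp [va])
theorem vb_mem : vb F ∈ W (F := F) (m := 2) 1 := mem_W.2 (by simp [vb])
theorem f_vb_va : ω (vb F) (va F) = 1 := by rw [f_va]; simp [vb]
theorem f_va_vb : ω (va F) (vb F) = -1 := by rw [f_vb]; simp [va]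

theorem smul_va_mem (t : F) : t • va F ∈ W (F := F) (m := 2) 1 := Submodule.smul_mem _ t va_mem

theorem va_smul_inj {s t : F} (h : s • va F = t • va F) : s = t := by
  simpa [va] using congrFun h (.inl 1)

theorem eq_smul_va {x : V} (hx : x ∈ W (F := F) (m := 2) 1) (h : ω x (va F) = 0) : x = x (.inl 1) • va F := by
  rw [f_va] at h
  conv_lhs => rw [decomp_W hx, h, zero_smul, add_zero]

theorem fix_va {h : G} (hh : h ∈ Lv F) (ha : app h (va F) = va F) :
    ∃ r : F, h = T (va F) r := by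
  set y := app h (vb F) with hy
  have hyW : y ∈ W (F := F) (m := 2) 1 := Lv_W hh vb_mem
  have h1 : y (.inr 1) = 1 := by
    rw [← f_va y, hy]
    conv_lhs => rw [← ha, f_app, f_vb_va]
  refine ⟨y (.inl 1), ext_app fun x => ?_⟩
  have hx : x = x (.inl 0) • ve F + x (.inr 0) • vf F + x (.inl 1) • va F + x (.inr 1) • vb F := by
    funext i
    rcases i with i | i <;> fin_cases i <;> simp [ve, vf, va, vb]
  have hyd : y = y (.inl 1) • va F + vb F := by
    conv_lhs => rw [decomp_W hyW, h1, one_smul]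
  rw [app_T, f_va]
  conv_lhs => rw [hx]
  simp only [app_add, app_smul, hh.1, hh.2, ha, ← hy]
  rw [hyd]
  conv_rhs => enter [1]; rw [hx]
  have : (y (.inl 1) • va F + vb F) (.inl 1) = y (.inl 1) := by simp [va, vb]
  rw [this]
  module

/-- A stable set bounds the Levi image. -/
theorem card_L₁_le (S : Set V) (hS : ∀ h ∈ L₁ K, app h (va F) ∈ S) :
    Nat.card (L₁ K) ≤ Nat.card S * Nat.card {r : F // T (va F) r ∈ L₁ K} := by
  classical
  let R : S → L₁ K := fun y => if hy : ∃ h : L₁ K, app (h : G) (va F) = y then hy.choose else 1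
  have hR : ∀ h : L₁ K, app (R ⟨_, hS h.1 h.2⟩ : G) (va F) = app (h : G) (va F) := fun h => by
    have hy : ∃ h' : L₁ K, app (h' : G) (va F) = (⟨_, hS h.1 h.2⟩ : S) := ⟨h, rfl⟩
    show app ((dite _ _ _ : L₁ K) : G) (va F) = _
    rw [dif_pos hy]
    exact hy.choose_spec
  have hfix : ∀ h : L₁ K, app (((R ⟨_, hS h.1 h.2⟩)⁻¹ * h : L₁ K) : G) (va F) = va F := fun h => by
    rw [Subgroup.coe_mul, Subgroup.coe_inv, app_mul]
    have := app_inv (R ⟨_, hS h.1 h.2⟩ : G) (va F)
    rw [hR h] at this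
    exact this
  choose r hr using fun h : L₁ K => fix_va (((R ⟨_, hS h.1 h.2⟩)⁻¹ * h : L₁ K).2.1) (hfix h)
  rw [← Nat.card_prod]
  refine Nat.card_le_card_of_injective
    (fun h => (⟨_, hS h.1 h.2⟩, ⟨r h, by rw [← hr h]; exact ((R ⟨_, hS h.1 h.2⟩)⁻¹ * h : L₁ K).2⟩)) fun h h' e => ?_
  have e1 : (⟨_, hS h.1 h.2⟩ : S) = ⟨_, hS h'.1 h'.2⟩ := congrArg Prod.fst e
  have e2 : r h = r h' := congrArg (fun p => (p.2 : {r : F // T (va F) r ∈ L₁ K}).1) e
  have e3 := hr h
  rw [e1, e2, ← hr h'] at e3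
  exact Subtype.ext (mul_left_cancel e3)

variable (K) in
/-- The parameters of the transvections at the second vector in the Levi image. -/
def X₀ : AddSubgroup F where
  carrier := {r | T (va F) r ∈ L₁ K}
  add_mem' {a b} ha hb := by
    show T (va F) (a + b) ∈ L₁ K
    rw [← T_mul]; exact (L₁ K).mul_mem ha hb
  zero_mem' := by show T (va F) 0 ∈ L₁ K; rw [T_zero]; exact (L₁ K).one_mem
  neg_mem' {a} ha := by
    show T (va F) (-a) ∈ L₁ K
    rw [show T (va F) (-a) = (T (va F) a)⁻¹ from (inv_eq_of_mul_eq_one_right (by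
      rw [T_mul, add_neg_cancel, T_zero])).symm]
    exact (L₁ K).inv_mem ha

theorem card_L₁_le' (S : Set V) (hS : ∀ h ∈ L₁ K, app h (va F) ∈ S) :
    Nat.card (L₁ K) ≤ Nat.card S * Nat.card (X₀ K) := card_L₁_le S hS

theorem card_addSubgroup_dichotomy (A : AddSubgroup F) : A = ⊤ ∨ 2 * Nat.card A ≤ q := by
  refine or_iff_not_imp_left.2 fun h => ?_
  rw [← Nat.card_eq_fintype_card, ← A.index_mul_card]
  refine Nat.mul_le_mul_right _ ?_
  have := AddSubgroup.index_ne_zero_of_finite (H := A)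
  have : A.index ≠ 1 := fun e => h (AddSubgroup.index_eq_one.1 e)
  omega

theorem card_addSubgroup_odd (hodd : Odd q) (A : AddSubgroup F) : A = ⊤ ∨ 3 * Nat.card A ≤ q := by
  refine or_iff_not_imp_left.2 fun h => ?_
  rw [← Nat.card_eq_fintype_card, ← A.index_mul_card]
  refine Nat.mul_le_mul_right _ ?_
  have := AddSubgroup.index_ne_zero_of_finite (H := A)
  have : A.index ≠ 1 := fun e => h (AddSubgroup.index_eq_one.1 e)
  have h2 : Odd A.index := by
    rw [← Nat.card_eq_fintype_card, ← A.index_mul_card] at hodd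
    exact Nat.Odd.of_mul_left hodd
  obtain ⟨k, hk⟩ := h2
  omega

/-- The squares of the eigenvalues move the cosets of the centre freely. -/
theorem card_sq_eig (hK : Good K) :
    (Nat.card ((Γ K).map (powMonoidHom 2)) + 1) * Nat.card (Z₀ K) ≤ q := by
  classical
  obtain ⟨c, hc⟩ := hK.exists_notMem_Z₀
  set S := (Γ K).map (powMonoidHom 2) with hS
  have hinv : ∀ σ ∈ S, ∀ z ∈ Z₀ K, ((σ : Fˣ) : F) * z ∈ Z₀ K := by
    rintro _ ⟨μ, hμ, rfl⟩ z hz
    have := Γ_scale K hμ hz
    simpa [pow_two] using this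
  have hout : ∀ σ ∈ S, ((σ : Fˣ) : F) * c ∉ Z₀ K := fun σ hσ h => hc (by
    have := hinv σ⁻¹ (S.inv_mem hσ) _ h
    rwa [← mul_assoc, Units.inv_mul, one_mul] at this)
  have hinj : Function.Injective fun o : Option S => (o.elim (0 : F ⧸ Z₀ K) fun σ => ((((σ.1 : Fˣ) : F) * c : F) : F ⧸ Z₀ K)) := by
    rintro (_ | σ) (_ | τ) e
    · rfl
    · exact absurd ((QuotientAddGroup.eq_zero_iff _).1 e.symm) (hout τ.1 τ.2)
    · exact absurd ((QuotientAddGroup.eq_zero_iff _).1 e) (hout σ.1 σ.2)
    · refine congrArg some (Subtype.ext ?_)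
      by_contra hne
      have h1 : ((σ.1 : Fˣ) : F) * c - ((τ.1 : Fˣ) : F) * c ∈ Z₀ K := (QuotientAddGroup.eq_iff_sub_mem).1 e
      set ρ := σ.1⁻¹ * τ.1 with hρ
      have hρS : ρ ∈ S := S.mul_mem (S.inv_mem σ.2) τ.2
      have h2 : (1 - (ρ : F)) * c ∈ Z₀ K := by
        have := hinv σ.1⁻¹ (S.inv_mem σ.2) _ h1
        convert this using 1
        rw [hρ, Units.val_mul, mul_sub, ← mul_assoc, ← mul_assoc, Units.inv_mul, one_mul]
        ring
      let f : Z₀ K → Z₀ K := fun z => ⟨(1 - (ρ : F)) * z, by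
        rw [sub_mul, one_mul]; exact (Z₀ K).sub_mem z.2 (hinv ρ hρS z.1 z.2)⟩
      have hne' : (1 : F) - (ρ : F) ≠ 0 := fun h0 => hne (by
        have : ρ = 1 := Units.ext (sub_eq_zero.1 h0).symm
        exact (inv_mul_eq_one.1 this))
      have hf : Function.Injective f := fun a b h =>
        Subtype.ext (mul_left_cancel₀ hne' (congrArg Subtype.val h))
      obtain ⟨z, hz⟩ := Finite.surjective_of_injective hf ⟨_, h2⟩
      exact hc (mul_left_cancel₀ hne' (congrArg Subtype.val hz) ▸ z.2)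
  have h1 := Nat.card_le_card_of_injective _ hinj
  rw [Finite.card_option] at h1
  refine le_trans (Nat.mul_le_mul_right _ h1) (le_of_eq ?_)
  rw [← AddSubgroup.card_eq_card_quotient_mul_card_addSubgroup, Nat.card_eq_fintype_card]

theorem card_eig_two (h2 : (2 : F) = 0) (hK : Good K) : Nat.card (Γ K) * Nat.card (Z₀ K) ≤ q - 1 := by
  have h := card_sq_eig hK
  rw [← Nat.card_congr ((Γ K).equivMapOfInjective (powMonoidHom 2) fun a b e => Units.ext (by
    have e' : (a : F) * a = (b : F) * b := by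
      have := congrArg Units.val e
      simpa [pow_two] using this
    exact sub_eq_zero.1 (mul_self_eq_zero.1 (show ((a : F) - b) * ((a : F) - b) = 0 by
      linear_combination e' + ((b : F) * b - a * b) * h2)))).toEquiv] at h
  have : 1 ≤ Nat.card (Z₀ K) := Nat.card_pos
  rw [add_mul, one_mul] at h
  omega

theorem card_eig_odd (h2 : (2 : F) ≠ 0) (hq : 5 ≤ q) (hodd : Odd q) (hK : Good K) :
    Nat.card (Γ K) * Nat.card (Z₀ K) ≤ 2 * q - 6 := by
  classical
  have h := card_sq_eig hK
  by_cases hZ : Nat.card (Z₀ K) = 1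
  · rw [hZ, mul_one]
    refine le_trans (Subgroup.card_le_card_group (Γ K)) ?_
    rw [Nat.card_units, Nat.card_eq_fintype_card]
    omega
  have h3 : 3 ≤ Nat.card (Z₀ K) := by
    have hdvd : Nat.card (Z₀ K) ∣ q := by
      rw [← Nat.card_eq_fintype_card]; exact AddSubgroup.card_addSubgroup_dvd_card _
    obtain ⟨k, hk⟩ := hodd.of_dvd_nat hdvd
    omega
  have hle : Nat.card (Γ K) ≤ 2 * Nat.card ((Γ K).map (powMonoidHom 2)) := by
    set f := (powMonoidHom 2 : Fˣ →* Fˣ).comp (Γ K).subtype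
    have hcard := f.ker.card_mul_index
    rw [Subgroup.index_ker] at hcard
    have hr : f.range = (Γ K).map (powMonoidHom 2) := by
      rw [MonoidHom.range_comp, Subgroup.range_subtype]
    rw [hr] at hcard
    rw [← hcard]
    refine Nat.mul_le_mul_right _ ?_
    let g : f.ker → ({1, -1} : Finset Fˣ) := fun x => ⟨(x.1 : Fˣ), by
      have h1 : ((x.1 : Fˣ) : F) * (x.1 : Fˣ) = 1 := by
        have := congrArg Units.val (show f x.1 = 1 from x.2)
        simpa [f, pow_two] using this
      rcases mul_self_eq_one_iff.1 h1 with h | h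
      · exact Finset.mem_insert.2 (Or.inl (Units.ext h))
      · exact Finset.mem_insert.2 (Or.inr (Finset.mem_singleton.2 (Units.ext (by rw [h]; simp))))⟩
    refine (Nat.card_le_card_of_injective g fun a b e =>
      Subtype.ext (Subtype.ext (congrArg (fun z : ({1, -1} : Finset Fˣ) => z.1) e))).trans ?_
    rw [Nat.card_eq_finsetCard]
    exact Finset.card_le_two
  calc Nat.card (Γ K) * Nat.card (Z₀ K) ≤ 2 * Nat.card ((Γ K).map (powMonoidHom 2)) * Nat.card (Z₀ K) :=
        Nat.mul_le_mul_right _ hle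
    _ ≤ 2 * q - 6 := by rw [add_mul, one_mul] at h; rw [mul_assoc]; omega

/-- Orthogonality for a non-trivial character. -/
theorem perp_card (χ : AddChar F ℂ) {a : F} (ha : χ a ≠ 1) (A : AddSubgroup V)
    (hA : ∀ x ∈ A, x ∈ W (F := F) (m := 2) 1) :
    Nat.card {x : (W 1 : Submodule F V) // ∀ y ∈ A, χ (ω (x : V) y) = 1} * Nat.card A = q ^ 2 := by
  classical
  have := Fintype.ofFinite (W 1 : Submodule F V)
  have := Fintype.ofFinite A
  have hW : Fintype.card (W 1 : Submodule F V) = q ^ 2 := by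
    let τ : (W 1 : Submodule F V) ≃ F × F :=
      { toFun := fun x => ((x : V) (.inl 1), (x : V) (.inr 1))
        invFun := fun z => ⟨z.1 • va F + z.2 • vb F, add_mem (smul_va_mem _) (Submodule.smul_mem _ _ vb_mem)⟩
        left_inv := fun x => Subtype.ext (decomp_W x.2).symm
        right_inv := fun z => by simp [va, vb] }
    rw [Fintype.card_congr τ, Fintype.card_prod, pow_two]
  let η : (W 1 : Submodule F V) → AddChar A ℂ := fun x =>
    { toFun := fun y => χ (ω (x : V) y)
      map_zero_eq_one' := by rw [ZeroMemClass.coe_zero, f_zero_right, AddChar.map_zero_eq_one]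
      map_add_eq_mul' := fun y z => by rw [AddMemClass.coe_add, f_add_right, AddChar.map_add_eq_mul] }
  let θ : A → AddChar (W 1 : Submodule F V) ℂ := fun y =>
    { toFun := fun x => χ (ω (x : V) y)
      map_zero_eq_one' := by rw [ZeroMemClass.coe_zero, f_zero_left, AddChar.map_zero_eq_one]
      map_add_eq_mul' := fun x z => by rw [Submodule.coe_add, f_add_left, AddChar.map_add_eq_mul] }
  have h1 : ∑ x, ∑ y, η x y = ∑ y, ∑ x, θ y x := Finset.sum_comm
  have hl : ∀ x, ∑ y, η x y = if (∀ y ∈ A, χ (ω (x : V) y) = 1) then (Fintype.card A : ℂ) else 0 := fun x => by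
    split_ifs with h
    · rw [Finset.sum_congr rfl fun y _ => (show η x y = 1 from h y y.2), Finset.sum_const, Finset.card_univ,
        nsmul_one]
    · refine AddChar.sum_eq_zero_iff_ne_zero.2 fun h0 => h fun y hy => ?_
      have := DFunLike.congr_fun h0 ⟨y, hy⟩
      rw [AddChar.zero_apply] at this
      exact this
  have hr : ∀ y : A, ∑ x, θ y x = if y = 0 then ((q ^ 2 : ℕ) : ℂ) else 0 := fun y => by
    split_ifs with h
    · subst h
      rw [Finset.sum_congr rfl fun x _ => (show θ 0 x = 1 by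
        show χ _ = 1; rw [ZeroMemClass.coe_zero, f_zero_right, AddChar.map_zero_eq_one]),
        Finset.sum_const, Finset.card_univ, nsmul_one, hW]
    · refine AddChar.sum_eq_zero_iff_ne_zero.2 fun h0 => ?_
      obtain ⟨w, hw, hwy⟩ := exists_f_ne (hA y.1 y.2) (fun e => h (Subtype.ext e))
      have := DFunLike.congr_fun h0 ⟨(a / ω w y.1) • w, Submodule.smul_mem _ _ hw⟩
      rw [AddChar.zero_apply] at this
      change χ (ω ((a / ω w y.1) • w) y.1) = 1 at this
      rw [f_smul_left, div_mul_cancel₀ _ (by rw [f_swap]; exact neg_ne_zero.2 hwy)] at this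
      exact ha this
  rw [Finset.sum_congr rfl fun x _ => hl x, Finset.sum_congr rfl fun y _ => hr y, Finset.sum_ite_eq' Finset.univ,
    if_pos (Finset.mem_univ _), ← Finset.sum_filter, Finset.sum_const, nsmul_eq_mul] at h1
  rw [Nat.card_eq_fintype_card, Nat.card_eq_fintype_card, Fintype.card_subtype]
  exact_mod_cast h1

/-- Conjugation by the radical keeps the data. -/
theorem Ab_cj_el {z : V} (hz : z ∈ W (F := F) (m := 2) 1) {x : V} (hx : x ∈ Ab K) : x ∈ Ab (cj K (el z 0)) := by
  obtain ⟨hxW, c, hc⟩ := hx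
  refine ⟨hxW, c + ω x z - ω z x, ?_⟩
  have := mem_cj' (el z 0) hc
  rw [el_inv hz, el_mul hz hxW, el_mul (add_mem hz hxW) (neg_mem hz), neg_zero] at this
  convert this using 2
  · abel
  · rw [← neg_one_smul F z, f_smul_left, f_add_right, f_self, f_swap z x]
    ring

theorem L₁_cj_el {z : V} (hz : z ∈ W (F := F) (m := 2) 1) {h : G} (hh : h ∈ L₁ K) : h ∈ L₁ (cj K (el z 0)) := by
  obtain ⟨hL, x, hx, c, hc⟩ := hh
  have := mem_cj' (el z 0) hc
  rw [el_inv hz, mul_assoc, mul_assoc, show h * el (-z) (-0) = el (app h (-z)) (-0) * h by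
    rw [← conj_el hL (neg_mem hz)]; group, ← mul_assoc, ← mul_assoc, el_mul hz hx,
    el_mul (add_mem hz hx) (Lv_W hL (neg_mem hz))] at this
  exact ⟨hL, _, add_mem (add_mem hz hx) (Lv_W hL (neg_mem hz)), _, this⟩

theorem T_pow (v : V) (c : F) : ∀ n : ℕ, (T v c) ^ n = T v ((n : F) * c) := by
  intro n
  induction n with
  | zero => rw [pow_zero, Nat.cast_zero, zero_mul, T_zero]
  | succ n ih => rw [pow_succ, ih, T_mul]; congr 1; push_cast; ring

theorem commute_Te {h : G} (hh : h ∈ Lv F) (c : F) : Commute (el 0 c : G) h := by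
  show el 0 c * h = h * el 0 c
  have e := conj_el hh (zero_mem _) c
  rw [show app h (0 : V) = 0 from mulVec_zero _, mul_inv_eq_iff_eq_mul] at e
  exact e.symm

theorem app_pow_eigen {h : G} {v : V} {s : F} (hs : app h v = s • v) : ∀ n : ℕ, app (h ^ n) v = (s ^ n) • v := by
  intro n
  induction n with
  | zero => rw [pow_zero, pow_zero, app_one, one_smul]
  | succ n ih => rw [pow_succ, app_mul, hs, app_smul, ih, smul_smul, pow_succ']

/-- A member with eigenvalue not one becomes free of translations after a conjugation. -/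
theorem exists_conj_pure {g : G} (hg : g ∈ L₁ K) {s : F} (hs : app g (va F) = s • va F) (hs1 : s ≠ 1) :
    ∃ z ∈ W (F := F) (m := 2) 1, ∃ c, el 0 c * g ∈ cj K (el z 0) := by
  obtain ⟨hL, x, hx, c, hc⟩ := hg
  let f : (W 1 : Submodule F V) → (W 1 : Submodule F V) := fun z =>
    ⟨app g z - z, sub_mem (Lv_W hL z.2) z.2⟩
  have hf : Function.Injective f := by
    intro z z' e
    have e' : app g z.1 - z.1 = app g z'.1 - z'.1 := congrArg Subtype.val e
    refine Subtype.ext (sub_eq_zero.1 ?_)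
    set w := z.1 - z'.1 with hw
    have hwg : app g w = w := by rw [hw, app_sub]; linear_combination (norm := abel) e'
    have hwW : w ∈ W (F := F) (m := 2) 1 := sub_mem z.2 z'.2
    have h0 : ω w (va F) = 0 := by
      have h := f_app g w (va F)
      rw [hwg, hs, f_smul_right] at h
      exact (mul_eq_zero.1 (show (s - 1) * ω w (va F) = 0 by linear_combination h)).resolve_left (sub_ne_zero.2 hs1)
    have hwa := eq_smul_va hwW h0
    rw [hwa, app_smul, hs, smul_smul] at hwg
    have h1 := va_smul_inj hwg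
    rw [hwa]
    have : w (.inl 1) = 0 := (mul_eq_zero.1 (show w (.inl 1) * (s - 1) = 0 by linear_combination h1)).resolve_right
      (sub_ne_zero.2 hs1)
    rw [this, zero_smul]
  obtain ⟨z, hz⟩ := Finite.surjective_of_injective hf ⟨x, hx⟩
  have hz' : app g z.1 - z.1 = x := congrArg Subtype.val hz
  have := mem_cj' (el z.1 0) hc
  rw [el_inv z.2, mul_assoc, mul_assoc, show g * el (-z.1) (-0) = el (app g (-z.1)) (-0) * g by
    rw [← conj_el hL (neg_mem z.2)]; group, ← mul_assoc, ← mul_assoc, el_mul z.2 hx,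
    el_mul (add_mem z.2 hx) (Lv_W hL (neg_mem z.2)), show z.1 + x + app g (-z.1) = 0 by
      rw [show app g (-z.1) = -app g z.1 by rw [← neg_one_smul F z.1, app_smul, neg_one_smul], ← hz']; abel] at this
  exact ⟨z.1, z.2, _, this⟩

theorem exists_pure_pow {g : G} (hL : g ∈ Lv F) {c : F} (hc : el 0 c * g ∈ K) {s : F}
    (hs : app g (va F) = s • va F) (hs2 : s * s ≠ 1) :
    ∃ g' ∈ K, g' ∈ Lv F ∧ ∃ s' : F, app g' (va F) = s' • va F ∧ s' * s' ≠ 1 := by
  obtain ⟨p, hp⟩ := CharP.exists F
  have hpp : p.Prime := (CharP.char_is_prime_or_zero F p).resolve_right fun h => by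
    subst h
    have := CharP.charP_to_charZero F
    exact not_finite F
  refine ⟨g ^ p, ?_, pow_mem hL p, s ^ p, app_pow_eigen hs p, fun h => hs2 ?_⟩
  · have := K.pow_mem hc p
    rwa [(commute_Te hL c).mul_pow, el_zero, T_pow, CharP.cast_eq_zero, zero_mul, T_zero, one_mul] at this
  · have := Fact.mk hpp
    rw [← mul_pow] at h
    refine sub_eq_zero.1 (eq_zero_of_pow_eq_zero (n := p) ?_)
    rw [sub_pow_char, one_pow, h, sub_self]

end CfsgLib.MinIndexSp.Four
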