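import Cfsg.Agent.Lib.Classical.SympParabolic
import Cfsg.Agent.Lib.Classical.SympStab

/-!
A subgroup of `Sp(2m, q)` preserving a non-zero totally isotropic subspace has index at least the
number of points.
-/

set_option autoImplicit false
set_option linter.unusedSectionVars false

namespace CfsgLib.MinIndexSp

open Matrix Cfsg Module
open CfsgLib.Classical.SympTrans (app card_symplectic)

variable {F : Type*} [Field F] [Fintype F] [DecidableEq F] {m : ℕ}

local notation "G" => Matrix.symplecticGroup (Fin m) F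

theorem iso_arith {q : ℕ} (hq : 1 < q) {k m : ℕ} (hk : k + 1 ≤ m) :
    q ^ ((k + 1) * (k + 1 + 1) / 2 + 2 * (k + 1) * (m - (k + 1))) *
        (q ^ ((m - (k + 1)) ^ 2) * ∏ i ∈ Finset.range (m - (k + 1)), (q ^ (2 * (i + 1)) - 1)) *
        (∏ i : Fin (k + 1), (q ^ (k + 1) - q ^ (i : ℕ))) * (q ^ (2 * m) - 1) ≤
      (q - 1) * (q ^ (m ^ 2) * ∏ i ∈ Finset.range m, (q ^ (2 * (i + 1)) - 1)) := by
  obtain ⟨j, rfl⟩ : ∃ j, m = j + (k + 1) := ⟨m - (k + 1), by omega⟩
  rw [Nat.add_sub_cancel]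
  have hGL : ∏ i : Fin (k + 1), (q ^ (k + 1) - q ^ (i : ℕ)) =
      q ^ ((k + 1) * k / 2) * ∏ i ∈ Finset.range (k + 1), (q ^ (i + 1) - 1) := by
    rw [Fin.prod_univ_eq_prod_range (fun i => q ^ (k + 1) - q ^ i) (k + 1),
      Finset.prod_congr rfl (g := fun i => q ^ i * (q ^ (k + 1 - i) - 1)) (fun i hi => by
        rw [Nat.mul_sub, mul_one, ← pow_add, Nat.add_sub_cancel' (Finset.mem_range.1 hi).le]),
      Finset.prod_mul_distrib, Finset.prod_pow_eq_pow_sum, Finset.sum_range_id, Nat.add_sub_cancel]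
    congr 1
    rw [← Finset.prod_range_reflect (fun i => q ^ (i + 1) - 1) (k + 1)]
    refine Finset.prod_congr rfl fun i hi => ?_
    have := Finset.mem_range.1 hi
    congr 2
    omega
  rw [hGL]
  have he : (k + 1) * (k + 1 + 1) / 2 + 2 * (k + 1) * j + j ^ 2 + (k + 1) * k / 2 = (j + (k + 1)) ^ 2 := by
    obtain ⟨a, ha⟩ := (Nat.even_mul_succ_self k)
    have e1 : (k + 1) * (k + 1 + 1) = 2 * (a + (k + 1)) := by
      have : (k + 1) * (k + 1 + 1) = k * (k + 1) + 2 * (k + 1) := by ring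
      omega
    have e2 : (k + 1) * k = 2 * a := by rw [mul_comm, ha]; omega
    rw [e1, e2, Nat.mul_div_cancel_left _ two_pos, Nat.mul_div_cancel_left _ two_pos]
    have : (j + (k + 1)) ^ 2 = j ^ 2 + 2 * (k + 1) * j + (k * (k + 1) + (k + 1)) := by ring
    omega
  have hmain : (∏ i ∈ Finset.range (k + 1), (q ^ (i + 1) - 1)) * (q ^ (2 * (j + (k + 1))) - 1) ≤
      (q - 1) * ∏ i ∈ Finset.range (k + 1), (q ^ (2 * (j + i + 1)) - 1) := by
    rw [Finset.prod_range_succ' (fun i => q ^ (i + 1) - 1), Finset.prod_range_succ (fun i => q ^ (2 * (j + i + 1)) - 1)]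
    simp only [zero_add, pow_one]
    rw [show j + (k + 1) = j + k + 1 by omega]
    calc (∏ i ∈ Finset.range k, (q ^ (i + 1 + 1) - 1)) * (q - 1) * (q ^ (2 * (j + k + 1)) - 1)
        = (q - 1) * ((∏ i ∈ Finset.range k, (q ^ (i + 1 + 1) - 1)) * (q ^ (2 * (j + k + 1)) - 1)) := by ring
      _ ≤ _ := Nat.mul_le_mul_left _ (Nat.mul_le_mul_right _ (Finset.prod_le_prod' fun i _ =>
          Nat.sub_le_sub_right (Nat.pow_le_pow_right (by omega) (by omega)) 1))
  rw [Finset.prod_range_add (fun i => q ^ (2 * (i + 1)) - 1) j (k + 1)]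
  calc _ = q ^ ((k + 1) * (k + 1 + 1) / 2 + 2 * (k + 1) * j + j ^ 2 + (k + 1) * k / 2) *
        (∏ i ∈ Finset.range j, (q ^ (2 * (i + 1)) - 1)) *
        ((∏ i ∈ Finset.range (k + 1), (q ^ (i + 1) - 1)) * (q ^ (2 * (j + (k + 1))) - 1)) := by
        simp only [pow_add]
        ring
    _ ≤ q ^ ((j + (k + 1)) ^ 2) * (∏ i ∈ Finset.range j, (q ^ (2 * (i + 1)) - 1)) *
        ((q - 1) * ∏ i ∈ Finset.range (k + 1), (q ^ (2 * (j + i + 1)) - 1)) := by
      rw [he]; exact Nat.mul_le_mul_left _ hmain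
    _ = _ := by ring

/-- The index of a subgroup preserving a totally isotropic subspace. -/
theorem index_of_isotropic (H : Subgroup (Matrix.symplecticGroup (Fin m) F))
    (U : Submodule F (Fin m ⊕ Fin m → F)) (hU0 : U ≠ ⊥)
    (hU : ∀ u ∈ U, ∀ v ∈ U, sympForm m F u v = 0) (hH : ∀ g ∈ H, ∀ w ∈ U, app g w ∈ U) :
    Fintype.card F ^ (2 * m) - 1 ≤ (Fintype.card F - 1) * H.index := by
  obtain ⟨k, hk⟩ : ∃ k, finrank F U = k + 1 := ⟨finrank F U - 1, by
    have := Submodule.one_le_finrank_iff.2 hU0; omega⟩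
  have hkm : k + 1 ≤ m := by
    let B : LinearMap.BilinForm F (Fin m ⊕ Fin m → F) :=
      LinearMap.mk₂ F (sympForm m F) Classical.SympTrans.f_add_left Classical.SympTrans.f_smul_left
        Classical.SympTrans.f_add_right Classical.SympTrans.f_smul_right
    have hr : LinearMap.IsRefl B := fun a b h => by
      show sympForm m F b a = 0
      rw [Classical.SympTrans.f_swap, show sympForm m F a b = 0 from h, neg_zero]
    have hle : U ≤ B.orthogonal U := fun u hu w hw => hU w hw u hu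
    have h1 := B.finrank_orthogonal
      ((hr.nondegenerate_iff_separatingLeft).2 fun a ha => Classical.SympTrans.eq_zero_of_f a ha) U
    have h2 := Submodule.finrank_mono hle
    rw [Module.finrank_pi, Fintype.card_sum, Fintype.card_fin] at h1
    omega
  have hle : H ≤ stabilizing (spToMat m F) (U : Set (Fin m ⊕ Fin m → F)) := fun g hg v =>
    Classical.SympStab.stab_iff (hH g hg) v
  have h1 : Nat.card H * H.index = Nat.card G := H.card_mul_index
  have h2 := Subgroup.card_le_of_le hle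
  rw [Classical.SympParabolic.card_stabilizer rfl hkm U hk hU] at h2
  rw [card_symplectic, Nat.card_eq_fintype_card (α := F)] at h1
  have h3 := iso_arith (q := Fintype.card F) Fintype.one_lt_card hkm
  have hpos : 0 < Nat.card H := Nat.card_pos
  refine Nat.le_of_mul_le_mul_left ?_ hpos
  calc Nat.card H * (Fintype.card F ^ (2 * m) - 1) ≤ _ := Nat.mul_le_mul_right _ h2
    _ ≤ _ := h3
    _ = Nat.card H * ((Fintype.card F - 1) * H.index) := by rw [← h1]; ring

end CfsgLib.MinIndexSp
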