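import Cfsg.Agent.Lib.MinIndexSp.FourEven
import Cfsg.Agent.Lib.MinIndexSp.Fixed
import Cfsg.Agent.Lib.MinIndexSp.Closure
import Cfsg.Agent.Lib.ClassicalAut.Sp4Graph

/-!
The least index of a proper subgroup of `Sp(2m, q)`, `q ≥ 3`.
-/

set_option autoImplicit false
set_option linter.unusedSectionVars false

namespace CfsgLib.MinIndexSp

open Matrix Cfsg Module
open CfsgLib.Classical.SympTrans
open CfsgLib.Classical.SympStab (centres)

variable {F : Type*} [Field F] [Fintype F] [DecidableEq F]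

local notation "q" => Fintype.card F

namespace Four

open CfsgLib.ClassicalAut.Sp4

theorem tauHom_longElt [CharP F 2] (t : F) :
    tauHom (longElt t) = (el (t • va F) 0 : Matrix.symplecticGroup (Fin 2) F) := by
  refine ext_app fun y => ?_
  rw [app_el (smul_va_mem t)]
  show tauMat (long t) *ᵥ y = _
  rw [tau_long, f_smul_right, f_va, f_ve]
  funext i
  rcases i with i | i <;> fin_cases i <;>
    simp [add_mulVec, Matrix.mulVec, dotProduct, Matrix.single_apply, Matrix.one_apply, ve, va] <;> ring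

theorem longElt_eq_T [CharP F 2] (c : F) : longElt c = (T (ve F) c : Matrix.symplecticGroup (Fin 2) F) := by
  refine ext_app fun y => ?_
  rw [app_T, f_ve]
  show long c *ᵥ y = _
  funext i
  rcases i with i | i <;> fin_cases i <;>
    simp [long, add_mulVec, Matrix.mulVec, dotProduct, Matrix.single_apply, Matrix.one_apply, ve]

theorem centre_of_short [CharP F 2] {K : Subgroup (Matrix.symplecticGroup (Fin 2) F)} (hK : Short K) :
    ∃ v : Fin 2 ⊕ Fin 2 → F, v ≠ 0 ∧ v ∈ centres (K.map (tauEquiv F).toMonoidHom) := by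
  obtain ⟨g, hg⟩ := hK
  refine ⟨app (tauHom g) (ve F), app_ne_zero _ (by simp [ve]), fun c => ?_⟩
  obtain ⟨t, ht⟩ := exists_sqrt (CharTwo.two_eq_zero (R := F)) c
  refine ⟨_, hg t, ?_⟩
  show tauHom (g * el (t • va F) 0 * g⁻¹) = _
  rw [← tauHom_longElt, map_mul, map_mul, map_inv, ← conj_T,
    show tauHom (tauHom (longElt t)) = (longElt c : Matrix.symplecticGroup (Fin 2) F) from Subtype.ext (by
      show tauMat (tauMat (long t)) = long c
      rw [tau_tau_long, sq, ht]),
    longElt_eq_T]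

end Four

theorem pow_four_sub_one : q ^ (2 * 2) - 1 = (q - 1) * ((q + 1) * (q ^ 2 + 1)) := by
  obtain ⟨r, hr⟩ : ∃ r, q = r + 1 := ⟨q - 1, by have := Fintype.one_lt_card (α := F); omega⟩
  rw [hr, Nat.add_sub_cancel, Nat.sub_eq_iff_eq_add (Nat.one_le_pow _ _ (Nat.add_pos_right r Nat.one_pos))]
  ring

theorem odd_card (h2 : (2 : F) ≠ 0) : Odd q := by
  rw [Nat.odd_iff]
  exact FiniteField.odd_card_of_char_ne_two fun h => h2 (by
    haveI : CharP F 2 := ringChar.eq_iff.1 h
    exact CharTwo.two_eq_zero)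

theorem index_lower_two (hq : 4 ≤ q) {K : Subgroup (Matrix.symplecticGroup (Fin 2) F)} (hK : K ≠ ⊤) :
    q ^ (2 * 2) - 1 ≤ (q - 1) * K.index := by
  by_contra hlt
  have hd : K.index < (q + 1) * (q ^ 2 + 1) := by
    rw [not_le, pow_four_sub_one] at hlt
    exact Nat.lt_of_mul_lt_mul_left hlt
  have hno : ∀ L : Subgroup (Matrix.symplecticGroup (Fin 2) F), L.index = K.index →
      ∀ v : Fin 2 ⊕ Fin 2 → F, v ≠ 0 → v ∉ centres L := fun L hL v hv hvL => by
    refine hlt (hL ▸ index_of_centre L (by omega) (fun e => hK ?_) hv hvL)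
    exact Subgroup.index_eq_one.1 (hL.symm.trans (Subgroup.index_eq_one.2 e))
  by_cases h2 : (2 : F) = 0
  · haveI : CharP F 2 := (CharP.charP_iff_prime_eq_zero Nat.prime_two).2 (by exact_mod_cast h2)
    refine Four.not_good_even h2 hq (K := K) ⟨⟨hd, hno K rfl⟩, fun hs => ?_⟩
    obtain ⟨v, hv, hvL⟩ := Four.centre_of_short hs
    exact hno _ (Subgroup.index_map_equiv _ (ClassicalAut.Sp4.tauEquiv F)) v hv hvL
  · have hodd := odd_card h2
    refine Four.not_good_odd h2 ?_ hodd (K := K) ⟨hd, hno K rfl⟩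
    obtain ⟨r, hr⟩ := hodd
    omega

theorem index_lower {m : ℕ} (hm : 2 ≤ m) (hq : 3 ≤ q) (hexc : ¬ (m = 2 ∧ q = 3))
    {K : Subgroup (Matrix.symplecticGroup (Fin m) F)} (hK : K ≠ ⊤) :
    q ^ (2 * m) - 1 ≤ (q - 1) * K.index := by
  rcases eq_or_lt_of_le hm with rfl | hm3
  · exact index_lower_two (by omega) hK
  by_contra hlt
  obtain ⟨v, hv, hvK⟩ := exists_centre K hm3 hK ⟨fun _ => not_le.1 hlt, fun h => absurd h (by omega)⟩
  exact hlt (index_of_centre K hq hK hv hvK)

variable {m : ℕ}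

theorem center_le_stabilizing (e : Fin m ⊕ Fin m → F) :
    Subgroup.center (Matrix.symplecticGroup (Fin m) F) ≤
      stabilizing (spToMat m F) (Submodule.span F {e} : Set (Fin m ⊕ Fin m → F)) := by
  intro z hz v
  refine Classical.SympStab.stab_iff (W := Submodule.span F {e}) (g := z) ?_ v
  intro w hw
  by_cases hw0 : w = 0
  · rw [hw0]
    show app z 0 ∈ _
    rw [show app z (0 : Fin m ⊕ Fin m → F) = 0 from mulVec_zero _]
    exact zero_mem _
  obtain ⟨x, -, hx⟩ := exists_f_ne (mem_W_zero w) hw0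
  have hx' : sympForm m F x w ≠ 0 := fun h => hx (by rw [f_swap, h, neg_zero])
  have he : app (T (app z w) (1 : F)) x = app (T w 1) x := by
    rw [← conj_T, (Subgroup.mem_center_iff.1 hz (T w 1)).symm, mul_inv_cancel_right]
  rw [app_T, app_T, one_mul, one_mul, add_right_inj] at he
  by_cases h0 : sympForm m F x (app z w) = 0
  · rw [h0, zero_smul] at he
    exact absurd ((smul_eq_zero.1 he.symm).resolve_left hx') hw0
  have hz' : app z w = ((sympForm m F x (app z w))⁻¹ * sympForm m F x w) • w := by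
    rw [mul_smul, ← he, smul_smul, inv_mul_cancel₀ h0, one_smul]
  rw [hz']
  exact Submodule.smul_mem _ _ hw

theorem exists_index_line (hm : 1 ≤ m) :
    ∃ K : Subgroup (Matrix.symplecticGroup (Fin m) F),
      Subgroup.center (Matrix.symplecticGroup (Fin m) F) ≤ K ∧ (q - 1) * K.index = q ^ (2 * m) - 1 := by
  classical
  set e : Fin m ⊕ Fin m → F := Pi.single (.inl ⟨0, hm⟩) 1 with he
  have he0 : e ≠ 0 := by simp [he]
  refine ⟨stabilizing (spToMat m F) (Submodule.span F {e} : Set (Fin m ⊕ Fin m → F)), center_le_stabilizing e, ?_⟩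
  have hiso : ∀ u ∈ Submodule.span F {e}, ∀ v ∈ Submodule.span F {e}, sympForm m F u v = 0 := by
    intro u hu v hv
    obtain ⟨a, rfl⟩ := Submodule.mem_span_singleton.1 hu
    obtain ⟨b, rfl⟩ := Submodule.mem_span_singleton.1 hv
    rw [f_smul_left, f_smul_right, f_self, mul_zero, mul_zero]
  have hc := Subgroup.card_mul_index (stabilizing (spToMat m F) (Submodule.span F {e} : Set (Fin m ⊕ Fin m → F)))
  rw [Classical.SympParabolic.card_stabilizer (k := 1) (rfl : Fintype.card F = _) hm (Submodule.span F {e})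
    (finrank_span_singleton (K := F) (v := e) he0) hiso, card_symplectic,
    Nat.card_eq_fintype_card (α := F)] at hc
  obtain ⟨j, rfl⟩ : ∃ j, m = j + 1 := ⟨m - 1, by omega⟩
  simp only [Nat.add_sub_cancel, Finset.univ_unique, Fin.default_eq_zero, Fin.val_zero, Finset.prod_singleton,
    pow_one, pow_zero, Finset.prod_range_succ _ j] at hc
  have hq1 : 1 < q := Fintype.one_lt_card
  have hpos : 0 < q ^ ((j + 1) ^ 2) * ∏ i ∈ Finset.range j, (q ^ (2 * (i + 1)) - 1) :=
    Nat.mul_pos (pow_pos (by omega) _) (Finset.prod_pos fun i _ => Nat.sub_pos_of_lt (Nat.one_lt_pow (by omega) hq1))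
  refine Nat.eq_of_mul_eq_mul_left hpos ?_
  rw [mul_assoc (q ^ ((j + 1) ^ 2)) _ (q ^ (2 * (j + 1)) - 1), ← hc]
  rw [show (j + 1) ^ 2 = 1 * (1 + 1) / 2 + 2 * 1 * j + j ^ 2 by norm_num; ring]
  ring

end CfsgLib.MinIndexSp
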