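import Cfsg.Agent.Lib.MinIndexSp.Forms

/-!
An additive set of quadratic functions without common zero: it has a member of rank at least three,
or, in characteristic two, all members are `a M² + M l + b l²` for one `l`, and then it has many
images.
-/

set_option autoImplicit false
set_option linter.unusedSectionVars false

namespace CfsgLib.MinIndexSp

open Module Matrix

variable {F : Type*} [Field F]

section Det

variable [Finite F] {V : Type*} [AddCommGroup V] [Module F V] [FiniteDimensional F V]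

/-- Half the discriminant at three vectors. -/
def disc3 (Q : V → F) (x y z : V) : F :=
  4 * Q x * Q y * Q z + pB Q y z * pB Q x z * pB Q x y
    - Q x * (pB Q y z * pB Q y z) - Q y * (pB Q x z * pB Q x z) - Q z * (pB Q x y * pB Q x y)

theorem big_of_disc3 {Q : V → F} (h : QF Q) {x y z : V} (hD : disc3 Q x y z ≠ 0) : Big h := by
  have key : ∀ α β γ : F, α • x + β • y + γ • z ∈ rad h → α = 0 ∧ β = 0 ∧ γ = 0 := by
    intro α β γ hmem
    have e1 := hmem.2 x
    have e2 := hmem.2 y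
    have e3 := hmem.2 z
    have e0 := hmem.1
    simp only [h.add_left, h.smul_left, h.self, pB_comm Q y x, pB_comm Q z x, pB_comm Q z y] at e1 e2 e3
    rw [q_add Q, q_add Q, h.smul, h.smul, h.smul, h.add_left, h.smul_left, h.smul_left, h.smul_left,
      h.smul_right, h.smul_right, h.smul_right] at e0
    set a := Q x
    set b := Q y
    set c := Q z
    set d := pB Q y z with hd
    set e := pB Q x z
    set f := pB Q x y
    have hD' : 4 * a * b * c + d * e * f - a * (d * d) - b * (e * e) - c * (f * f) ≠ 0 := hD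
    by_cases h2 : (2 : F) = 0
    · have hz : ∀ {u v w : F}, (4 * a * b * c + d * e * f - a * (d * d) - b * (e * e) - c * (f * f)) * (u * u) = 0 → u = 0 :=
        fun {u v w} he => mul_self_eq_zero.1 ((mul_eq_zero.1 he).resolve_left hD')
      refine ⟨hz (v := 0) (w := 0) ?_, hz (v := 0) (w := 0) ?_, hz (v := 0) (w := 0) ?_⟩
      · linear_combination (-(d * d)) * e0 + (b * (d * β - e * α) + f * d * α + d * d * γ) * e3
          + c * (d * γ - f * α) * e2
          + (2 * a * b * c * α * α - c * γ * (b * (d * β - e * α) + f * d * α + d * d * γ)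
            - b * β * (c * (d * γ - f * α))) * h2
      · linear_combination (-(e * e)) * e0 + (a * (e * α - d * β) + f * e * β + e * e * γ) * e3
          + c * (e * γ - f * β) * e1
          + (2 * a * b * c * β * β - c * γ * (a * (e * α - d * β) + f * e * β + e * e * γ)
            - a * α * (c * (e * γ - f * β))) * h2
      · linear_combination (-(f * f)) * e0 + (b * (f * β - e * γ) + d * f * γ + f * f * α) * e1
          + a * (f * α - d * γ) * e2
          + (2 * a * b * c * γ * γ - a * α * (b * (f * β - e * γ) + d * f * γ + f * f * α)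
            - b * β * (a * (f * α - d * γ))) * h2
    · have hz : ∀ {u : F}, 2 * (4 * a * b * c + d * e * f - a * (d * d) - b * (e * e) - c * (f * f)) * u = 0 → u = 0 :=
        fun {u} he => (mul_eq_zero.1 he).resolve_left (mul_ne_zero h2 hD')
      exact ⟨hz (by linear_combination (4 * b * c - d * d) * e1 + (d * e - 2 * c * f) * e2 + (d * f - 2 * b * e) * e3),
        hz (by linear_combination (d * e - 2 * c * f) * e1 + (4 * a * c - e * e) * e2 + (e * f - 2 * a * d) * e3),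
        hz (by linear_combination (d * f - 2 * b * e) * e1 + (e * f - 2 * a * d) * e2 + (4 * a * b - f * f) * e3)⟩
  let L : (Fin 3 → F) →ₗ[F] V :=
    (LinearMap.proj 0).smulRight x + (LinearMap.proj 1).smulRight y + (LinearMap.proj 2).smulRight z
  have hL : ∀ t, L t = t 0 • x + t 1 • y + t 2 • z := fun t => rfl
  have hinj : Function.Injective L := by
    rw [← LinearMap.ker_eq_bot, LinearMap.ker_eq_bot']
    intro t ht
    obtain ⟨h0, h1, h2⟩ := key (t 0) (t 1) (t 2) (by rw [← hL, ht]; exact zero_mem _)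
    funext i; fin_cases i <;> assumption
  have hdis : LinearMap.range L ⊓ rad h = ⊥ := by
    rw [Submodule.eq_bot_iff]
    rintro _ ⟨⟨t, rfl⟩, ht⟩
    obtain ⟨h0, h1, h2⟩ := key (t 0) (t 1) (t 2) (by rw [← hL]; exact ht)
    rw [hL, h0, h1, h2]; simp
  have e := Submodule.finrank_sup_add_finrank_inf_eq (LinearMap.range L) (rad h)
  rw [hdis, finrank_bot, LinearMap.finrank_range_of_inj hinj, Module.finrank_fin_fun, add_zero] at e
  have := Submodule.finrank_le (LinearMap.range L ⊔ rad h)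
  unfold Big
  omega

end Det

section Star

variable [Fintype F] [DecidableEq F] {m : ℕ}

local notation "V" => (Fin m → F)

/-- All elements are `a₀ M² + M l + b l²`. -/
def Form (U : Finset (V → F)) (a₀ : F) (l : V →ₗ[F] F) : Prop :=
  ∀ ψ ∈ U, ∃ (M : V →ₗ[F] F) (b : F), ∀ x, ψ x = a₀ * (M x * M x) + M x * l x + b * (l x * l x)

theorem form_pol {a₀ b : F} {l M : V →ₗ[F] F} (h2 : (2 : F) = 0) {ψ : V → F}
    (hψ : ∀ x, ψ x = a₀ * (M x * M x) + M x * l x + b * (l x * l x)) (x y : V) :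
    pB ψ x y = M x * l y + M y * l x := by
  rw [pB, hψ, hψ, hψ, map_add, map_add]
  linear_combination (a₀ * M x * M y + b * l x * l y) * h2

theorem form_unique (hm : 3 ≤ m) (h2 : (2 : F) = 0) {U : Finset (V → F)} {a₀ : F} (ha₀ : a₀ ≠ 0)
    (hzero : ∀ v : V, v ≠ 0 → ∃ ψ ∈ U, ψ v ≠ 0) {l l' : V →ₗ[F] F} (hl : l ≠ 0)
    (hf : Form U a₀ l) (hf' : Form U a₀ l') : l' = l := by
  obtain ⟨z, hz⟩ : ∃ z, l z = 1 := by
    obtain ⟨z, hz⟩ : ∃ z, l z ≠ 0 := by
      by_contra hc
      push Not at hc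
      exact hl (LinearMap.ext hc)
    exact ⟨(l z)⁻¹ • z, by rw [map_smul, smul_eq_mul, inv_mul_cancel₀ hz]⟩
  have hker : 2 ≤ finrank F (LinearMap.ker l) := by
    have h1 := l.finrank_range_add_finrank_ker
    have h3 := Submodule.finrank_le (LinearMap.range l)
    rw [Module.finrank_self] at h3
    rw [Module.finrank_fin_fun] at h1
    omega
  have hsq : ∀ {a b : F}, a * a = b * b → a = b := fun {a b} h => sub_eq_zero.1 (mul_self_eq_zero.1 (show (a - b) * (a - b) = 0 by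
    linear_combination h + (b * b - a * b) * h2))
  have hl'0 : ∀ y, l y = 0 → l' y = 0 := by
    by_contra hc
    push Not at hc
    obtain ⟨y, hy, hy'⟩ := hc
    obtain ⟨w, hw, hw0⟩ : ∃ w, (l w = 0 ∧ l' w = 0) ∧ w ≠ 0 := by
      let g : LinearMap.ker l →ₗ[F] F := l'.comp (LinearMap.ker l).subtype
      have h1 := g.finrank_range_add_finrank_ker
      have h3 := Submodule.finrank_le (LinearMap.range g)
      rw [Module.finrank_self] at h3
      obtain ⟨w, hw, hw0⟩ := Submodule.exists_mem_ne_zero_of_ne_bot (p := LinearMap.ker g)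
        (fun e => by rw [e, finrank_bot] at h1; omega)
      exact ⟨w, ⟨LinearMap.mem_ker.1 w.2, LinearMap.mem_ker.1 hw⟩, fun e => hw0 (Subtype.ext e)⟩
    obtain ⟨ψ, hψ, hψw⟩ := hzero w hw0
    obtain ⟨M, b, hM⟩ := hf ψ hψ
    obtain ⟨M', b', hM'⟩ := hf' ψ hψ
    refine hψw ?_
    have e := (form_pol h2 hM w y).symm.trans (form_pol h2 hM' w y)
    rw [hy, hw.1, hw.2, mul_zero, mul_zero, mul_zero, add_zero, add_zero, eq_comm, mul_eq_zero] at e
    rw [hM', e.resolve_right hy', hw.2]; ring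
  set c := l' z
  have hlc : ∀ x, l' x = l x * c := fun x => by
    have h3 := hl'0 (x - l x • z) (by rw [map_sub, map_smul, hz, smul_eq_mul, mul_one, sub_self])
    rw [map_sub, map_smul, smul_eq_mul, sub_eq_zero] at h3
    exact h3
  obtain ⟨w, hw, hw0⟩ := Submodule.exists_mem_ne_zero_of_ne_bot (p := LinearMap.ker l)
    (fun e => by rw [e, finrank_bot] at hker; omega)
  obtain ⟨ψ, hψ, hψw⟩ := hzero w hw0
  obtain ⟨M, b, hM⟩ := hf ψ hψ
  obtain ⟨M', b', hM'⟩ := hf' ψ hψ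
  have hlw : l w = 0 := LinearMap.mem_ker.1 hw
  have hMw : M w ≠ 0 := fun e => hψw (by rw [hM, e, hlw]; ring)
  have e1 : M w = M' w := hsq (mul_left_cancel₀ ha₀ (by
    have := (hM w).symm.trans (hM' w)
    rw [hlc w, hlw] at this
    linear_combination this))
  have e2 := (form_pol h2 hM w z).symm.trans (form_pol h2 hM' w z)
  rw [hlc w, hlw, hz, hlc z, hz, ← e1] at e2
  have hc1 : c = 1 := mul_left_cancel₀ hMw (by linear_combination -e2)
  exact LinearMap.ext fun x => by rw [hlc, hc1, mul_one]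

/-- A member of rank three, or the common shape. -/
theorem big_or_form (hm : 3 ≤ m) (U : Finset (V → F)) (hadd : ∀ φ ∈ U, ∀ ψ ∈ U, (fun x => φ x + ψ x) ∈ U)
    (hQF : ∀ φ ∈ U, QF φ) (hzero : ∀ v : V, v ≠ 0 → ∃ ψ ∈ U, ψ v ≠ 0)
    (hpol : (2 : F) = 0 → ∃ φ ∈ U, ∃ x y, pB φ x y ≠ 0) :
    (∃ ψ ∈ U, ∃ h : QF ψ, Big h) ∨
    ((2 : F) = 0 ∧ ∃ (a₀ : F) (l : V →ₗ[F] F), a₀ ≠ 0 ∧ l ≠ 0 ∧ Form U a₀ l) := by
  by_cases hbig : ∃ ψ ∈ U, ∃ h : QF ψ, Big h
  · exact Or.inl hbig
  push Not at hbig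
  have hD : ∀ ψ ∈ U, ∀ x y z, disc3 ψ x y z = 0 := fun ψ hψ x y z => by
    by_contra hc
    exact hbig ψ hψ (hQF ψ hψ) (big_of_disc3 _ hc)
  have hradne : ∀ φ (hφ : φ ∈ U), ∃ v ∈ rad (hQF φ hφ), v ≠ 0 := fun φ hφ => by
    refine Submodule.exists_mem_ne_zero_of_ne_bot fun e => hbig φ hφ (hQF φ hφ) ?_
    unfold Big
    rw [e, finrank_bot, Module.finrank_fin_fun]; omega
  have hsum : ∀ φ ψ : V → F, ∀ x y, pB (fun x => φ x + ψ x) x y = pB φ x y + pB ψ x y := fun φ ψ x y => by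
    simp only [pB]; ring
  by_cases h2 : (2 : F) = 0
  swap
  · -- odd characteristic
    exfalso
    obtain ⟨φ₀, hφ₀, e, f, hd⟩ : ∃ φ ∈ U, ∃ x y, pB φ x y * pB φ x y - 4 * φ x * φ y ≠ 0 := by
      by_contra hc
      push Not at hc
      obtain ⟨φ, hφ, hφe⟩ := hzero (Pi.single ⟨0, by omega⟩ 1) (by simp)
      set e : V := Pi.single ⟨0, by omega⟩ 1
      obtain ⟨v, hv, hv0⟩ := hradne φ hφ
      obtain ⟨ψ, hψ, hψv⟩ := hzero v hv0
      have e1 := hc _ (hadd φ hφ ψ hψ) e v
      have e2 := hc ψ hψ e v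
      rw [hsum, pB_comm φ, hv.2, hv.1] at e1
      have h4 : (4 : F) * φ e * ψ v = 0 := by linear_combination e2 - e1
      exact mul_ne_zero (mul_ne_zero (show (4 : F) ≠ 0 by
        rw [show (4 : F) = 2 * 2 by norm_num]; exact mul_ne_zero h2 h2) hφe) hψv h4
    obtain ⟨v, hv, hv0⟩ := hradne φ₀ hφ₀
    obtain ⟨ψ, hψ, hψv⟩ := hzero v hv0
    have q0 := hD ψ hψ e f v
    have q1 := hD _ (hadd φ₀ hφ₀ ψ hψ) e f v
    have q2 := hD _ (hadd φ₀ hφ₀ _ (hadd φ₀ hφ₀ ψ hψ)) e f v
    have hfv : pB φ₀ f v = 0 := by rw [pB_comm]; exact hv.2 f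
    have hev : pB φ₀ e v = 0 := by rw [pB_comm]; exact hv.2 e
    simp only [disc3, hsum, hfv, hev, hv.1, zero_add] at q0 q1 q2
    have key : 2 * ψ v * (pB φ₀ e f * pB φ₀ e f - 4 * φ₀ e * φ₀ f) = 0 := by
      linear_combination (-1 : F) * q2 + 2 * q1 - q0
    exact mul_ne_zero (mul_ne_zero h2 hψv) hd key
  · -- characteristic two
    refine Or.inr ⟨h2, ?_⟩
    have hneg : ∀ x : F, -x = x := fun x => by linear_combination -x * h2
    obtain ⟨φ₀, hφ₀, x₁, y₁, hxy⟩ := hpol h2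
    have hq₀ := hQF φ₀ hφ₀
    set R := radB hq₀
    -- the plane
    obtain ⟨e₀, f₀, hef, he₀⟩ : ∃ e f, pB φ₀ e f = 1 ∧ φ₀ e ≠ 0 := by
      have hoff : finrank F (rad hq₀) + 2 ≤ finrank F V := by
        by_contra hc
        push Not at hc
        have hle : finrank F (radB hq₀) + 2 ≤ finrank F V := by
          let g : V →ₗ[F] (Fin 2 → F) :=
            { toFun := fun z => ![pB φ₀ z x₁, pB φ₀ z y₁]
              map_add' := fun a b => by ext i; fin_cases i <;> simp [hq₀.add_left]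
              map_smul' := fun c a => by ext i; fin_cases i <;> simp [hq₀.smul_left] }
          have hs : Function.Surjective g := fun t => ⟨(t 1 / pB φ₀ x₁ y₁) • x₁ + (t 0 / pB φ₀ y₁ x₁) • y₁, by
            ext i; fin_cases i
            · show pB φ₀ _ x₁ = _
              rw [hq₀.add_left, hq₀.smul_left, hq₀.smul_left, hq₀.self, h2,
                div_mul_cancel₀ _ (by rwa [pB_comm])]
              simp
            · show pB φ₀ _ y₁ = _
              rw [hq₀.add_left, hq₀.smul_left, hq₀.smul_left, hq₀.self, h2, div_mul_cancel₀ _ hxy]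
              simp⟩
          have h1 := g.finrank_range_add_finrank_ker
          rw [LinearMap.range_eq_top.2 hs, finrank_top, Module.finrank_fin_fun, Module.finrank_fin_fun] at h1
          have hle : radB hq₀ ≤ LinearMap.ker g := fun z hz => by
            rw [LinearMap.mem_ker]
            show ![pB φ₀ z x₁, pB φ₀ z y₁] = 0
            rw [hz, hz]; ext i; fin_cases i <;> rfl
          have := Submodule.finrank_mono hle
          rw [Module.finrank_fin_fun]
          omega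
        have := Submodule.finrank_mono (rad_le_radB hq₀)
        omega
      obtain ⟨e, he, heR⟩ := exists_off hq₀ hoff
      obtain ⟨f, hf⟩ : ∃ f, pB φ₀ e f ≠ 0 := by
        by_contra hc
        push Not at hc
        exact heR hc
      exact ⟨e, (pB φ₀ e f)⁻¹ • f, by rw [hq₀.smul_right, inv_mul_cancel₀ hf], he⟩
    have h00 : ∀ z, pB φ₀ z z = 0 := fun z => by rw [hq₀.self, h2, zero_mul]
    have hfe : pB φ₀ f₀ e₀ = 1 := by rw [pB_comm, hef]
    -- the radical and the complement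
    have hdec : ∀ x, x - (pB φ₀ x f₀ • e₀ + pB φ₀ x e₀ • f₀) ∈ rad hq₀ := by
      intro x
      set v := x - (pB φ₀ x f₀ • e₀ + pB φ₀ x e₀ • f₀) with hvdef
      have hve : pB φ₀ v e₀ = 0 := by
        rw [hvdef, hq₀.sub_left, hq₀.add_left, hq₀.smul_left, hq₀.smul_left, h00, hfe]; ring
      have hvf : pB φ₀ v f₀ = 0 := by
        rw [hvdef, hq₀.sub_left, hq₀.add_left, hq₀.smul_left, hq₀.smul_left, h00, hef]; ring
      have hvB : ∀ y, pB φ₀ v y = 0 := fun y => by
        by_contra hy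
        have := hD φ₀ hφ₀ e₀ f₀ v
        set w := y - (pB φ₀ y f₀ • e₀ + pB φ₀ y e₀ • f₀) with hwdef
        have hwe : pB φ₀ w e₀ = 0 := by
          rw [hwdef, hq₀.sub_left, hq₀.add_left, hq₀.smul_left, hq₀.smul_left, h00, hfe]; ring
        have hwf : pB φ₀ w f₀ = 0 := by
          rw [hwdef, hq₀.sub_left, hq₀.add_left, hq₀.smul_left, hq₀.smul_left, h00, hef]; ring
        have hvw : pB φ₀ v w ≠ 0 := by
          rw [hwdef, sub_eq_add_neg, hq₀.add_right, pB_comm φ₀ v (-_), hq₀.neg_left, hq₀.add_left,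
            hq₀.smul_left, hq₀.smul_left, pB_comm φ₀ e₀, pB_comm φ₀ f₀, hve, hvf]
          simpa using hy
        have := hD φ₀ hφ₀ e₀ v w
        simp only [disc3, pB_comm φ₀ e₀ v, pB_comm φ₀ e₀ w, hve, hwe] at this
        refine mul_ne_zero he₀ (mul_ne_zero hvw hvw) ?_
        linear_combination (2 * φ₀ e₀ * φ₀ v * φ₀ w) * h2 - this
      refine ⟨?_, hvB⟩
      have := hD φ₀ hφ₀ e₀ f₀ v
      simp only [disc3, hef, pB_comm φ₀ f₀ v, hvf, pB_comm φ₀ e₀ v, hve] at this
      linear_combination (2 * φ₀ e₀ * φ₀ f₀ * φ₀ v) * h2 - this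
    set A₀ := φ₀ e₀ with hA₀
    set B₀ := φ₀ f₀ with hB₀
    set R₀ := rad hq₀
    have hR₀ : ∀ v ∈ R₀, pB φ₀ e₀ v = 0 ∧ pB φ₀ f₀ v = 0 ∧ φ₀ v = 0 := fun v hv =>
      ⟨by rw [pB_comm]; exact hv.2 _, by rw [pB_comm]; exact hv.2 _, hv.1⟩
    -- the image in the plane
    have hrel : ∀ ψ ∈ U, ∀ v ∈ R₀, ψ v = A₀ * (pB ψ f₀ v * pB ψ f₀ v) + pB ψ f₀ v * pB ψ e₀ v
        + B₀ * (pB ψ e₀ v * pB ψ e₀ v) := by
      intro ψ hψ v hv
      obtain ⟨r1, r2, r3⟩ := hR₀ v hv
      have q0 := hD ψ hψ e₀ f₀ v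
      have q1 := hD _ (hadd φ₀ hφ₀ ψ hψ) e₀ f₀ v
      simp only [disc3, hsum, r1, r2, r3, hef, zero_add, ← hA₀, ← hB₀] at q0 q1
      linear_combination q0 - q1 + (ψ v * (1 - 4 * 0) * 0
        + 2 * (A₀ * ψ f₀ * ψ v + ψ e₀ * B₀ * ψ v + A₀ * B₀ * ψ v) - ψ v * pB ψ e₀ f₀
        - A₀ * (pB ψ f₀ v * pB ψ f₀ v) - B₀ * (pB ψ e₀ v * pB ψ e₀ v) + pB ψ f₀ v * pB ψ e₀ v * 0) * h2
    have hpar : ∀ ψ ∈ U, ∀ ψ' ∈ U, ∀ v ∈ R₀, pB ψ f₀ v * pB ψ' e₀ v = pB ψ e₀ v * pB ψ' f₀ v := by
      intro ψ hψ ψ' hψ' v hv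
      have := hrel _ (hadd ψ hψ ψ' hψ') v hv
      simp only [hsum, hrel ψ hψ v hv, hrel ψ' hψ' v hv] at this
      linear_combination -this + (-A₀ * pB ψ f₀ v * pB ψ' f₀ v - B₀ * pB ψ e₀ v * pB ψ' e₀ v
        - pB ψ e₀ v * pB ψ' f₀ v) * h2
    have hdet : ∀ ψ ∈ U, ∀ v ∈ R₀, ∀ v' ∈ R₀, pB ψ f₀ v * pB ψ e₀ v' = pB ψ e₀ v * pB ψ f₀ v' := by
      intro ψ hψ v hv v' hv'
      by_contra hne
      have hq := hQF ψ hψ
      -- normalise to a dual pair
      set Δ := pB ψ f₀ v * pB ψ e₀ v' - pB ψ e₀ v * pB ψ f₀ v'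
      have hΔ : Δ ≠ 0 := sub_ne_zero.2 hne
      set w := (pB ψ e₀ v' / Δ) • v + (-(pB ψ e₀ v / Δ)) • v' with hw
      set w' := (-(pB ψ f₀ v' / Δ)) • v + (pB ψ f₀ v / Δ) • v' with hw'
      have hwR : w ∈ R₀ := add_mem (Submodule.smul_mem _ _ hv) (Submodule.smul_mem _ _ hv')
      have hw'R : w' ∈ R₀ := add_mem (Submodule.smul_mem _ _ hv) (Submodule.smul_mem _ _ hv')
      have a1 : pB ψ f₀ w = 1 := by
        rw [hw, hq.add_right, hq.smul_right, hq.smul_right]; field_simp; simp only [Δ]; ring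
      have a2 : pB ψ e₀ w = 0 := by
        rw [hw, hq.add_right, hq.smul_right, hq.smul_right]; ring
      have a3 : pB ψ f₀ w' = 0 := by
        rw [hw', hq.add_right, hq.smul_right, hq.smul_right]; ring
      have a4 : pB ψ e₀ w' = 1 := by
        rw [hw', hq.add_right, hq.smul_right, hq.smul_right]; field_simp; simp only [Δ]; ring
      clear_value w w'
      have b1 := hrel ψ hψ w hwR
      have b2 := hrel ψ hψ w' hw'R
      rw [a1, a2] at b1
      rw [a3, a4] at b2
      have b3 := hrel ψ hψ (w + w') (add_mem hwR hw'R)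
      rw [q_add ψ, b1, b2, hq.add_right, hq.add_right, a1, a2, a3, a4] at b3
      have b4 : pB ψ w w' = 1 := by linear_combination b3
      obtain ⟨r1, r2, r3⟩ := hR₀ w hwR
      obtain ⟨s1, s2, s3⟩ := hR₀ w' hw'R
      have q0 := hD ψ hψ e₀ w w'
      have q1 := hD _ (hadd φ₀ hφ₀ ψ hψ) e₀ w w'
      simp only [disc3, hsum, r1, r3, s1, s3, hwR.2, a2, a4, b1, b2, b4, zero_add, ← hA₀] at q0 q1
      exact he₀ (by linear_combination q0 - q1 + 2 * A₀ * A₀ * B₀ * h2)
    -- the common direction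
    obtain ⟨ψ₁, hψ₁, v₁, hv₁, hne₁⟩ : ∃ ψ ∈ U, ∃ v ∈ R₀, ψ v ≠ 0 := by
      obtain ⟨v, hv, hv0⟩ := hradne φ₀ hφ₀
      obtain ⟨ψ, hψ, hne⟩ := hzero v hv0
      exact ⟨ψ, hψ, v, hv, hne⟩
    set p := pB ψ₁ f₀ v₁ with hp
    set r := pB ψ₁ e₀ v₁ with hr
    set a₁ := A₀ * (p * p) + p * r + B₀ * (r * r) with ha₁
    have ha₁0 : a₁ ≠ 0 := by rw [ha₁, ← hrel ψ₁ hψ₁ v₁ hv₁]; exact hne₁
    have hq₁ := hQF ψ₁ hψ₁
    have hpr : p ≠ 0 ∨ r ≠ 0 := by
      by_contra hc
      push Not at hc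
      exact ha₁0 (by rw [ha₁, hc.1, hc.2]; ring)
    -- every image is a multiple of the first one
    have hmul : ∀ ψ ∈ U, ∀ v ∈ R₀, pB ψ f₀ v * r = pB ψ e₀ v * p := by
      intro ψ hψ v hv
      by_contra hne
      have hq := hQF ψ hψ
      have c1 : pB ψ f₀ v₁ * r = pB ψ e₀ v₁ * p := hpar ψ hψ ψ₁ hψ₁ v₁ hv₁
      have c2 : pB ψ₁ f₀ v * r = pB ψ₁ e₀ v * p := hdet ψ₁ hψ₁ v hv v₁ hv₁
      -- both vanish at the other vector
      have z1 : pB ψ₁ f₀ v = 0 ∧ pB ψ₁ e₀ v = 0 := by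
        have d1 := hpar ψ₁ hψ₁ ψ hψ v hv
        constructor
        · refine (mul_eq_zero.1 (show pB ψ₁ f₀ v * (pB ψ f₀ v * r - pB ψ e₀ v * p) = 0 by
            linear_combination pB ψ f₀ v * c2 - p * d1)).resolve_right (sub_ne_zero.2 hne)
        · refine (mul_eq_zero.1 (show pB ψ₁ e₀ v * (pB ψ f₀ v * r - pB ψ e₀ v * p) = 0 by
            linear_combination pB ψ e₀ v * c2 - r * d1)).resolve_right (sub_ne_zero.2 hne)
      have d1 := hpar ψ₁ hψ₁ ψ hψ (v₁ + v) (add_mem hv₁ hv)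
      rw [hq₁.add_right, hq₁.add_right, hq.add_right, hq.add_right, z1.1, z1.2, add_zero, add_zero, ← hp, ← hr] at d1
      exact hne (by linear_combination -d1 - c1)
    -- the new pair
    set e := p • e₀ + r • f₀ with he
    obtain ⟨s, t, hst⟩ : ∃ s t : F, p * t + r * s = 1 := by
      rcases hpr with h | h
      · exact ⟨0, p⁻¹, by rw [mul_inv_cancel₀ h]; ring⟩
      · exact ⟨r⁻¹, 0, by rw [mul_inv_cancel₀ h]; ring⟩
    set f := s • e₀ + t • f₀ with hf
    have heA : φ₀ e = a₁ := by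
      rw [he, q_add φ₀, hq₀.smul, hq₀.smul, hq₀.smul_left, hq₀.smul_right, hef, ha₁]; ring
    have hef' : pB φ₀ e f = 1 := by
      rw [he, hf, hq₀.add_left, hq₀.smul_left, hq₀.smul_left, hq₀.add_right, hq₀.add_right, hq₀.smul_right,
        hq₀.smul_right, hq₀.smul_right, hq₀.smul_right, h00, h00, hef, hfe]
      linear_combination hst
    have heR : ∀ ψ ∈ U, ∀ v ∈ R₀, pB ψ e v = 0 ∧ ψ v = a₁ * (pB ψ f v * pB ψ f v) := by
      intro ψ hψ v hv
      have hq := hQF ψ hψ
      have c := hmul ψ hψ v hv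
      refine ⟨?_, ?_⟩
      · rw [he, hq.add_left, hq.smul_left, hq.smul_left]
        linear_combination c + p * pB ψ e₀ v * h2
      · set d := pB ψ f₀ v
        set d' := pB ψ e₀ v
        have hμ : pB ψ f v = s * d' + t * d := by
          rw [hf, hq.add_left, hq.smul_left, hq.smul_left]
        have k1 : d = p * (s * d' + t * d) := by linear_combination s * c - d * hst
        have k2 : d' = r * (s * d' + t * d) := by linear_combination (-t) * c - d' * hst
        rw [hμ, hrel ψ hψ v hv, ha₁]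
        generalize s * d' + t * d = μ at k1 k2
        change A₀ * (d * d) + d * d' + B₀ * (d' * d') = _
        rw [k1, k2]; ring
    clear_value e f
    let l : V →ₗ[F] F :=
      { toFun := fun x => pB φ₀ x e
        map_add' := fun a b => hq₀.add_left a b e
        map_smul' := fun c a => hq₀.smul_left c a e }
    refine ⟨a₁, l, ha₁0, fun e0 => ?_, ?_⟩
    · have := LinearMap.congr_fun e0 f
      change pB φ₀ f e = 0 at this
      rw [pB_comm, hef'] at this
      exact one_ne_zero this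
    -- the value at `e`
    have hval : ∀ ψ ∈ U, ψ e = a₁ * (pB ψ e f * pB ψ e f) := by
      have base : ∀ ψ ∈ U, ∀ v ∈ R₀, pB ψ f v ≠ 0 → ψ e = a₁ * (pB ψ e f * pB ψ e f) := by
        intro ψ hψ v hv hμ
        have q0 := hD ψ hψ e f v
        obtain ⟨h3, h4⟩ := heR ψ hψ v hv
        simp only [disc3, h3, h4] at q0
        refine mul_left_cancel₀ (mul_ne_zero hμ hμ) ?_
        linear_combination -q0 + (2 * ψ e * ψ f * a₁ * (pB ψ f v * pB ψ f v)
          - a₁ * (pB ψ e f * pB ψ e f) * (pB ψ f v * pB ψ f v)) * h2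
      intro ψ hψ
      by_cases hc : ∃ v ∈ R₀, pB ψ f v ≠ 0
      · obtain ⟨v, hv, hμ⟩ := hc
        exact base ψ hψ v hv hμ
      push Not at hc
      have hμ₁ : pB ψ₁ f v₁ ≠ 0 := fun h0 => hne₁ (by rw [(heR ψ₁ hψ₁ v₁ hv₁).2, h0]; ring)
      have b1 := base ψ₁ hψ₁ v₁ hv₁ hμ₁
      have b2 := base _ (hadd ψ hψ ψ₁ hψ₁) v₁ hv₁ (by rw [hsum, hc v₁ hv₁, zero_add]; exact hμ₁)
      rw [hsum, b1] at b2
      linear_combination b2 + a₁ * pB ψ e f * pB ψ₁ e f * h2
    intro ψ hψ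
    have hq := hQF ψ hψ
    let α : V →ₗ[F] F :=
      { toFun := fun x => pB φ₀ x f
        map_add' := fun a b => hq₀.add_left a b f
        map_smul' := fun c a => hq₀.smul_left c a f }
    let π : V →ₗ[F] V := LinearMap.id - (α.smulRight e + l.smulRight f)
    have hπR : ∀ x, π x ∈ R₀ := by
      intro x
      have key := hdec x
      have : π x = x - (pB φ₀ x f₀ • e₀ + pB φ₀ x e₀ • f₀) := by
        show x - (pB φ₀ x f • e + pB φ₀ x e • f) = _
        rw [he, hf, hq₀.add_right, hq₀.add_right, hq₀.smul_right, hq₀.smul_right, hq₀.smul_right, hq₀.smul_right]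
        have hm1 : p * t + r * s = 1 := hst
        match_scalars
        · ring
        · linear_combination (-(pB φ₀ x f₀)) * hm1 - (pB φ₀ x e₀ * p * s) * h2
        · linear_combination (-(pB φ₀ x e₀)) * hm1 - (pB φ₀ x f₀ * r * t) * h2
      rw [this]; exact key
    let β : V →ₗ[F] F :=
      { toFun := fun y => pB ψ f y
        map_add' := fun a b => hq.add_right a b f
        map_smul' := fun c a => hq.smul_right c a f }
    refine ⟨pB ψ e f • α + β ∘ₗ π, ψ f, fun x => ?_⟩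
    have hx : x = α x • e + l x • f + π x := by
      show x = α x • e + l x • f + (x - (α x • e + l x • f))
      abel
    obtain ⟨h3, h4⟩ := heR ψ hψ (π x) (hπR x)
    show ψ x = a₁ * ((pB ψ e f * α x + pB ψ f (π x)) * (pB ψ e f * α x + pB ψ f (π x)))
      + (pB ψ e f * α x + pB ψ f (π x)) * l x + ψ f * (l x * l x)
    generalize α x = a at hx
    generalize l x = b at hx
    conv_lhs => rw [hx]
    rw [q_add ψ, q_add ψ, hq.smul, hq.smul, hq.smul_left, hq.smul_right, hq.add_left, hq.smul_left, hq.smul_left,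
      h3, h4, hval ψ hψ]
    linear_combination (-a₁ * pB ψ e f * a * pB ψ f (π x)) * h2

end Star

end CfsgLib.MinIndexSp
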