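import Cfsg.Agent.Lib.MinIndexSp.Forms

/-!
The number of images of a non-degenerate ternary quadratic form.
-/

set_option autoImplicit false
set_option linter.unusedSectionVars false

namespace CfsgLib.MinIndexSp

open Module Matrix

variable {F : Type*} [Field F]

section Iso

variable [Finite F] {V : Type*} [AddCommGroup V] [Module F V] [FiniteDimensional F V]

/-- A non-degenerate ternary form has a non-zero singular vector. -/
theorem exists_singular {Q : V → F} (h : QF Q) (h3 : finrank F V = 3) (hr : rad h = ⊥) :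
    ∃ e, e ≠ 0 ∧ Q e = 0 := by
  by_contra hc
  push Not at hc
  obtain ⟨v, hv, -⟩ := exists_off h (by rw [hr, finrank_bot, h3]; omega)
  by_cases h2 : (2 : F) = 0
  · -- the squares are everything
    let f : V →ₗ[F] F :=
      { toFun := pB Q v, map_add' := fun a b => h.add_right a b v, map_smul' := fun c a => h.smul_right c a v }
    have hd : 2 ≤ finrank F (LinearMap.ker f) := by
      have h1 := f.finrank_range_add_finrank_ker
      have h2' := Submodule.finrank_le (LinearMap.range f)
      rw [Module.finrank_self] at h2'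
      omega
    have hle : ¬ LinearMap.ker f ≤ Submodule.span F {v} := fun hle => by
      have := Submodule.finrank_mono hle
      rw [finrank_span_singleton (fun e => hv (by rw [e, h.q_zero]))] at this
      omega
    obtain ⟨w, hw, hwv⟩ := SetLike.not_le_iff_exists.1 hle
    obtain ⟨t, ht⟩ := exists_sqrt h2 (-Q w / Q v)
    refine hc (w + t • v) (fun e => hwv (Submodule.mem_span_singleton.2 ⟨-t, ?_⟩)) ?_
    · rw [neg_smul, ← eq_neg_of_add_eq_zero_left e]
    · have hwz : pB Q v w = 0 := hw
      rw [q_add Q, h.smul, h.smul_right, pB_comm, hwz, ht, div_mul_cancel₀ _ hv]; ring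
  · -- two orthogonal anisotropic vectors and a third one
    let f : V →ₗ[F] F :=
      { toFun := pB Q v, map_add' := fun a b => h.add_right a b v, map_smul' := fun c a => h.smul_right c a v }
    have hd : 2 ≤ finrank F (LinearMap.ker f) := by
      have h1 := f.finrank_range_add_finrank_ker
      have h2' := Submodule.finrank_le (LinearMap.range f)
      rw [Module.finrank_self] at h2'
      omega
    have hne : LinearMap.ker f ≠ ⊥ := fun e => by rw [e, finrank_bot] at hd; omega
    obtain ⟨w, hw, hw0⟩ := Submodule.exists_mem_ne_zero_of_ne_bot hne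
    let g : V →ₗ[F] (Fin 2 → F) :=
      { toFun := fun x => ![pB Q v x, pB Q w x]
        map_add' := fun a b => by ext i; fin_cases i <;> simp [h.add_right]
        map_smul' := fun c a => by ext i; fin_cases i <;> simp [h.smul_right] }
    have hgne : LinearMap.ker g ≠ ⊥ := fun e => by
      have := LinearMap.finrank_le_finrank_of_injective (LinearMap.ker_eq_bot.1 e)
      rw [Module.finrank_fin_fun] at this
      omega
    obtain ⟨z, hz, hz0⟩ := Submodule.exists_mem_ne_zero_of_ne_bot hgne
    have hvz : pB Q v z = 0 := congrFun (LinearMap.mem_ker.1 hz) 0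
    have hwz : pB Q w z = 0 := congrFun (LinearMap.mem_ker.1 hz) 1
    have hvw : pB Q v w = 0 := hw
    have := Fintype.ofFinite F
    have hodd : Fintype.card F % 2 = 1 := Nat.odd_iff.1 (Nat.not_even_iff_odd.1 fun he =>
      h2 (by
        have h' := (FiniteField.even_card_iff_char_two (F := F)).2 (Nat.even_iff.1 he)
        have := ringChar.charP F
        rw [h'] at this
        exact CharTwo.two_eq_zero))
    obtain ⟨a, b, hab⟩ := FiniteField.exists_root_sum_quadratic (R := F)
      (f := Polynomial.C (Q v) * Polynomial.X ^ 2) (g := Polynomial.C (Q w) * Polynomial.X ^ 2 + Polynomial.C (Q z))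
      (Polynomial.degree_C_mul_X_pow 2 hv)
      (by
        rw [Polynomial.degree_add_eq_left_of_degree_lt] <;> rw [Polynomial.degree_C_mul_X_pow 2 (hc w hw0)]
        · rfl
        · exact lt_of_le_of_lt Polynomial.degree_C_le (by decide))
      hodd
    simp only [Polynomial.eval_add, Polynomial.eval_mul, Polynomial.eval_C, Polynomial.eval_pow, Polynomial.eval_X] at hab
    refine hc (a • v + b • w + z) (fun e => ?_) ?_
    · have := congrArg (fun x => pB Q z x) e
      simp only [h.add_right, h.smul_right, pB_comm Q z v, pB_comm Q z w, hvz, hwz, mul_zero, zero_add,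
        h.zero_right, h.self, mul_eq_zero] at this
      exact hc z hz0 (this.resolve_left h2)
    · rw [q_add Q, q_add Q, h.smul, h.smul, h.add_left, h.smul_left, h.smul_left, h.smul_left, h.smul_right,
        hvw, hvz, hwz]
      linear_combination hab

/-- The normal form `x₀ x₁ + c x₂²`. -/
theorem exists_normal {Q : V → F} (h : QF Q) (h3 : finrank F V = 3) (hr : rad h = ⊥) :
    ∃ A : (Fin 3 → F) ≃ₗ[F] V, ∃ c : F, c ≠ 0 ∧ ∀ x, Q (A x) = x 0 * x 1 + c * (x 2 * x 2) := by
  obtain ⟨e, he0, he⟩ := exists_singular h h3 hr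
  obtain ⟨f₁, hf₁⟩ : ∃ f, pB Q e f ≠ 0 := by
    by_contra hc
    push Not at hc
    refine he0 ?_
    have : e ∈ rad h := ⟨he, hc⟩
    rwa [hr, Submodule.mem_bot] at this
  set f₂ := (pB Q e f₁)⁻¹ • f₁ with hf₂def
  have hf₂ : pB Q e f₂ = 1 := by rw [hf₂def, h.smul_right, inv_mul_cancel₀ hf₁]
  clear_value f₂
  have hee : pB Q e e = 0 := by rw [h.self, he, mul_zero]
  set f := f₂ + (-Q f₂) • e with hfdef
  have hef : pB Q e f = 1 := by rw [hfdef, h.add_right, h.smul_right, hee, hf₂, mul_zero, add_zero]
  have hQf : Q f = 0 := by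
    rw [hfdef, q_add Q, h.smul, he, h.smul_right, pB_comm, hf₂]; ring
  have hff : pB Q f f = 0 := by rw [h.self, hQf, mul_zero]
  obtain ⟨z₀, hz₀⟩ : ∃ z, z ∉ Submodule.span F ({f, e} : Set V) := by
    by_contra hc
    push Not at hc
    classical
    have h1 := finrank_span_finset_le_card (R := F) ({f, e} : Finset V)
    rw [Finset.coe_insert, Finset.coe_singleton, Set.finrank,
      (eq_top_iff.2 fun v _ => hc v : Submodule.span F ({f, e} : Set V) = ⊤), finrank_top, h3] at h1
    have := Finset.card_insert_le f ({e} : Finset V)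
    simp at this
    omega
  set z := z₀ + (-pB Q z₀ f) • e + (-pB Q z₀ e) • f with hzdef
  have hze : pB Q z e = 0 := by
    rw [hzdef, h.add_left, h.add_left, h.smul_left, h.smul_left, hee, pB_comm Q f e, hef]; ring
  have hzf : pB Q z f = 0 := by
    rw [hzdef, h.add_left, h.add_left, h.smul_left, h.smul_left, hff, hef]; ring
  let L : (Fin 3 → F) →ₗ[F] V :=
    (LinearMap.proj 0).smulRight f + (LinearMap.proj 1).smulRight e + (LinearMap.proj 2).smulRight z
  have hL : ∀ x, L x = x 0 • f + x 1 • e + x 2 • z := fun x => rfl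
  have hinj : Function.Injective L := by
    rw [← LinearMap.ker_eq_bot, LinearMap.ker_eq_bot']
    intro x hx
    rw [hL] at hx
    have h0 : x 0 = 0 := by
      have := congrArg (fun v => pB Q v e) hx
      simpa [h.add_left, h.smul_left, hee, hze, pB_comm Q f e, hef, h.zero_left] using this
    have h1 : x 1 = 0 := by
      have := congrArg (fun v => pB Q v f) hx
      simpa [h.add_left, h.smul_left, hff, hzf, hef, h.zero_left] using this
    have h2 : x 2 = 0 := by
      by_contra h2
      rw [h0, h1, zero_smul, zero_smul, zero_add, zero_add, smul_eq_zero] at hx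
      refine hz₀ (Submodule.mem_span_pair.2 ⟨pB Q z₀ e, pB Q z₀ f, ?_⟩)
      have hz : z₀ + (-pB Q z₀ f) • e + (-pB Q z₀ e) • f = 0 := hx.resolve_left h2
      linear_combination (norm := module) -hz
    funext i
    fin_cases i <;> assumption
  let A := LinearEquiv.ofBijective L ⟨hinj,
    (LinearMap.injective_iff_surjective_of_finrank_eq_finrank (by simp [h3])).1 hinj⟩
  have hsurj : Function.Surjective L := A.surjective
  have hz : Q z ≠ 0 := fun hz => by
    have hzr : z ∈ rad h := ⟨hz, fun y => by
      obtain ⟨x, rfl⟩ := hsurj y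
      rw [hL, h.add_right, h.add_right, h.smul_right, h.smul_right, h.smul_right, hze, hzf, h.self, hz]
      ring⟩
    rw [hr, Submodule.mem_bot] at hzr
    have := hinj (show L (Pi.single 2 1) = L 0 by rw [hL, hzr, map_zero]; simp)
    simpa using congrFun this 2
  refine ⟨A, Q z, hz, fun x => ?_⟩
  show Q (L x) = _
  rw [hL, q_add Q, q_add Q, h.smul, h.smul, h.smul, hQf, he, h.add_left, h.smul_left, h.smul_left, h.smul_left,
    h.smul_right, h.smul_right, h.smul_right, pB_comm Q f e, pB_comm Q f z, pB_comm Q e z, hef, hze, hzf]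
  ring

end Iso

section Count

variable [Fintype F] [DecidableEq F] {n : ℕ}

/-- Binary forms. -/
def bin (a b c : F) (y : Fin 2 → F) : F := a * (y 0 * y 0) + b * (y 0 * y 1) + c * (y 1 * y 1)

theorem bin_inj {a b c a' b' c' : F} (h : bin a b c = bin a' b' c') : a = a' ∧ b = b' ∧ c = c' := by
  have h1 := congrFun h ![1, 0]
  have h2 := congrFun h ![0, 1]
  have h3 := congrFun h ![1, 1]
  simp [bin] at h1 h2 h3
  exact ⟨h1, by linear_combination h3 - h1 - h2, h2⟩

theorem pB_bin (a b c : F) (y z : Fin 2 → F) :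
    pB (bin a b c) y z = 2 * a * (y 0 * z 0) + b * (y 0 * z 1 + y 1 * z 0) + 2 * c * (y 1 * z 1) := by
  simp [pB, bin]; ring

theorem bin_nondeg {a b c : F} (hd : b * b - 4 * a * c ≠ 0) {y : Fin 2 → F}
    (hy : ∀ z, pB (bin a b c) y z = 0) : y = 0 := by
  have e0 := hy ![1, 0]
  have e1 := hy ![0, 1]
  simp [pB_bin] at e0 e1
  funext i
  fin_cases i
  · exact (mul_eq_zero.1 (show (b * b - 4 * a * c) * y 0 = 0 by
      linear_combination (-2 * c) * e0 + b * e1)).resolve_left hd
  · exact (mul_eq_zero.1 (show (b * b - 4 * a * c) * y 1 = 0 by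
      linear_combination b * e0 - (2 * a) * e1)).resolve_left hd

theorem card_nondeg :
    Fintype.card F ^ 3 - Fintype.card F ^ 2 ≤
      (Finset.univ.filter fun t : F × F × F => t.2.1 * t.2.1 - 4 * t.1 * t.2.2 ≠ 0).card := by
  set D := Finset.univ.filter fun t : F × F × F => ¬(t.2.1 * t.2.1 - 4 * t.1 * t.2.2 ≠ 0)
  have hsum := Finset.card_filter_add_card_filter_not (s := (Finset.univ : Finset (F × F × F)))
    (p := fun t => t.2.1 * t.2.1 - 4 * t.1 * t.2.2 ≠ 0)
  have hcard : (Finset.univ : Finset (F × F × F)).card = Fintype.card F ^ 3 := by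
    rw [Finset.card_univ, Fintype.card_prod, Fintype.card_prod]; ring
  have hD : D.card ≤ Fintype.card F ^ 2 := by
    rw [show Fintype.card F ^ 2 = (Finset.univ : Finset (F × F)).card by rw [Finset.card_univ, Fintype.card_prod]; ring]
    by_cases h4 : (4 : F) = 0
    · refine Finset.card_le_card_of_injOn (fun t => (t.1, t.2.2)) (fun _ _ => Finset.mem_univ _) ?_
      rintro ⟨a, b, c⟩ hs ⟨a', b', c'⟩ ht e
      simp [D, h4] at hs ht
      simp only [Prod.mk.injEq] at e
      simp [hs, ht, e]
    · refine Finset.card_le_card_of_injOn (fun t => if t.1 = 0 then (0, t.2.2) else (t.1, t.2.1))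
        (fun _ _ => Finset.mem_univ _) ?_
      rintro ⟨a, b, c⟩ hs ⟨a', b', c'⟩ ht e
      simp [D] at hs ht
      dsimp only at e
      by_cases ha : a = 0 <;> by_cases ha' : a' = 0 <;> simp [ha, ha'] at e
      · subst ha ha'
        simp at hs ht
        simp [hs, ht, e]
      · exact absurd e.1.symm ha'
      · obtain ⟨rfl, rfl⟩ := e
        simp only [Prod.mk.injEq, true_and]
        exact mul_left_cancel₀ (mul_ne_zero h4 ha) (by linear_combination ht - hs)
  rw [hcard] at hsum
  simp only [D, ne_eq, not_not] at hD hsum ⊢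
  omega

/-- The number of square roots of a square. -/
def gsq (F : Type*) [Field F] [DecidableEq F] : ℕ := if (2 : F) = 0 then 1 else 2

theorem card_pm {α : Type*} [AddCommGroup α] [Module F α] [DecidableEq α] (a : α) :
    ({a, -a} : Finset α).card ≤ gsq F := by
  unfold gsq
  split
  · next h2 =>
    have : -a = a := by
      rw [← sub_eq_zero, show -a - a = (-2 : F) • a by module, h2, neg_zero, zero_smul]
    rw [this, Finset.insert_eq_self.2 (Finset.mem_singleton_self _), Finset.card_singleton]
  · exact (Finset.card_insert_le _ _).trans (by simp)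

theorem sq_eq {s t : F} (h : s * s = t * t) : s = t ∨ s = -t := mul_self_eq_mul_self_iff.1 h

variable {Ω : Finset ((Fin (n + 1) → F) → F)}

/-- The fibres over equivalent restrictions. -/
theorem fibre_congr (hΩ : Closed Ω) (ψ : (Fin n → F) → F) (M : (Fin n → F) ≃ₗ[F] (Fin n → F)) :
    (Ω.filter fun Q => restr Q = ψ).card ≤ (Ω.filter fun Q => restr Q = fun y => ψ (M y)).card := by
  refine Finset.card_le_card_of_injOn (fun Q x => Q (lift 1 0 M x)) (fun Q hQ => ?_) fun a _ b _ e => funext fun x => ?_
  · simp only [Finset.coe_filter, Set.mem_setOf_eq] at hQ ⊢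
    exact ⟨hΩ Q hQ.1 _, funext fun y => by simp [restr, lift_cons_zero, ← hQ.2]⟩
  · simpa using congrFun e ((lift 1 0 M).symm x)

/-- Any injective pull-back to the hyperplane is a restriction. -/
theorem exists_restr (hΩ : Closed Ω) {Q : (Fin (n + 1) → F) → F} (hQ : Q ∈ Ω)
    (L : (Fin n → F) →ₗ[F] (Fin (n + 1) → F)) (hL : Function.Injective L) :
    ∃ A : (Fin (n + 1) → F) ≃ₗ[F] (Fin (n + 1) → F), (fun x => Q (A x)) ∈ Ω ∧
      restr (fun x => Q (A x)) = fun y => Q (L y) := by
  have hr : finrank F (LinearMap.range L) = n := by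
    rw [LinearMap.finrank_range_of_inj hL, Module.finrank_fin_fun]
  obtain ⟨e, he⟩ : ∃ e, e ∉ LinearMap.range L := by
    by_contra hc
    push Not at hc
    rw [(eq_top_iff.2 fun v _ => hc v : LinearMap.range L = ⊤), finrank_top, Module.finrank_fin_fun] at hr
    omega
  obtain ⟨A, -, hA⟩ := exists_frame (Module.finrank_fin_fun F) _ hr he
  let N : (Fin n → F) →ₗ[F] (Fin n → F) := (LinearEquiv.ofInjective L hL).symm.toLinearMap ∘ₗ
    (A.toLinearMap ∘ₗ tailEmb F n).codRestrict (LinearMap.range L) hA
  have hN : ∀ y, L (N y) = A (Fin.cons 0 y) := fun y =>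
    congrArg Subtype.val ((LinearEquiv.ofInjective L hL).apply_symm_apply ⟨A (Fin.cons 0 y), hA y⟩)
  have hinj : Function.Injective N := fun a b e' => by
    have := congrArg L e'
    rw [hN, hN, A.injective.eq_iff] at this
    exact Fin.cons_right_injective _ this
  let M := (LinearEquiv.ofBijective N ⟨hinj, Finite.injective_iff_surjective.1 hinj⟩).symm
  refine ⟨(lift 1 0 M).trans A, hΩ Q hQ _, funext fun y => ?_⟩
  show Q (A (lift 1 0 M (Fin.cons 0 y))) = _
  rw [lift_cons_zero, ← hN]
  congr 2
  exact (LinearEquiv.ofBijective N ⟨hinj, Finite.injective_iff_surjective.1 hinj⟩).apply_symm_apply y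

/-- Many images of a non-degenerate ternary form. -/
theorem card_ternary {Ω : Finset ((Fin 3 → F) → F)} (hΩ : Closed Ω) {Q : (Fin 3 → F) → F} (hQ : Q ∈ Ω)
    (h : QF Q) (hr : rad h = ⊥) :
    Fintype.card F ^ 2 * (Fintype.card F - 1) * (Fintype.card F ^ 3 - 1) ≤ gsq F * Ω.card := by
  set q := Fintype.card F with hqdef
  obtain ⟨A, c, hc, hA⟩ := exists_normal h (Module.finrank_fin_fun F) hr
  set φ : (Fin 3 → F) → F := fun x => Q (A x) with hφdef
  have hφ : φ ∈ Ω := hΩ Q hQ A
  have hval : ∀ (a : F) (y : Fin 2 → F), φ (Fin.cons a y) = a * y 0 + c * (y 1 * y 1) := fun a y => by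
    simp only [hφdef, hA]; rfl
  have hq : 1 ≤ q := Fintype.card_pos
  -- the tangent planes
  have htan : q ^ 2 * (q - 1) ≤ (Ω.filter fun R => restr R = bin 0 0 c).card := by
    let g : Fˣ × F × F → (Fin 3 → F) → F := fun p x =>
      φ (lift p.1 ![p.2.1, 0] (LinearEquiv.ofLinear
        { toFun := fun y => ![y 0 + p.2.2 * y 1, y 1]
          map_add' := fun y z => by ext i; fin_cases i <;> simp; ring
          map_smul' := fun a y => by ext i; fin_cases i <;> simp; ring }
        { toFun := fun y => ![y 0 - p.2.2 * y 1, y 1]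
          map_add' := fun y z => by ext i; fin_cases i <;> simp; ring
          map_smul' := fun a y => by ext i; fin_cases i <;> simp; ring }
        (LinearMap.ext fun y => by ext i; fin_cases i <;> simp)
        (LinearMap.ext fun y => by ext i; fin_cases i <;> simp)) x)
    have hg : ∀ p (a : F) (y : Fin 2 → F), g p (Fin.cons a y) =
        (p.1 : F) * a * (y 0 + p.2.2 * y 1 + a * p.2.1) + c * (y 1 * y 1) := fun p a y => by
      simp only [g, lift_cons, hval]; simp
    calc q ^ 2 * (q - 1) = (Finset.univ : Finset (Fˣ × F × F)).card := by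
          rw [Finset.card_univ, Fintype.card_prod, Fintype.card_prod, Fintype.card_units]; ring
      _ ≤ _ := by
        refine Finset.card_le_card_of_injOn g (fun p _ => Finset.mem_filter.2 ⟨hΩ φ hφ _, funext fun y => ?_⟩) ?_
        · show g p (Fin.cons 0 y) = _
          rw [hg]; simp [bin]
        · rintro ⟨s, u, t⟩ - ⟨s', u', t'⟩ - e
          have e1 := congrFun e (Fin.cons 1 ![0, 0])
          have e2 := congrFun e (Fin.cons 1 ![1, 0])
          have e3 := congrFun e (Fin.cons 1 ![0, 1])
          simp only [hg] at e1 e2 e3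
          simp at e1 e2 e3
          have hs : (s : F) = s' := by linear_combination e2 - e1
          have hu : u = u' := mul_left_cancel₀ s.ne_zero (by linear_combination e1 - u' * hs)
          have ht : t = t' := mul_left_cancel₀ s.ne_zero (by linear_combination e3 - e1 - t' * hs)
          rw [Units.ext hs, hu, ht]
  -- squares of linear forms
  let sqf : {l : Fin 2 → F // l ≠ 0} → (Fin 2 → F) → F :=
    fun l => bin (c * (l.1 0 * l.1 0)) (2 * c * (l.1 0 * l.1 1)) (c * (l.1 1 * l.1 1))
  set R1 := Finset.univ.image sqf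
  have hR1 : q ^ 2 - 1 ≤ gsq F * R1.card := by
    have h1 := Finset.card_le_mul_card_image_of_maps_to (f := sqf)
      (s := (Finset.univ : Finset {l : Fin 2 → F // l ≠ 0})) (t := R1)
      (fun l _ => Finset.mem_image_of_mem _ (Finset.mem_univ l)) (gsq F) (fun ψ hψ => ?_)
    · rwa [Finset.card_univ, Fintype.card_subtype_compl, Fintype.card_subtype_eq, card_tail] at h1
    · obtain ⟨l₀, -, rfl⟩ := Finset.mem_image.1 hψ
      refine le_trans (Finset.card_le_card_of_injOn (t := ({l₀.1, -l₀.1} : Finset (Fin 2 → F))) Subtype.val ?_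
        Subtype.val_injective.injOn) (card_pm (F := F) l₀.1)
      intro l hl
      simp only [Finset.coe_filter, Finset.mem_univ, true_and, Set.mem_setOf_eq] at hl
      obtain ⟨ea, eb, ec⟩ := bin_inj hl
      have e0 := sq_eq (mul_left_cancel₀ hc ea)
      have e1 := sq_eq (mul_left_cancel₀ hc ec)
      have key : l.1 = l₀.1 ∨ l.1 = -l₀.1 := by
        by_cases h2 : (2 : F) = 0
        · have hneg : ∀ x : F, -x = x := fun x => by linear_combination -x * h2
          rw [hneg, or_self] at e0 e1
          exact Or.inl (funext (Fin.forall_fin_two.2 ⟨e0, e1⟩))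
        · have em : l.1 0 * l.1 1 = l₀.1 0 * l₀.1 1 := mul_left_cancel₀ (mul_ne_zero h2 hc) eb
          rcases e0 with e0 | e0 <;> rcases e1 with e1 | e1
          · exact Or.inl (funext (Fin.forall_fin_two.2 ⟨e0, e1⟩))
          · rw [e0, e1] at em
            have : l₀.1 0 * l₀.1 1 = 0 := (mul_eq_zero.1 (show (2 : F) * (l₀.1 0 * l₀.1 1) = 0 by
              linear_combination -em)).resolve_left h2
            rcases mul_eq_zero.1 this with z | z
            · exact Or.inr (funext (Fin.forall_fin_two.2 ⟨by rw [e0]; simp [z], by rw [e1]; simp⟩))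
            · exact Or.inl (funext (Fin.forall_fin_two.2 ⟨e0, by rw [e1, z, neg_zero]⟩))
          · rw [e0, e1] at em
            have : l₀.1 0 * l₀.1 1 = 0 := (mul_eq_zero.1 (show (2 : F) * (l₀.1 0 * l₀.1 1) = 0 by
              linear_combination -em)).resolve_left h2
            rcases mul_eq_zero.1 this with z | z
            · exact Or.inl (funext (Fin.forall_fin_two.2 ⟨by rw [e0, z, neg_zero], e1⟩))
            · exact Or.inr (funext (Fin.forall_fin_two.2 ⟨by rw [e0]; simp, by rw [e1]; simp [z]⟩))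
          · exact Or.inr (funext (Fin.forall_fin_two.2 ⟨by rw [e0]; simp, by rw [e1]; simp⟩))
      rcases key with k | k <;> simp [k]
  have hfib1 : ∀ ψ ∈ R1, q ^ 2 * (q - 1) ≤ (Ω.filter fun R => restr R = ψ).card := by
    intro ψ hψ
    obtain ⟨⟨l, hl⟩, -, rfl⟩ := Finset.mem_image.1 hψ
    obtain ⟨M, hM⟩ : ∃ M : (Fin 2 → F) ≃ₗ[F] (Fin 2 → F), ∀ y, M y 1 = l 0 * y 0 + l 1 * y 1 := by
      by_cases h1 : l 1 = 0
      · have h0 : l 0 ≠ 0 := fun h0 => hl (funext (Fin.forall_fin_two.2 ⟨h0, h1⟩))
        let L : (Fin 2 → F) →ₗ[F] (Fin 2 → F) :=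
          { toFun := fun y => ![y 1, l 0 * y 0]
            map_add' := fun y z => by ext i; fin_cases i <;> simp [mul_add]
            map_smul' := fun a y => by ext i; fin_cases i <;> simp; ring }
        have hLi : Function.Injective L := fun y z e => funext (Fin.forall_fin_two.2
          ⟨mul_left_cancel₀ h0 (congrFun e 1), congrFun e 0⟩)
        exact ⟨LinearEquiv.ofBijective L ⟨hLi, Finite.injective_iff_surjective.1 hLi⟩, fun y => by
          show L y 1 = _; simp [L, h1]⟩
      · let L : (Fin 2 → F) →ₗ[F] (Fin 2 → F) :=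
          { toFun := fun y => ![y 0, l 0 * y 0 + l 1 * y 1]
            map_add' := fun y z => by ext i; fin_cases i <;> simp; ring
            map_smul' := fun a y => by ext i; fin_cases i <;> simp; ring }
        have hLi : Function.Injective L := fun y z e => by
          have e0 : y 0 = z 0 := congrFun e 0
          have e1 : l 0 * y 0 + l 1 * y 1 = l 0 * z 0 + l 1 * z 1 := congrFun e 1
          exact funext (Fin.forall_fin_two.2 ⟨e0, mul_left_cancel₀ h1 (by rw [e0] at e1; exact add_left_cancel e1)⟩)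
        exact ⟨LinearEquiv.ofBijective L ⟨hLi, Finite.injective_iff_surjective.1 hLi⟩, fun y => rfl⟩
    refine htan.trans ((fibre_congr hΩ _ M).trans_eq ?_)
    congr 2
    ext R
    refine Eq.congr_right (funext fun y => ?_)
    simp [bin, sqf, hM]; ring
  -- non-degenerate binary restrictions
  set T := Finset.univ.filter fun t : F × F × F => t.2.1 * t.2.1 - 4 * t.1 * t.2.2 ≠ 0
  set R2 := T.image fun t => bin t.1 t.2.1 t.2.2
  have hR2 : q ^ 3 - q ^ 2 ≤ R2.card := by
    rw [Finset.card_image_of_injective _ fun s t e => by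
      obtain ⟨a, b, d⟩ := s
      obtain ⟨a', b', d'⟩ := t
      obtain ⟨h1, h2, h3⟩ := bin_inj e
      exact Prod.ext h1 (Prod.ext h2 h3)]
    exact card_nondeg
  have hfib2 : ∀ ψ ∈ R2, q ^ 2 * (q - 1) ≤ gsq F * (Ω.filter fun R => restr R = ψ).card := by
    intro ψ hψ
    obtain ⟨⟨a, b, d⟩, ht, rfl⟩ := Finset.mem_image.1 hψ
    simp only [T, Finset.mem_filter, Finset.mem_univ, true_and] at ht
    -- realise the binary form
    obtain ⟨u, u', hu, hu', huu⟩ : ∃ u u' : Fin 3 → F, φ u = a ∧ φ u' = d ∧ pB φ u u' = b := by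
      have hB : ∀ x y : Fin 3 → F, pB φ x y = x 0 * y 1 + x 1 * y 0 + 2 * c * (x 2 * y 2) := fun x y => by
        simp [pB, hφdef, hA]; ring
      have huniv : ∀ a' : F, a' ≠ 0 → ∀ b' d' : F, ∃ x t : F, b' * x - a' * (x * x) + c * (t * t) = d' := by
        intro a' ha' b' d'
        by_cases h2 : (2 : F) = 0
        · obtain ⟨t, ht⟩ := exists_sqrt h2 (d' / c)
          exact ⟨0, t, by rw [ht, mul_div_cancel₀ _ hc]; ring⟩
        · have hodd : Fintype.card F % 2 = 1 := Nat.odd_iff.1 (Nat.not_even_iff_odd.1 fun he =>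
            h2 (by
              have h' := (FiniteField.even_card_iff_char_two (F := F)).2 (Nat.even_iff.1 he)
              have := ringChar.charP F
              rw [h'] at this
              exact CharTwo.two_eq_zero))
          obtain ⟨x, t, hxt⟩ := FiniteField.exists_root_sum_quadratic (R := F)
            (f := Polynomial.C (-a') * Polynomial.X ^ 2 + Polynomial.C b' * Polynomial.X + Polynomial.C (-d'))
            (g := Polynomial.C c * Polynomial.X ^ 2)
            (Polynomial.degree_quadratic (neg_ne_zero.2 ha')) (Polynomial.degree_C_mul_X_pow 2 hc) hodd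
          simp only [Polynomial.eval_add, Polynomial.eval_mul, Polynomial.eval_C, Polynomial.eval_pow,
            Polynomial.eval_X] at hxt
          exact ⟨x, t, by linear_combination hxt⟩
      by_cases ha : a = 0
      · by_cases hd : d = 0
        · exact ⟨![0, 1, 0], ![b, 0, 0], by simp [hφdef, hA, ha], by simp [hφdef, hA, hd], by simp [hB]⟩
        · obtain ⟨x, t, e⟩ := huniv d hd b a
          exact ⟨![b - d * x, x, t], ![d, 1, 0], by simp [hφdef, hA]; linear_combination e, by simp [hφdef, hA],
            by simp [hB]; ring⟩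
      · obtain ⟨x, t, e⟩ := huniv a ha b d
        exact ⟨![a, 1, 0], ![b - a * x, x, t], by simp [hφdef, hA], by simp [hφdef, hA]; linear_combination e,
          by simp [hB]⟩
    let L : (Fin 2 → F) →ₗ[F] (Fin 3 → F) :=
      (LinearMap.proj 0).smulRight u + (LinearMap.proj 1).smulRight u'
    have hqφ : QF φ := h.comp A.toLinearMap
    have hLψ : ∀ y, φ (L y) = bin a b d y := fun y => by
      show φ (y 0 • u + y 1 • u') = _
      rw [q_add φ, hqφ.smul, hqφ.smul, hqφ.smul_left, hqφ.smul_right, hu, hu', huu, bin]; ring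
    have hL : Function.Injective L := by
      rw [← LinearMap.ker_eq_bot, LinearMap.ker_eq_bot']
      intro y hy
      refine bin_nondeg ht fun z => ?_
      have e : bin a b d = fun y => φ (L y) := funext fun y => (hLψ y).symm
      rw [e, pB_comp, hy, hqφ.zero_left]
    obtain ⟨A', hA'Ω, hA'⟩ := exists_restr hΩ hφ L hL
    set P := fun x => φ (A' x) with hPdef
    have hP : QF P := hqφ.comp A'.toLinearMap
    have hψ : restr P = bin a b d := hA'.trans (funext hLψ)
    have hψB : ∀ y z, pB P (Fin.cons 0 y) (Fin.cons 0 z) = pB (bin a b d) y z := fun y z => by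
      rw [← hψ]; exact (pB_comp (Q := P) (tailEmb F 2) y z).symm
    have hrP : ∀ x, P x = 0 → (∀ y, pB P x y = 0) → x = 0 := by
      intro x hx hxy
      have hmem : A (A' x) ∈ rad h := ⟨hx, fun z => by
        have := hxy (A'.symm (A.symm z))
        simpa [pB, P, φ] using this⟩
      rw [hr, Submodule.mem_bot] at hmem
      exact A'.injective (A.injective (hmem.trans (by simp)))
    -- the vector orthogonal to the hyperplane
    set β₀ := pB P (Pi.single 0 1) (Fin.cons 0 ![1, 0])
    set β₁ := pB P (Pi.single 0 1) (Fin.cons 0 ![0, 1])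
    set Δ := b * b - 4 * a * d
    set w₀ : Fin 2 → F := ![(2 * d * β₀ - b * β₁) / Δ, (2 * a * β₁ - b * β₀) / Δ]
    have hperp : ∀ z, pB P (Fin.cons 1 w₀) (Fin.cons 0 z) = 0 := by
      intro z
      have hz : (Fin.cons 0 z : Fin 3 → F) = z 0 • Fin.cons 0 ![1, 0] + z 1 • Fin.cons 0 ![0, 1] := by
        funext i; fin_cases i
        · simp
        · show z 0 = z 0 * 1 + z 1 * 0; simp
        · show z 1 = z 0 * 0 + z 1 * 1; simp
      rw [cons_eq, hP.add_left, one_smul, hψB, hz, hP.add_right, hP.smul_right, hP.smul_right, pB_bin]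
      show z 0 * β₀ + z 1 * β₁ + (2 * a * ((2 * d * β₀ - b * β₁) / Δ * z 0) +
        b * ((2 * d * β₀ - b * β₁) / Δ * z 1 + (2 * a * β₁ - b * β₀) / Δ * z 0) +
        2 * d * ((2 * a * β₁ - b * β₀) / Δ * z 1)) = 0
      field_simp
      simp only [Δ]
      ring
    have hα : P (Fin.cons 1 w₀) ≠ 0 := fun hα => by
      have hx : (Fin.cons 1 w₀ : Fin 3 → F) = 0 := hrP _ hα fun x => by
        have hxe : x = x 0 • Fin.cons 1 w₀ + Fin.cons 0 (Fin.tail x - x 0 • w₀) := funext fun i => by
          cases i using Fin.cases <;> simp [Fin.tail]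
        rw [hxe, hP.add_right, hP.smul_right, hperp, hP.self, hα]; ring
      simpa using congrFun hx 0
    let g : Fˣ × (Fin 2 → F) → (Fin 3 → F) → F := fun p x =>
      P (lift p.1 ((p.1 : F) • w₀ + p.2) (LinearEquiv.refl F _) x)
    have hg : ∀ p (t : F) (y : Fin 2 → F), g p (Fin.cons t y) =
        ((p.1 : F) * t) * ((p.1 : F) * t) * P (Fin.cons 1 w₀) + bin a b d (y + t • p.2) := fun p t y => by
      have e : (Fin.cons ((p.1 : F) * t) (y + t • ((p.1 : F) • w₀ + p.2)) : Fin 3 → F) =
          ((p.1 : F) * t) • Fin.cons 1 w₀ + Fin.cons 0 (y + t • p.2) := by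
        funext i; cases i using Fin.cases <;> simp <;> ring
      simp only [g, lift_cons, LinearEquiv.refl_apply, e, q_add P, hP.smul, hP.smul_left, hperp, mul_zero, add_zero]
      rw [← hψ]
      rfl
    have h1 := Finset.card_le_mul_card_image_of_maps_to (f := g)
      (s := (Finset.univ : Finset (Fˣ × (Fin 2 → F)))) (t := Ω.filter fun R => restr R = bin a b d)
      (fun p _ => Finset.mem_filter.2 ⟨hΩ P hA'Ω _, funext fun y => by
        show g p (Fin.cons 0 y) = _; rw [hg]; simp⟩) (gsq F) (fun R _ => ?_)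
    · rw [Finset.card_univ, Fintype.card_prod, Fintype.card_units, card_tail, mul_comm] at h1
      exact h1
    by_cases hR : ∃ p, g p = R
    swap
    · rw [Finset.filter_false_of_mem fun p _ e => hR ⟨p, e⟩]; simp
    obtain ⟨⟨s₀, v₀⟩, rfl⟩ := hR
    refine le_trans (Finset.card_le_card_of_injOn (t := ({(s₀ : F), -(s₀ : F)} : Finset F)) (fun p => (p.1 : F)) ?_ ?_)
      (card_pm (F := F) (s₀ : F))
    · intro p hp
      simp only [Finset.coe_filter, Finset.mem_univ, true_and, Set.mem_setOf_eq] at hp
      have hv : p.2 = v₀ := sub_eq_zero.1 (bin_nondeg ht fun z => by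
        have e1 := congrFun hp (Fin.cons 1 z)
        have e2 := congrFun hp (Fin.cons 1 0)
        simp only [hg, mul_one, one_smul, zero_add] at e1 e2
        simp only [pB, bin, Pi.add_apply, Pi.sub_apply] at e1 e2 ⊢
        linear_combination e1 - e2)
      have e2 := congrFun hp (Fin.cons 1 0)
      simp only [hg, mul_one, one_smul, zero_add, hv, add_left_inj] at e2
      rcases sq_eq (mul_right_cancel₀ hα e2) with k | k <;> simp [k]
    · intro p hp p' hp' e
      simp only [Finset.coe_filter, Finset.mem_univ, true_and, Set.mem_setOf_eq] at hp hp'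
      refine Prod.ext (Units.ext e) (sub_eq_zero.1 (bin_nondeg ht fun z => ?_))
      have e1 := congrFun (hp.trans hp'.symm) (Fin.cons 1 z)
      have e2 := congrFun (hp.trans hp'.symm) (Fin.cons 1 0)
      simp only [hg, mul_one, one_smul, zero_add] at e1 e2
      simp only [pB, bin, Pi.add_apply, Pi.sub_apply] at e1 e2 ⊢
      linear_combination e1 - e2
  -- add the two contributions
  have hdisj : Disjoint R1 R2 := Finset.disjoint_left.2 fun ψ h1 h2 => by
    obtain ⟨l, -, rfl⟩ := Finset.mem_image.1 h1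
    obtain ⟨⟨a, b, d⟩, ht, e⟩ := Finset.mem_image.1 h2
    obtain ⟨ea, eb, ed⟩ := bin_inj e
    dsimp only at ea eb ed
    refine (Finset.mem_filter.1 ht).2 ?_
    dsimp only
    rw [ea, eb, ed]; ring
  set f := fun ψ => (Ω.filter fun R => restr R = ψ).card
  have hsum : ∑ ψ ∈ R1 ∪ R2, f ψ ≤ Ω.card := by
    have e := Finset.card_eq_sum_card_fiberwise (f := restr) (s := Ω) (t := Finset.univ)
      (fun _ _ => Finset.mem_univ _)
    rw [e]
    exact Finset.sum_le_sum_of_subset (Finset.subset_univ _)
  rw [Finset.sum_union hdisj] at hsum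
  have h1 : R1.card * (q ^ 2 * (q - 1)) ≤ ∑ ψ ∈ R1, f ψ := by
    simpa using Finset.card_nsmul_le_sum R1 f _ hfib1
  have h2 : R2.card * (q ^ 2 * (q - 1)) ≤ gsq F * ∑ ψ ∈ R2, f ψ := by
    rw [Finset.mul_sum]
    simpa using Finset.card_nsmul_le_sum R2 (fun ψ => gsq F * f ψ) _ hfib2
  have hsplit : q ^ 3 - 1 = (q ^ 2 - 1) + (q ^ 3 - q ^ 2) := by
    have : q ^ 2 ≤ q ^ 3 := Nat.pow_le_pow_right hq (by norm_num)
    have : 1 ≤ q ^ 2 := Nat.one_le_pow _ _ hq
    omega
  calc q ^ 2 * (q - 1) * (q ^ 3 - 1)
      = (q ^ 2 - 1) * (q ^ 2 * (q - 1)) + (q ^ 3 - q ^ 2) * (q ^ 2 * (q - 1)) := by rw [hsplit]; ring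
    _ ≤ gsq F * R1.card * (q ^ 2 * (q - 1)) + R2.card * (q ^ 2 * (q - 1)) :=
        Nat.add_le_add (Nat.mul_le_mul_right _ hR1) (Nat.mul_le_mul_right _ hR2)
    _ ≤ gsq F * ∑ ψ ∈ R1, f ψ + gsq F * ∑ ψ ∈ R2, f ψ :=
        Nat.add_le_add (by rw [mul_assoc]; exact Nat.mul_le_mul_left _ h1) h2
    _ ≤ gsq F * Ω.card := by rw [← Nat.mul_add]; exact Nat.mul_le_mul_left _ hsum

/-- The Gram matrix. -/
def gram (Q : (Fin n → F) → F) : Matrix (Fin n) (Fin n) F :=
  Matrix.of fun i j => pB Q (Pi.single i 1) (Pi.single j 1)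

theorem pB_eq_gram {Q : (Fin n → F) → F} (h : QF Q) (x y : Fin n → F) : pB Q x y = x ⬝ᵥ (gram Q *ᵥ y) := by
  let B : (Fin n → F) →ₗ[F] (Fin n → F) →ₗ[F] F := LinearMap.mk₂ F (pB Q) h.add_left h.smul_left
    (fun w u v => h.add_right u v w) (fun a w v => h.smul_right a v w)
  have e : LinearMap.toMatrix₂' F B = gram Q := by
    ext i j; simp [gram, B]
  rw [← e, ← Matrix.toLinearMap₂'_apply' (LinearMap.toMatrix₂' F B), Matrix.toLinearMap₂'_toMatrix']
  rfl

/-- Over three elements a non-degenerate ternary form is not equivalent to its negative. -/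
theorem neg_not_mem (h3 : Fintype.card F = 3) {Q : (Fin 3 → F) → F} (h : QF Q) (hr : rad h = ⊥)
    (A : (Fin 3 → F) ≃ₗ[F] (Fin 3 → F)) : (fun x => Q (A x)) ≠ fun x => -Q x := by
  intro e
  have h2 : (2 : F) ≠ 0 := fun h2 => by
    have hcp : CharP F 2 := CharTwo.of_one_ne_zero_of_two_eq_zero one_ne_zero h2
    obtain ⟨k, -, hk⟩ := FiniteField.card F 2
    rw [h3] at hk
    rcases k with ⟨_ | _ | k, hk'⟩ <;> simp [pow_succ] at hk hk'
    omega
  set M := LinearMap.toMatrix' A.toLinearMap
  have hG : Mᵀ * gram Q * M = -gram Q := by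
    ext i j
    have h1 : pB (fun x => Q (A x)) (Pi.single i 1) (Pi.single j 1) = -pB Q (Pi.single i 1) (Pi.single j 1) := by
      rw [e]; simp [pB]; ring
    rw [show (fun x => Q (A x)) = fun x => Q (A.toLinearMap x) from rfl, pB_comp, pB_eq_gram h] at h1
    have hM : ∀ k, A.toLinearMap (Pi.single k 1) = M *ᵥ Pi.single k 1 := fun k =>
      (LinearMap.toMatrix'_mulVec _ _).symm
    rw [hM, hM, ← vecMul_transpose, ← Matrix.dotProduct_mulVec, Matrix.mulVec_mulVec, Matrix.mulVec_mulVec] at h1
    simp only [Matrix.neg_apply]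
    rw [show gram Q i j = pB Q (Pi.single i 1) (Pi.single j 1) from rfl, ← h1, Matrix.mulVec_single_one,
      single_dotProduct, one_mul, Matrix.col_apply, Matrix.mul_assoc]
  have hd := congrArg Matrix.det hG
  rw [det_mul, det_mul, det_transpose, det_neg, Fintype.card_fin] at hd
  have hG0 : (gram Q).det ≠ 0 := fun h0 => by
    obtain ⟨v, hv, hGv⟩ := Matrix.exists_mulVec_eq_zero_iff.2 h0
    have hvB : ∀ y, pB Q v y = 0 := fun y => by rw [pB_comm, pB_eq_gram h, hGv, dotProduct_zero]
    refine hv ?_
    have hv0 : Q v = 0 := by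
      have := h.self v
      rw [hvB, eq_comm, mul_eq_zero] at this
      exact this.resolve_left h2
    have hmem : v ∈ rad h := ⟨hv0, hvB⟩
    rwa [hr, Submodule.mem_bot] at hmem
  have hsq : M.det * M.det = -1 := mul_right_cancel₀ hG0 (by linear_combination hd)
  have hM0 : M.det ≠ 0 := fun h0 => by
    rw [h0, mul_zero] at hsq
    exact one_ne_zero (by linear_combination hsq : (1 : F) = 0)
  have := FiniteField.pow_card_sub_one_eq_one _ hM0
  rw [h3, show (3 - 1) = 2 from rfl, sq, hsq] at this
  exact h2 (by linear_combination -this)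

end Count

end CfsgLib.MinIndexSp
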