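import Cfsg.Agent.Lib.MinIndexSp.Chars
import Cfsg.Agent.Lib.MinIndexSp.Iso
import Cfsg.Agent.Lib.SpEvenMinDegree.Main

/-!
Subgroups of small index of `Sp(2m, 2)`: the radical of a point stabiliser.
-/

set_option autoImplicit false
set_option linter.unusedSectionVars false

namespace CfsgLib.MinIndexSp.Two

open Matrix Cfsg Module
open CfsgLib.Classical.SympTrans
open CfsgLib.Classical.SympStab (centres app_mem_centres eq_top_of_centres E app_E)
open CfsgLib.RankOne (psi)

variable {F : Type*} [Field F] [Fintype F] [DecidableEq F] {m : ℕ}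

local notation "V" => (Fin m ⊕ Fin m → F)
local notation "ω" => sympForm m F

theorem zero_or_one (h2 : Fintype.card F = 2) (x : F) : x = 0 ∨ x = 1 := by
  by_contra hc
  push Not at hc
  have : ({0, 1, x} : Finset F).card ≤ 2 := h2 ▸ Finset.card_le_univ _
  rw [Finset.card_insert_of_notMem (by simp [hc.1.symm]), Finset.card_insert_of_notMem (by simp [hc.2.symm]),
    Finset.card_singleton] at this
  omega

theorem two_eq_zero (h2 : Fintype.card F = 2) : (2 : F) = 0 := by
  rcases zero_or_one h2 (1 + 1) with e | e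
  · linear_combination e
  · exact absurd (add_eq_left.1 e) one_ne_zero

theorem psi_one (h2 : Fintype.card F = 2) : psi F (1 : F) = -1 := by
  have h := CfsgLib.RankOne.psi_sum (1 : F)
  rw [if_neg one_ne_zero, show (Finset.univ : Finset F) = {0, 1} from Finset.eq_univ_iff_forall.2 (fun x => by
    rcases zero_or_one h2 x with rfl | rfl <;> simp) |>.symm, Finset.sum_pair zero_ne_one] at h
  rw [mul_zero, mul_one, AddChar.map_zero_eq_one] at h
  linear_combination h

theorem psi_cancel (h2 : Fintype.card F = 2) {x y : F} (h : psi F x = psi F y) : x = y :=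
  CfsgLib.SpEvenMinDegree.psi_inj fun c => by
    rcases zero_or_one h2 c with rfl | rfl
    · rw [mul_zero, mul_zero]
    · rw [mul_one, mul_one, h]

/-- The form whose alternation is `ω`. -/
def β (a b : V) : F := ∑ i, a (.inl i) * b (.inr i)

theorem β_add_left (a a' b : V) : β (a + a') b = β a b + β a' b := by
  simp [β, add_mul, Finset.sum_add_distrib]

theorem β_add_right (a b b' : V) : β a (b + b') = β a b + β a b' := by
  simp [β, mul_add, Finset.sum_add_distrib]

theorem f_eq_β (h2 : (2 : F) = 0) (a b : V) : ω a b = β b a + β a b := by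
  rw [f_apply, β, β, Finset.sum_sub_distrib, Finset.sum_congr rfl fun i _ => mul_comm (a (.inr i)) (b (.inl i))]
  linear_combination (-∑ i, a (.inl i) * b (.inr i)) * h2

variable (F m) in
/-- The first basis vector. -/
def e₁ (hm : 0 < m) : V := Pi.single (.inl ⟨0, hm⟩) 1

variable (hm : 0 < m)
include hm

theorem f_e₁ (a : V) : ω a (e₁ F m hm) = a (.inr ⟨0, hm⟩) := f_inl _ _

theorem W_perp (a : (W 1 : Submodule F V)) : ω (a : V) (e₁ F m hm) = 0 := by
  rw [f_e₁]; exact (a.2 ⟨0, hm⟩ Nat.zero_lt_one).2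

/-- The elements of the radical. -/
def el (a : V) (d : F) : Matrix.symplecticGroup (Fin m) F :=
  E a (e₁ F m hm) * T (e₁ F m hm) (d + β a a)

theorem app_el {a : V} (ha : ω a (e₁ F m hm) = 0) (d : F) (x : V) :
    app (el hm a d) x = x + (ω x a + (d + β a a) * ω x (e₁ F m hm)) • e₁ F m hm + ω x (e₁ F m hm) • a := by
  have h' : ω (e₁ F m hm) a = 0 := by rw [f_swap, ha, neg_zero]
  rw [el, app_mul, app_T, app_E ha, f_add_left, f_add_left, f_smul_left, f_smul_left, f_self, h', mul_zero,
    add_zero, add_zero]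
  module

/-- The radical of the stabiliser of the first basis vector, as an additive group. -/
def rd (h2 : (2 : F) = 0) : AddChar ((W 1 : Submodule F V) × F) (Matrix.symplecticGroup (Fin m) F) where
  toFun z := el hm (z.1 : V) z.2
  map_zero_eq_one' := ext_app fun x => by
    rw [app_one, app_el hm (by simp [f_zero_left])]
    simp [β, f_zero_right]
  map_add_eq_mul' := fun z z' => by
    obtain ⟨a, d⟩ := z
    obtain ⟨a', d'⟩ := z'
    refine ext_app fun x => ?_
    have ha := W_perp hm a
    have ha' := W_perp hm a'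
    have hea : ω (e₁ F m hm) (a : V) = 0 := by rw [f_swap, ha, neg_zero]
    have hee := f_self (e₁ F m hm)
    show app (el hm ((a : V) + (a' : V)) (d + d')) x = _
    rw [app_mul, app_el hm ha', app_el hm ha, app_el hm (by rw [f_add_left, ha, ha', add_zero])]
    simp only [f_add_left, f_add_right, f_smul_left, ha', hea, hee, mul_zero, add_zero]
    rw [β_add_left, β_add_right, β_add_right, f_eq_β h2 (a' : V) (a : V)]
    module

theorem rd_apply (h2 : (2 : F) = 0) (a : (W 1 : Submodule F V)) (d : F) : rd hm h2 (a, d) = el hm (a : V) d := rfl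

theorem rd_one (h2 : (2 : F) = 0) : rd hm h2 ((0 : (W 1 : Submodule F V)), (1 : F)) = T (e₁ F m hm) 1 :=
  ext_app fun x => by
    rw [rd_apply, ZeroMemClass.coe_zero, app_el hm (f_zero_left _), app_T, f_zero_right]
    simp [β]

theorem gen_fixes {h : Matrix.symplecticGroup (Fin m) F} (hh : h ∈ gen ((W 1 : Submodule F V) : Set V)) :
    app h (e₁ F m hm) = e₁ F m hm ∧ app h (Pi.single (.inr ⟨0, hm⟩) 1) = Pi.single (.inr ⟨0, hm⟩) (1 : F) := by
  refine ⟨gen_fix (fun v hv => ?_) hh, gen_fix (fun v hv => ?_) hh⟩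
  · rw [f_swap, W_perp hm ⟨v, hv⟩, neg_zero]
  · rw [f_swap, f_inr, neg_neg]; exact (hv ⟨0, hm⟩ Nat.zero_lt_one).1

theorem gen_W {h : Matrix.symplecticGroup (Fin m) F} (hh : h ∈ gen ((W 1 : Submodule F V) : Set V)) {a : V}
    (ha : a ∈ W 1) : app h a ∈ W 1 := by
  obtain ⟨e1, e2⟩ := gen_fixes hm hh
  intro i hi
  obtain rfl : i = ⟨0, hm⟩ := Fin.ext (by simpa using hi)
  constructor
  · have h3 := f_app h a (Pi.single (.inr ⟨0, hm⟩) 1)
    rw [e2, f_inr, f_inr, (ha _ hi).1] at h3
    simpa using h3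
  · have h3 := f_app h a (e₁ F m hm)
    rw [e1, f_e₁, f_e₁, (ha _ hi).2] at h3
    exact h3

/-- The action of the centraliser on the parameters. -/
def σ (h2 : (2 : F) = 0) {h : Matrix.symplecticGroup (Fin m) F} (hh : h ∈ gen ((W 1 : Submodule F V) : Set V)) :
    (W 1 : Submodule F V) × F →+ (W 1 : Submodule F V) × F :=
  AddMonoidHom.mk' (fun z => (⟨app h z.1, gen_W hm hh z.1.2⟩, z.2 + β (z.1 : V) z.1 + β (app h z.1) (app h z.1)))
    fun z z' => by
      refine Prod.ext (Subtype.ext (app_add h _ _)) ?_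
      show z.2 + z'.2 + β ((z.1 : V) + (z'.1 : V)) ((z.1 : V) + (z'.1 : V)) + β (app h ((z.1 : V) + (z'.1 : V))) (app h ((z.1 : V) + (z'.1 : V))) =
        (z.2 + β (z.1 : V) z.1 + β (app h z.1) (app h z.1)) + (z'.2 + β (z'.1 : V) z'.1 + β (app h z'.1) (app h z'.1))
      have e := f_app h (z.1 : V) z'.1
      rw [f_eq_β h2, f_eq_β h2] at e
      rw [app_add]
      simp only [β_add_left, β_add_right]
      linear_combination e + (β (z.1 : V) z'.1 + β (z'.1 : V) z.1) * h2

theorem conj_rd (h2 : (2 : F) = 0) {h : Matrix.symplecticGroup (Fin m) F}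
    (hh : h ∈ gen ((W 1 : Submodule F V) : Set V)) (z : (W 1 : Submodule F V) × F) :
    h * rd hm h2 z * h⁻¹ = rd hm h2 (σ hm h2 hh z) := by
  rw [mul_inv_eq_iff_eq_mul]
  refine ext_app fun x => ?_
  obtain ⟨e1, -⟩ := gen_fixes hm hh
  show app (h * el hm (z.1 : V) z.2) x =
    app (el hm (app h z.1) (z.2 + β (z.1 : V) z.1 + β (app h z.1) (app h z.1)) * h) x
  rw [app_mul, app_mul, app_el hm (W_perp hm z.1), app_el hm (W_perp hm ⟨_, gen_W hm hh z.1.2⟩)]
  rw [app_add, app_add, app_smul, app_smul, e1]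
  have f1 : ω (app h x) (e₁ F m hm) = ω x (e₁ F m hm) := by
    conv_lhs => rw [← e1, f_app]
  rw [f1, f_app, show z.2 + β (z.1 : V) z.1 + β (app h z.1) (app h z.1) + β (app h z.1) (app h z.1) =
    z.2 + β (z.1 : V) z.1 by linear_combination β (app h (z.1 : V)) (app h (z.1 : V)) * h2]

theorem card_W (hq : Fintype.card F = 2) : Nat.card (W 1 : Submodule F V) = 2 ^ (2 * (m - 1)) := by
  let p : V →ₗ[F] (F × F) := (LinearMap.proj (.inl ⟨0, hm⟩)).prod (LinearMap.proj (.inr ⟨0, hm⟩))
  have hker : LinearMap.ker p = W 1 := by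
    ext x
    rw [LinearMap.mem_ker]
    constructor
    · intro h i hi
      obtain rfl : i = ⟨0, hm⟩ := Fin.ext (by simpa using hi)
      exact ⟨congrArg Prod.fst h, congrArg Prod.snd h⟩
    · intro h
      exact Prod.ext (h ⟨0, hm⟩ Nat.zero_lt_one).1 (h ⟨0, hm⟩ Nat.zero_lt_one).2
  have hs : Function.Surjective p := fun z => ⟨z.1 • Pi.single (.inl ⟨0, hm⟩) 1 + z.2 • Pi.single (.inr ⟨0, hm⟩) 1,
    by ext <;> simp [p]⟩
  have h1 := p.finrank_range_add_finrank_ker
  rw [hker, LinearMap.range_eq_top.2 hs, finrank_top, Module.finrank_prod, Module.finrank_self,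
    Module.finrank_pi, Fintype.card_sum, Fintype.card_fin] at h1
  rw [Module.natCard_eq_pow_finrank (K := F), Nat.card_eq_fintype_card, hq]
  congr 1
  omega

/-- The character `a ↦ (-1)^ω(a,b)`. -/
noncomputable def pair (b : V) : AddChar (W 1 : Submodule F V) ℂ :=
  (psi F).compAddMonoidHom (AddMonoidHom.mk' (fun a : (W 1 : Submodule F V) => ω (a : V) b)
    fun a a' => by simp only [Submodule.coe_add, f_add_left])

omit hm in
theorem pair_apply (b : V) (a : (W 1 : Submodule F V)) : pair (F := F) (m := m) b a = psi F (ω (a : V) b) := by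
  simp only [pair, AddChar.compAddMonoidHom_apply, AddMonoidHom.mk'_apply]

theorem exists_char (h2 : (2 : F) = 0) (χ : AddChar ((W 1 : Submodule F V) × F) ℂ)
    (h1 : χ (0, 1) = 1) (hq : Fintype.card F = 2) :
    ∃ b : (W 1 : Submodule F V), ∀ z, χ z = psi F (ω (z.1 : V) b) := by
  have : Finite (W 1 : Submodule F V) := inferInstance
  have := Fintype.ofFinite (W 1 : Submodule F V)
  have hinj : Function.Injective fun b : (W 1 : Submodule F V) => pair (F := F) (m := m) (b : V) := by
    intro b b' e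
    have e0 : pair (F := F) (m := m) (b : V) = pair (b' : V) := e
    by_contra hne
    obtain ⟨z, hz, hbz⟩ := exists_f_ne (k := 1) (u := (((b - b' : (W 1 : Submodule F V))) : V)) (b - b').2 (fun h => hne (sub_eq_zero.1 (Subtype.ext h)))
    have e' : psi F (ω z (b : V)) = psi F (ω z (b' : V)) := by
      rw [← pair_apply (b : V) ⟨z, hz⟩, e0, pair_apply]
    rw [Submodule.coe_sub, f_swap, neg_ne_zero, f_sub_right, sub_ne_zero] at hbz
    exact hbz (psi_cancel hq e')
  obtain ⟨b, hb⟩ := ((Fintype.bijective_iff_injective_and_card _).2 ⟨hinj, AddChar.card_eq.symm⟩).2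
    (χ.compAddMonoidHom (AddMonoidHom.inl _ F))
  refine ⟨b, fun z => ?_⟩
  obtain ⟨a, d⟩ := z
  have hd : χ ((0 : (W 1 : Submodule F V)), d) = 1 := by
    rcases zero_or_one hq d with rfl | rfl
    · exact AddChar.map_zero_eq_one χ
    · exact h1
  show χ (a, d) = psi F (ω (a : V) b)
  rw [show ((a, d) : (W 1 : Submodule F V) × F) = (a, 0) + (0, d) by simp, AddChar.map_add_eq_mul, hd, mul_one]
  have := (DFunLike.congr_fun hb a).symm
  rw [pair_apply, AddChar.compAddMonoidHom_apply, AddMonoidHom.inl_apply] at this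
  exact this

variable (K : Subgroup (Matrix.symplecticGroup (Fin m) F))

local notation "P" => ((W 1 : Submodule F V) × F)

theorem rad_fixes (hq : Fintype.card F = 2) (hK : K ≠ ⊤) (hperf : commutator (Matrix.symplecticGroup (Fin m) F) = ⊤)
    (hd : K.index < 2 ^ (m - 1) * (2 ^ m - 1)) (x : Matrix.symplecticGroup (Fin m) F ⧸ K)
    (hx : rd hm (two_eq_zero hq) ((0 : (W 1 : Submodule F V)), (1 : F)) • x = x) (z : P) :
    rd hm (two_eq_zero hq) z • x = x := by
  classical
  have h2 := two_eq_zero hq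
  set u := rd hm (two_eq_zero hq) with hu
  set z₁ : P := (0, 1) with hz₁
  by_contra hz'
  have hcomm : ∀ (w w' : P) (y : Matrix.symplecticGroup (Fin m) F ⧸ K), u w • u w' • y = u w' • u w • y := fun w w' y => by
    rw [← mul_smul, ← mul_smul, ← AddChar.map_add_eq_mul, ← AddChar.map_add_eq_mul, add_comm]
  set Fx : Set (Matrix.symplecticGroup (Fin m) F ⧸ K) := {y | u z₁ • y = y} with hFx
  have hFinv : ∀ a, ∀ y ∈ Fx, u a • y ∈ Fx := fun a y hy => by
    show u z₁ • u a • y = u a • y
    rw [hcomm, show u z₁ • y = y from hy]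
  have hMinv : ∀ a, ∀ y ∈ Fxᶜ, u a • y ∈ Fxᶜ := fun a y hy h => hy (by
    have h' : u z₁ • u a • y = u a • y := h
    rw [hcomm] at h'
    exact (smul_left_cancel_iff _).1 h')
  have hsq : ∀ (χ : AddChar P ℂ) w, χ w = 1 ∨ χ w = -1 := fun χ w => by
    refine mul_self_eq_one_iff.1 ?_
    rw [← AddChar.map_add_eq_mul, show w + w = 0 from Prod.ext (Subtype.ext (funext fun i => by
      show (w.1 : V) i + (w.1 : V) i = 0; linear_combination (w.1 : V) i * h2))
      (by show w.2 + w.2 = 0; linear_combination w.2 * h2), AddChar.map_zero_eq_one]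
  -- moved cosets
  obtain ⟨y₀, hy₀⟩ : ∃ y, y ∈ Fxᶜ := by
    by_contra hc
    push Not at hc
    have hcore : T (e₁ F m hm) (1 : F) ∈ K.normalCore := fun b => by
      have h : u z₁ • ((b⁻¹ : Matrix.symplecticGroup (Fin m) F) : _ ⧸ K) = ((b⁻¹ : Matrix.symplecticGroup (Fin m) F) : _ ⧸ K) := by
        by_contra hne; exact hc _ hne
      rw [hu, hz₁, rd_one, MulAction.Quotient.smul_coe, smul_eq_mul, eq_comm, QuotientGroup.eq, inv_inv, ← mul_assoc] at h
      exact h
    rcases commutator_le_or_le_center K.normalCore with h | h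
    · obtain ⟨v, hv⟩ := T_notMem_center (F := F) (m := m) (by omega)
      have hv0 : v ≠ 0 := fun e => hv (by rw [e, T_zero']; exact one_mem _)
      obtain ⟨g, hg⟩ := exists_app_eq (v := e₁ F m hm) (w := v) (by simp [e₁]) hv0
      exact hv (h (by rw [← hg, ← conj_T]; exact Subgroup.Normal.conj_mem inferInstance _ hcore g))
    · exact hK (top_le_iff.1 (hperf ▸ h.trans K.normalCore_le))
  have hns : z₁ ∉ St u y₀ := hy₀
  obtain ⟨χ, hχ, hne⟩ := exists_at (A := P) u hns
  have hχ1 : χ z₁ = -1 := (hsq χ z₁).resolve_left hne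
  let g : (W 1 : Submodule F V) → ℂ := fun a => χ (a, β (a : V) a)
  have hg2 : ∀ a, g a = 1 ∨ g a = -1 := fun a => hsq χ _
  have hz : ∀ d : F, χ ((0 : (W 1 : Submodule F V)), d) = psi F d := fun d => by
    rcases zero_or_one hq d with rfl | rfl
    · rw [AddChar.map_zero_eq_one (psi F)]; exact AddChar.map_zero_eq_one χ
    · rw [psi_one hq]; exact hχ1
  have hgadd : ∀ a b, g (a + b) = g a * g b * psi F (ω (a : V) b) := fun a b => by
    rw [← hz, ← AddChar.map_add_eq_mul, ← AddChar.map_add_eq_mul]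
    refine congrArg χ (Prod.ext (by simp) ?_)
    show β ((a : V) + (b : V)) ((a : V) + (b : V)) = β (a : V) a + β (b : V) b + ω (a : V) b
    rw [f_eq_β h2, β_add_left, β_add_right, β_add_right]; ring
  have := Fintype.ofFinite (W 1 : Submodule F V)
  set Z := Finset.univ.filter fun a : (W 1 : Submodule F V) => g a = 1 with hZ
  -- the Gauss sum
  set n := 2 ^ (m - 1) with hn
  have hcW : Fintype.card (W 1 : Submodule F V) = n * n := by
    rw [← Nat.card_eq_fintype_card, card_W hm hq, hn, ← pow_add, two_mul]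
  have hS1 : ∑ a, g a = ((2 * (Z.card : ℤ) - (n * n : ℕ) : ℤ) : ℂ) := by
    have h1 : ∑ a, (g a + 1) = 2 * (Z.card : ℂ) := by
      rw [Finset.sum_congr rfl (g := fun a => if g a = 1 then (2 : ℂ) else 0) (fun a _ => by
        rcases hg2 a with h | h <;> rw [h] <;> norm_num), ← Finset.sum_filter, Finset.sum_const, nsmul_eq_mul,
        mul_comm]
    rw [Finset.sum_add_distrib, Finset.sum_const, Finset.card_univ, nsmul_one, hcW] at h1
    push_cast at h1 ⊢
    linear_combination h1
  have hS2 : (∑ a, g a) * (∑ a, g a) = (n * n : ℕ) := by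
    rw [Finset.sum_mul_sum]
    have h1 : ∀ a, ∑ b, g a * g b = ∑ c, g c * psi F (ω (a : V) c) := fun a => by
      rw [← Equiv.sum_comp (Equiv.addLeft a) fun b => g a * g b]
      refine Finset.sum_congr rfl fun c _ => ?_
      show g a * g (a + c) = _
      rw [hgadd]
      rcases hg2 a with h | h <;> rw [h] <;> ring
    rw [Finset.sum_congr rfl fun a _ => h1 a, Finset.sum_comm, Finset.sum_congr rfl fun c _ => (Finset.mul_sum _ _ _).symm,
      Finset.sum_eq_single (0 : (W 1 : Submodule F V))]
    · have h0 : g 0 = 1 := by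
        show χ (0, β ((0 : (W 1 : Submodule F V)) : V) _) = 1
        rw [show β ((0 : (W 1 : Submodule F V)) : V) ((0 : (W 1 : Submodule F V)) : V) = 0 by simp [β]]
        exact AddChar.map_zero_eq_one χ
      simp [h0, f_zero_right, hcW]
    · intro c _ hc
      obtain ⟨w, hw, hwc⟩ := exists_f_ne (k := 1) (u := (c : V)) c.2 (fun h => hc (Subtype.ext h))
      have hη : pair (c : V) ≠ (0 : AddChar (W 1 : Submodule F V) ℂ) := fun h0 => by
        have := DFunLike.congr_fun h0 (⟨w, hw⟩ : (W 1 : Submodule F V))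
        rw [pair_apply, AddChar.zero_apply] at this
        refine hwc ?_
        rw [f_swap, psi_cancel hq (this.trans (AddChar.map_zero_eq_one (psi F)).symm), neg_zero]
      rw [← Finset.sum_congr rfl (fun a _ => pair_apply (c : V) a),
        AddChar.sum_eq_zero_iff_ne_zero.2 hη, mul_zero]
    · simp
  have hZn : n * n ≤ 2 * Z.card + n := by
    rw [hS1] at hS2
    have h3 : (2 * (Z.card : ℤ) - (n * n : ℕ)) * (2 * (Z.card : ℤ) - (n * n : ℕ)) = (n : ℤ) * n := by
      have h4 : ((2 * (Z.card : ℤ) - (n * n : ℕ) : ℤ) : ℂ) * ((2 * (Z.card : ℤ) - (n * n : ℕ) : ℤ) : ℂ) =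
          (((n : ℤ) * n : ℤ) : ℂ) := hS2.trans (by push_cast; ring)
      exact_mod_cast h4
    rcases mul_self_eq_mul_self_iff.1 h3 with h | h <;> push_cast at h <;> zify <;> linarith
  -- the moved part
  have hM : 2 * Z.card ≤ Nat.card (Fxᶜ : Set (Matrix.symplecticGroup (Fin m) F ⧸ K)) := by
    let h : (W 1 : Submodule F V) → Matrix.symplecticGroup (Fin m) F := fun a => T (a : V) 1
    have hh : ∀ a, h a ∈ gen ((W 1 : Submodule F V) : Set V) := fun a =>
      T_mem_gen (W := ((W 1 : Submodule F V) : Set V)) a.2 1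
    have hhh : ∀ a, h a * h a = 1 := fun a => by
      show T (a : V) 1 * T (a : V) 1 = 1
      rw [T_mul, show (1 : F) + 1 = 0 by linear_combination h2, T_zero]
    let χ' : (W 1 : Submodule F V) → AddChar P ℂ := fun a => χ.compAddMonoidHom (σ hm h2 (hh a))
    have hat : ∀ a, At u (χ' a) (h a • y₀) := fun a w hw => by
      refine hχ _ ?_
      have := (mem_St_conj (A := P) u (conj_rd hm h2 (hh a) w) (h a • y₀)).2 hw
      rwa [← mul_smul, hhh, one_smul] at this
    have hσ1 : ∀ a, σ hm h2 (hh a) z₁ = z₁ := fun a => by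
      refine Prod.ext (Subtype.ext ?_) ?_
      · show app (h a) 0 = 0
        exact mulVec_zero _
      · show (1 : F) + β (0 : V) 0 + β (app (h a) 0) (app (h a) 0) = 1
        rw [show app (h a) (0 : V) = 0 from mulVec_zero _]
        simp [β]
    have hmem : ∀ a, h a • y₀ ∈ Fxᶜ := fun a hy => hy₀ (by
      have h' : z₁ ∈ St u (h a • y₀) := hy
      have := (mem_St_conj (A := P) u (conj_rd hm h2 (hh a) z₁) (h a • y₀)).2 h'
      rw [hσ1, ← mul_smul, hhh, one_smul] at this
      exact this)
    have hneg : ∀ a, χ' a z₁ = -1 := fun a => by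
      show χ (σ hm h2 (hh a) z₁) = -1
      rw [hσ1, hχ1]
    let η : Set (Matrix.symplecticGroup (Fin m) F ⧸ K) → AddChar P ℂ := fun o =>
      if ho : ∃ η : AddChar P ℂ, η z₁ = -1 ∧ ∀ y ∈ o, At u η y then ho.choose else 1
    have hηo : ∀ a, η (orb u (h a • y₀)) z₁ = -1 ∧ At u (η (orb u (h a • y₀))) (h a • y₀) := fun a => by
      have ho : ∃ η : AddChar P ℂ, η z₁ = -1 ∧ ∀ y ∈ orb u (h a • y₀), At u η y :=
        ⟨χ' a, hneg a, by rintro _ ⟨b, rfl⟩; rw [at_smul]; exact hat a⟩
      show (dite _ _ _ : AddChar P ℂ) z₁ = -1 ∧ At u (dite _ _ _ : AddChar P ℂ) _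
      rw [dif_pos ho]
      exact ⟨ho.choose_spec.1, ho.choose_spec.2 _ ⟨0, by simp [AddChar.map_zero_eq_one]⟩⟩
    have hsep' : ∀ a b : {a : (W 1 : Submodule F V) // g a = 1}, χ' a.1 = χ' b.1 → a.1 = b.1 := by
      have key : ∀ a : (W 1 : Submodule F V), g a = 1 → ∀ w : (W 1 : Submodule F V),
          χ' a (w, β (w : V) w) = g w * psi F (ω (w : V) a) := by
        intro a ha w
        have e : χ' a (w, β (w : V) w) = g ⟨app (h a) w, gen_W hm (hh a) w.2⟩ := by
          show χ (_, β (w : V) w + β (w : V) w + β (app (h a) w) (app (h a) w)) = χ (_, β (app (h a) w) (app (h a) w))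
          rw [show β (w : V) w + β (w : V) w = 0 by linear_combination β (w : V) w * h2, zero_add]
        rw [e]
        rcases zero_or_one hq (ω (w : V) a) with hwa | hwa
        · rw [show (⟨app (h a) w, gen_W hm (hh a) w.2⟩ : (W 1 : Submodule F V)) = w from Subtype.ext (by
            show app (T (a : V) 1) w = w
            rw [app_T, hwa, mul_zero, zero_smul, add_zero]), hwa, AddChar.map_zero_eq_one, mul_one]
        · rw [show (⟨app (h a) w, gen_W hm (hh a) w.2⟩ : (W 1 : Submodule F V)) = w + a from Subtype.ext (by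
            show app (T (a : V) 1) w = (w : V) + a
            rw [app_T, hwa, mul_one, one_smul]), hgadd, ha, mul_one]
      intro a b e
      by_contra hne
      obtain ⟨w, hw, hwab⟩ := exists_f_ne (a.1 - b.1).2 (fun h => hne (sub_eq_zero.1 (Subtype.ext h)))
      have e1 := DFunLike.congr_fun e (⟨w, hw⟩, β w w)
      rw [key a.1 a.2 ⟨w, hw⟩, key b.1 b.2 ⟨w, hw⟩] at e1
      rw [Submodule.coe_sub, f_swap, neg_ne_zero, f_sub_right, sub_ne_zero] at hwab
      exact hwab (psi_cancel hq (mul_left_cancel₀ (by rcases hg2 ⟨w, hw⟩ with h | h <;> rw [h] <;> norm_num) e1))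
    refine le_trans (le_of_eq ?_) (card_le_of_pairs (A := P) u Fxᶜ hMinv (ι := Z × Bool) (fun i => h i.1.1 • y₀)
      (fun i => if i.2 then χ' i.1.1 * η (orb u (h i.1.1 • y₀)) else χ' i.1.1) (fun i => hmem _) (fun i => ?_) ?_)
    · rw [Nat.card_prod, Nat.card_eq_finsetCard, Nat.card_eq_fintype_card, Fintype.card_bool, mul_comm]
    · show At u (if i.2 then _ else _) _
      split_ifs
      · exact (hat _).mul (A := P) u (hηo _).2
      · exact hat _
    · rintro ⟨a, ba⟩ ⟨b, bb⟩ ho he
      have ho' : orb u (h a.1 • y₀) = orb u (h b.1 • y₀) := ho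
      have he1 := DFunLike.congr_fun he z₁
      have hsep'' : χ' a.1 = χ' b.1 → a = b := fun e =>
        Subtype.ext (hsep' ⟨a.1, (Finset.mem_filter.1 a.2).2⟩ ⟨b.1, (Finset.mem_filter.1 b.2).2⟩ e)
      cases ba <;> cases bb <;>
        simp only [AddChar.mul_apply, hneg, (hηo _).1, if_true, if_false, Bool.false_eq_true] at he he1
      · rw [hsep'' he]
      · norm_num at he1
      · norm_num at he1
      · rw [ho'] at he
        rw [hsep'' (DFunLike.ext _ _ fun w => mul_right_cancel₀ (AddChar.val_isUnit _ _).ne_zero (DFunLike.congr_fun he w))]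
  -- the fixed part
  have hF : n * n ≤ Nat.card Fx := by
    obtain ⟨χ₀, hχ₀, hne₀⟩ := exists_at (A := P) u (show z ∉ St u x from hz')
    obtain ⟨b₀, hb₀⟩ := exists_char hm h2 χ₀ (hχ₀ z₁ hx) hq
    have hb₀0 : (b₀ : V) ≠ 0 := fun e => hne₀ (by rw [hb₀, e, f_zero_right, AddChar.map_zero_eq_one])
    have hpt : ∀ b : (W 1 : Submodule F V), ∃ y ∈ Fx, ∃ η : AddChar P ℂ, At u η y ∧
        ∀ w, η w = psi F (ω (w.1 : V) b) := by
      intro b
      by_cases hb : (b : V) = 0
      · exact ⟨x, hx, 1, At.one u x, fun w => by rw [AddChar.one_apply, hb, f_zero_right, AddChar.map_zero_eq_one]⟩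
      obtain ⟨k, hk, hkb⟩ := exists_move b.2 b₀.2 hb hb₀0
      refine ⟨k⁻¹ • x, ?_, χ₀.compAddMonoidHom (σ hm h2 hk), fun w hw => hχ₀ _ ?_, fun w => ?_⟩
      · show z₁ ∈ St u (k⁻¹ • x)
        refine (mem_St_conj (A := P) u (conj_rd hm h2 hk z₁) (k⁻¹ • x)).1 ?_
        rw [smul_inv_smul, show σ hm h2 hk z₁ = z₁ from Prod.ext (Subtype.ext (show app k (0 : V) = 0 from mulVec_zero _)) (by
          show (1 : F) + β (0 : V) 0 + β (app k 0) (app k 0) = 1
          rw [show app k (0 : V) = 0 from mulVec_zero _]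
          simp [β])]
        exact hx
      · have := (mem_St_conj (A := P) u (conj_rd hm h2 hk w) (k⁻¹ • x)).2 hw
        rwa [smul_inv_smul] at this
      · show χ₀ (σ hm h2 hk w) = _
        rw [hb₀, ← hkb]
        exact congrArg _ (f_app k _ _)
    choose pt hpt η hat hη using hpt
    refine le_trans (le_of_eq ?_) (card_le_of_pairs (A := P) u Fx hFinv pt η hpt hat fun a b _ e => ?_)
    · rw [Nat.card_eq_fintype_card, hcW]
    · by_contra hne
      obtain ⟨w, hw, hwab⟩ := exists_f_ne (a - b).2 (fun h => hne (sub_eq_zero.1 (Subtype.ext h)))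
      have e1 := DFunLike.congr_fun e (⟨w, hw⟩, 0)
      rw [hη, hη] at e1
      rw [Submodule.coe_sub, f_swap, neg_ne_zero, f_sub_right, sub_ne_zero] at hwab
      exact hwab (psi_cancel hq e1)
  have htot : Nat.card Fx + Nat.card (Fxᶜ : Set (Matrix.symplecticGroup (Fin m) F ⧸ K)) = K.index := by
    rw [Nat.card_coe_set_eq, Nat.card_coe_set_eq, Set.ncard_add_ncard_compl]
    rfl
  have hnn : n * (2 ^ m - 1) + n = 2 * (n * n) := by
    rw [show 2 ^ m = 2 * n by rw [hn, ← pow_succ', show m - 1 + 1 = m by omega], Nat.mul_sub, mul_one,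
      Nat.sub_add_cancel (Nat.le_mul_of_pos_right _ (by positivity))]
    ring
  omega

/-- The closure step. -/
theorem index_of_centre (hq : Fintype.card F = 2) (hm3 : 3 ≤ m) (hK : K ≠ ⊤) {v : V} (hv : v ≠ 0)
    (hvK : v ∈ centres K) : 2 ^ (m - 1) * (2 ^ m - 1) ≤ K.index := by
  classical
  have hm : 0 < m := by omega
  have h2 := two_eq_zero hq
  by_contra hd
  rw [not_le] at hd
  have hperf : commutator (Matrix.symplecticGroup (Fin m) F) = ⊤ := commutator_of_card (Or.inl hm3)
  have hQ : ∀ s ∈ centres K, s ≠ 0 → ∀ a, ω a s = 0 → E a s ∈ K := by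
    intro s hs hs0 a ha
    obtain ⟨g, hg⟩ := exists_app_eq (v := e₁ F m hm) (w := s) (by simp [e₁]) hs0
    have hfix := rad_fixes hm K hq hK hperf hd ((g⁻¹ : Matrix.symplecticGroup (Fin m) F) : _ ⧸ K) (by
      rw [rd_one, MulAction.Quotient.smul_coe, smul_eq_mul, eq_comm, QuotientGroup.eq, inv_inv, ← mul_assoc,
        conj_T, hg]
      exact hs 1)
    set b := app g⁻¹ a with hb
    have hbe : ω b (e₁ F m hm) = 0 := by
      rw [← f_app g, hb, app_inv', hg, ha]
    set b' := b + b (.inl ⟨0, hm⟩) • e₁ F m hm with hb'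
    have hb'W : b' ∈ W 1 := by
      intro i hi
      obtain rfl : i = ⟨0, hm⟩ := Fin.ext (by simpa using hi)
      rw [f_e₁] at hbe
      constructor
      · simp [hb', e₁]; linear_combination b (.inl ⟨0, hm⟩) * h2
      · simp [hb', e₁, hbe]
    have h := hfix (⟨b', hb'W⟩, β b' b')
    rw [rd_apply, MulAction.Quotient.smul_coe, smul_eq_mul, eq_comm, QuotientGroup.eq, inv_inv, ← mul_assoc] at h
    convert h using 1
    rw [eq_mul_inv_iff_mul_eq]
    refine ext_app fun x => ?_
    rw [app_mul, app_mul, app_el hm (W_perp hm ⟨b', hb'W⟩), app_E ha, app_add, app_add, app_smul, app_smul, hg]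
    have e2 : ω (app g x) a = ω x b := by rw [hb]; conv_rhs => rw [← f_app g, app_inv']
    have e3 : ω (app g x) s = ω x (e₁ F m hm) := by rw [← hg, f_app]
    simp only [hb', f_add_right, f_smul_right, app_add, app_smul, hg, e2, e3]
    simp only [hb, app_inv']
    generalize ω x (e₁ F m hm) = B
    generalize ω x (app g⁻¹ a) = A
    generalize β (F := F) (m := m) _ _ = C
    generalize (app g⁻¹ a) (Sum.inl (⟨0, hm⟩ : Fin m)) = l
    match_scalars
    · ring
    · linear_combination (-(l * B) - C * B) * h2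
    · ring
  -- two centres that are not orthogonal give all
  have hstep : ∀ s ∈ centres K, ∀ t ∈ centres K, ω t s = 1 → ∀ y, ω y s = 1 → y ∈ centres K := by
    intro s hs t ht hts y hys
    have hs0 : s ≠ 0 := fun e => by rw [e, f_zero_right] at hys; exact zero_ne_one hys
    have hperp : ω (y + t) s = 0 := by rw [f_add_left, hys, hts]; linear_combination h2
    have h := app_mem_centres (hs (ω t y)) (app_mem_centres (hQ s hs hs0 _ hperp) ht)
    rw [app_E hperp, app_T, f_add_left, f_add_left, f_smul_left, f_smul_left, f_self, hts, hperp,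
      f_add_right, f_self, one_smul, add_zero, mul_zero, mul_zero, add_zero, add_zero, mul_one] at h
    convert h using 1
    have hcomb : t + ω t y • s + (y + t) + ω t y • s = y + (t + t) + (ω t y + ω t y) • s := by module
    rw [hcomb, show t + t = 0 by rw [← two_smul F t, h2, zero_smul],
      show ω t y + ω t y = 0 by linear_combination ω t y * h2, zero_smul, add_zero, add_zero]
  by_cases hpair : ∃ s ∈ centres K, ∃ t ∈ centres K, ω t s ≠ 0
  · obtain ⟨s, hs, t, ht, hts⟩ := hpair
    have hts : ω t s = 1 := (zero_or_one hq _).resolve_left hts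
    refine hK (eq_top_of_centres fun y => ?_)
    have hS : ∀ w, ω w s = 1 → w ∈ centres K := hstep s hs t ht hts
    have hspan : ∀ x, (∀ w, ω w s = 1 → ω x w = 0) → x = 0 := fun x hx => eq_zero_of_f x fun w => by
      rcases zero_or_one hq (ω w s) with h | h
      · have := hx (w + t) (by rw [f_add_left, h, hts, zero_add])
        rwa [f_add_right, hx t hts, add_zero] at this
      · exact hx w h
    by_cases hy0 : y = 0
    · subst hy0; exact fun c => by rw [T_zero']; exact K.one_mem
    obtain ⟨u, hu, hyu⟩ : ∃ u, ω u s = 1 ∧ ω y u ≠ 0 := by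
      by_contra hc
      push Not at hc
      exact hy0 (hspan y hc)
    obtain ⟨w, hw, huw⟩ : ∃ w, ω w s = 1 ∧ ω u w ≠ 0 := by
      by_contra hc
      push Not at hc
      exact hyu (by rw [hspan u hc, f_zero_right])
    refine hstep u (hS u hu) w (hS w hw) ?_ y ((zero_or_one hq _).resolve_left hyu)
    rw [f_swap, (zero_or_one hq _).resolve_left huw]
    linear_combination -h2
  · push Not at hpair
    set U := Submodule.span F (centres K) with hU
    have hiso : ∀ a ∈ U, ∀ b ∈ U, ω a b = 0 := by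
      intro a ha b hb
      have h1 : ∀ y ∈ centres K, ω y b = 0 := fun y hy => by
        induction hb using Submodule.span_induction with
        | mem z hz => exact hpair z hz y hy
        | zero => exact f_zero_right y
        | add p q _ _ hp hq' => rw [f_add_right, hp, hq', add_zero]
        | smul c p _ hp => rw [f_smul_right, hp, mul_zero]
      induction ha using Submodule.span_induction with
      | mem z hz => exact h1 z hz
      | zero => exact f_zero_left b
      | add p q _ _ hp hq' => rw [f_add_left, hp, hq', add_zero]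
      | smul c p _ hp => rw [f_smul_left, hp, mul_zero]
    have h := index_of_isotropic K U (fun e => hv (by
        have : v ∈ U := Submodule.subset_span hvK
        rwa [e, Submodule.mem_bot] at this)) hiso fun g hg w hw => by
      have : U.map (CfsgLib.Classical.SympStab.lin g) ≤ U := by
        rw [hU, Submodule.map_span, Submodule.span_le]
        rintro _ ⟨y, hy, rfl⟩
        exact Submodule.subset_span (app_mem_centres hg hy)
      exact this ⟨w, hw, rfl⟩
    rw [hq, show 2 - 1 = 1 from rfl, one_mul] at h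
    have h1 : 2 ^ (m - 1) * (2 ^ m - 1) ≤ 2 ^ (2 * m) - 1 := by
      have e : (2 : ℕ) ^ (2 * m) = 2 ^ (m - 1) * (2 * 2 ^ m) := by
        rw [← pow_succ', ← pow_add]; congr 1; omega
      rw [e, Nat.mul_sub, mul_one, ← mul_assoc, mul_comm _ 2, mul_assoc]
      have : 1 ≤ 2 ^ (m - 1) := Nat.one_le_two_pow
      omega
    omega

end CfsgLib.MinIndexSp.Two
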